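import Cfsg.Agent.Lib.Recog.M12Eight.Checks
import Cfsg.Agent.Lib.Invol.BrauerSuzuki
import Cfsg.Agent.Lib.Comp.ZStarAut
import Mathlib.GroupTheory.Sylow
import Mathlib.GroupTheory.Subgroup.Simple

/-!
# The central involution is not isolated
-/

set_option autoImplicit false
set_option linter.style.haveILetI false

namespace CfsgLib.Recog.M12Eight

open Subgroup

universe u

variable {G : Type u} [Group G] [Finite G]

/-- In a nonabelian simple group no involution is isolated. -/
theorem not_isolated [IsSimpleGroup G] (hna : ¬ IsMulCommutative G) {z : G}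
    (hz : Cfsg.IsIsolatedInvolution z) : False := by
  have h2 : orderOf z = 2 := hz.1
  have hz1 : z ≠ 1 := fun h => by simp [h] at h2
  have heven : ¬ Odd (Nat.card G) := fun h => by
    obtain ⟨k, hk⟩ := h
    have := h2 ▸ orderOf_dvd_natCard z
    omega
  have hbot : Cfsg.oddCore G = ⊥ := by
    refine (IsSimpleGroup.eq_bot_or_eq_top_of_normal _ inferInstance).resolve_right fun h => ?_
    have hc := CfsgLib.Invol.odd_card_oddCore G
    rw [h, Subgroup.card_top] at hc
    exact heven hc
  have hc : z ∈ Subgroup.center G := Subgroup.mem_center_iff.2 fun g => by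
    have h := CfsgLib.Invol.zstar G hz g
    rw [hbot, Subgroup.mem_bot, mul_inv_eq_one, mul_inv_eq_iff_eq_mul] at h
    exact h.symm
  rcases IsSimpleGroup.eq_bot_or_eq_top_of_normal (Subgroup.center G) inferInstance with h | h
  · exact hz1 (Subgroup.mem_bot.1 (h ▸ hc))
  · exact hna ⟨⟨fun a b => Subgroup.mem_center_iff.1 (h ▸ Subgroup.mem_top b) a⟩⟩

/-- An involution centralised by the whole of `P` which is conjugate to no other one in `P` is
isolated. -/
theorem isolated_of_sylow (P : Sylow 2 G) {z : G} (hz : orderOf z = 2)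
    (hc : (P : Subgroup G) ≤ centralizer ({z} : Set G))
    (h : ∀ g : G, g * z * g⁻¹ ∈ (P : Subgroup G) → g * z * g⁻¹ = z) :
    Cfsg.IsIsolatedInvolution z := by
  refine ⟨hz, fun g hg => ?_⟩
  set w := g * z * g⁻¹ with hw
  have hw2 : w * w = 1 := by
    have : z * z = 1 := by rw [← pow_two, ← hz, pow_orderOf_eq_one]
    calc w * w = g * (z * z) * g⁻¹ := by rw [hw]; group
      _ = 1 := by rw [this]; group
  have hwC : zpowers w ≤ centralizer ({z} : Set G) :=
    zpowers_le.2 (mem_centralizer_singleton_iff.2 hg.eq.symm)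
  have hwo : IsPGroup 2 (zpowers w) := by
    intro a
    refine ⟨1, Subtype.ext ?_⟩
    obtain ⟨k, hk⟩ := mem_zpowers_iff.1 a.2
    have hb : w ^ 2 = 1 := by rw [pow_two]; exact hw2
    rw [SubmonoidClass.coe_pow, OneMemClass.coe_one, pow_one, ← hk, ← zpow_natCast, ← zpow_mul,
      mul_comm, zpow_mul, zpow_natCast, hb, one_zpow]
  obtain ⟨c, hc', hcw⟩ := CfsgLib.Comp.exists_conj_le_sylow P hc hwC hwo
  have hcz : c * z = z * c := mem_centralizer_singleton_iff.1 hc'
  have e := h (c * g) (by
    have := hcw w (mem_zpowers w)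
    rwa [hw, show c * (g * z * g⁻¹) * c⁻¹ = c * g * z * (c * g)⁻¹ by group] at this)
  calc w = c⁻¹ * (c * g * z * (c * g)⁻¹) * c := by rw [hw]; group
    _ = z := by rw [e, mul_assoc, ← hcz, inv_mul_cancel_left]

/-- A conjugation onto a centralised element may be chosen to send the local Sylow piece into
`P`. -/
theorem exists_extremal (P : Sylow 2 G) {z t : G}
    (hc : (P : Subgroup G) ≤ centralizer ({z} : Set G)) {g : G} (hg : g * t * g⁻¹ = z) :
    ∃ g' : G, g' * t * g'⁻¹ = z ∧ ∀ a ∈ (P : Subgroup G), a * t = t * a →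
      g' * a * g'⁻¹ ∈ (P : Subgroup G) ∧ g' * a * g'⁻¹ * z = z * (g' * a * g'⁻¹) := by
  let T : Subgroup G :=
    ((P : Subgroup G) ⊓ centralizer ({t} : Set G)).map (MulAut.conj g).toMonoidHom
  have hTC : T ≤ centralizer ({z} : Set G) := by
    rintro _ ⟨a, ha, rfl⟩
    have hat : a * t = t * a := mem_centralizer_singleton_iff.1 ha.2
    rw [mem_centralizer_singleton_iff, ← hg]
    show g * a * g⁻¹ * (g * t * g⁻¹) = g * t * g⁻¹ * (g * a * g⁻¹)
    calc g * a * g⁻¹ * (g * t * g⁻¹) = g * (a * t) * g⁻¹ := by group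
      _ = _ := by rw [hat]; group
  obtain ⟨c, hc', hcT⟩ :=
    CfsgLib.Comp.exists_conj_le_sylow P hc hTC ((P.2.to_le inf_le_left).map _)
  have hcz : c * z = z * c := mem_centralizer_singleton_iff.1 hc'
  refine ⟨c * g, ?_, fun a ha hat => ?_⟩
  · calc c * g * t * (c * g)⁻¹ = c * (g * t * g⁻¹) * c⁻¹ := by group
      _ = z := by rw [hg, hcz, mul_inv_cancel_right]
  · have h1 := hcT _ (mem_map_of_mem (MulAut.conj g).toMonoidHom
      (show a ∈ (P : Subgroup G) ⊓ centralizer ({t} : Set G) from
        ⟨ha, mem_centralizer_singleton_iff.2 hat⟩))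
    have e : c * g * a * (c * g)⁻¹ = c * ((MulAut.conj g).toMonoidHom a) * c⁻¹ := by
      rw [MulEquiv.coe_toMonoidHom, MulAut.conj_apply]; group
    rw [e]
    exact ⟨h1, mem_centralizer_singleton_iff.1 (hc h1)⟩

end CfsgLib.Recog.M12Eight
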