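import Cfsg.Agent.Lib.Recog.M12Eight.Coord
import Mathlib.Data.List.Range

/-!
# Table checks on extremal images
-/

set_option autoImplicit false

namespace CfsgLib.Recog.M12Eight

variable (e d m : ℕ)

/-- An involution number. -/
def isInv (n : ℕ) : Bool := n != 0 && mul e d m n n == 0

/-- Commuting numbers. -/
def cm (a b : ℕ) : Bool := mul e d m a b == mul e d m b a

/-- Square roots of `w` commuting with `t`. -/
def roots (t w : ℕ) : List ℕ :=
  (List.range 64).filter fun a => mul e d m a a == w && cm e d m a t

/-- A root of `w` inverted by an involution, both commuting with `t`. -/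
def pairOf (t w : ℕ) : Bool :=
  (roots e d m t w).any fun a => (List.range 64).any fun b =>
    mul e d m b b == 0 && cm e d m b t &&
      mul e d m (mul e d m b a) b == mul e d m a (mul e d m a a)

/-- `t` has no extremal image at which `4` goes to an allowed number. -/
def killed (ex : Bool) (t : ℕ) : Bool :=
  (List.range 64).all fun w => !(isInv e d m w && w != 4 && !(ex && (w == 8 || w == 12))) ||
    ((pairOf e d m t 4 && !pairOf e d m w w) ||
      (roots e d m w w).length < (roots e d m t 4).length)

/-- Conjugate numbers. -/
def cj (a b : ℕ) : Bool := (List.range 64).any fun k => mul e d m k a == mul e d m b k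

/-- The centraliser of `t` is `⟨t⟩ × {0,4,8,12}`, with all of the outer coset conjugate to `t`. -/
def small (t : ℕ) : Bool :=
  ((List.range 64).all fun c => !cm e d m c t ||
    [0, 4, 8, 12, t, mul e d m t 4, mul e d m t 8, mul e d m t 12].contains c) &&
  cj e d m t (mul e d m t 4) && cj e d m t (mul e d m t 8) && cj e d m t (mul e d m t 12) &&
  cm e d m 8 t && cm e d m 12 t

/-- Every involution outside `⟨z, x⟩` is killed or small. -/
def outerOk : Bool :=
  (List.range 64).all fun t => !(isInv e d m t && t != 4 && t != 8 && t != 12) ||
    killed e d m true t || small e d m t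

theorem outerOk_all : ∀ e < 2, ∀ d < 2, ∀ m < 2, outerOk e d m = true := by decide +kernel

theorem killed_eight : ∀ e < 2, ∀ d < 2, ∀ m < 2, e = 0 ∧ d = 0 ∧ m = 0 ∨
    (killed e d m false 8 && killed e d m false 12) = true := by decide +kernel

end CfsgLib.Recog.M12Eight
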