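import Cfsg.Agent.Lib.Recog.M12Eight.ChecksZero

/-!
# Table facts about the elementary subgroup of order eight in `Q`
-/

set_option autoImplicit false
set_option maxRecDepth 100000

namespace CfsgLib.Recog.M12Eight

/-- The three cosets of `⟨z⟩` in `E` outside it. -/
def co (k n : ℕ) : Bool :=
  match k with
  | 0 => n == 8 || n == 12
  | 1 => n == 32 || n == 36
  | _ => n == 40 || n == 44

theorem inE_facts : (∀ u < 64, ∀ v < 64, inE u = true → inE v = true → inE (mul0 u v) = true) ∧
    (∀ u < 64, inE u = true → inQ u = true ∧ mul0 u u = 0) := by decide +kernel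

theorem inE_iff : ∀ u < 64, inE u = (u == 0 || u == 4 || co 0 u || co 1 u || co 2 u) := by
  decide +kernel

theorem cent_E : ∀ v < 64, inQ v = true → (∀ e < 64, inE e = true → cm 0 0 0 e v = true) →
    inE v = true := by decide +kernel

theorem one_coset : ∀ v < 64, inQ v = true → inE v = false → ((List.range 3).any fun k =>
    (List.range 64).all fun e => !inE e || (cm 0 0 0 e v == (e == 0 || e == 4 || co k e))) = true := by
  decide +kernel

theorem outer_swap : ∀ n < 64, inQ n = false →
    (mul0 n 32 = mul0 40 n ∨ mul0 n 32 = mul0 44 n) ∧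
    (mul0 n 8 = mul0 8 n ∨ mul0 n 8 = mul0 12 n) := by decide +kernel

theorem inner_fix : ∀ n < 64, inQ n = true → ∀ e < 64, inE e = true →
    mul0 n e = mul0 e n ∨ mul0 n e = mul0 (mul0 e 4) n := by decide +kernel

theorem comm_z : ∀ a < 64, ∀ b < 64, inQ a = true → inQ b = true →
    mul0 a b = mul0 b a ∨ mul0 a b = mul0 (mul0 b a) 4 := by decide +kernel

end CfsgLib.Recog.M12Eight
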