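import Cfsg.Agent.Lib.Recog.M12Eight.Checks

/-!
# Table facts about the Sylow subgroup of `M₁₂`
-/

set_option autoImplicit false
set_option maxRecDepth 100000

namespace CfsgLib.Recog.M12Eight

/-- A homomorphism onto the group of order two. -/
def par (a b c : Bool) (n : ℕ) : Bool :=
  xor (xor (a && n % 2 == 1) (b && n / 16 % 2 == 1)) (c && n / 32 % 2 == 1)

/-- The extraspecial maximal subgroup. -/
def inQ (n : ℕ) : Bool := !par true true false n

/-- The elementary subgroup of order eight in it. -/
def inE (n : ℕ) : Bool := [0, 4, 8, 12, 32, 36, 40, 44].contains n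

theorem par_mul : ∀ a b c : Bool, ∀ u < 64, ∀ v < 64,
    par a b c (mul0 u v) = xor (par a b c u) (par a b c v) := by decide +kernel

theorem inv_rep : ∀ n < 64, isInv 0 0 0 n = true →
    ([4, 8, 16, 17, 32, 34, 49].any fun r => cj 0 0 0 n r) = true := by decide +kernel

theorem rep_par : ∀ r ∈ [4, 8, 16, 17, 32, 34, 49], ∀ n < 64, ∀ a b c : Bool,
    cj 0 0 0 n r = true → par a b c n = par a b c r := by decide +kernel

theorem roots_in_Q : ∀ n < 64, mul0 n n = 4 → inQ n = true := by decide +kernel

theorem Q_gen : ∀ n < 64, inQ n = true → ((List.range 64).any fun a => (List.range 64).any fun b =>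
    mul0 a a == 4 && mul0 b b == 4 && mul0 a b == n) = true := by decide +kernel

theorem big_centraliser : ∀ t < 64, mul0 t t = 0 →
    16 < ((List.range 64).filter fun c => cm 0 0 0 c t).length → [0, 4, 8, 12].contains t = true :=
  by decide +kernel

theorem root_square : ∀ t ∈ [32, 34], ∀ c < 64, cm 0 0 0 c t = true →
    [0, 4].contains (mul0 c c) = true := by decide +kernel

end CfsgLib.Recog.M12Eight
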