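import Cfsg.Agent.Lib.Recog.M12Eight.Fusion

/-!
# The classes of involutions
-/

set_option autoImplicit false
set_option linter.unusedSectionVars false

namespace CfsgLib.Recog.M12Eight

open Subgroup

universe u

variable {G : Type u} [Group G] [Finite G] {P : Sylow 2 G} {f x y q : G}

/-- Renumbering for `q' = f²q`, `y' = f²y`. -/
def swapN (n : ℕ) : ℕ :=
  mul0 (mul0 (n % 8 + 8 * (n / 8 % 2)) (if n / 16 % 2 = 0 then 0 else 18))
    (if n / 32 % 2 = 0 then 0 else 34)

theorem swapN_lt (n : ℕ) : swapN n < 64 := by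
  unfold swapN
  exact mul_lt (mul_lt (by omega))

theorem swapN_inj : ∀ u < 64, ∀ v < 64, swapN u = swapN v → u = v := by decide +kernel

theorem swapN_surj : ∀ u < 64, ((List.range 64).any fun v => swapN v == u) = true := by
  decide +kernel

theorem swapN_rel : mul0 18 1 = mul0 7 18 ∧ mul0 18 8 = mul0 8 18 ∧ mul0 18 18 = 0 ∧
    mul0 34 1 = mul0 (mul0 1 8) 34 ∧ mul0 34 8 = mul0 8 34 ∧ mul0 34 34 = 0 ∧
    mul0 34 18 = mul0 (mul0 8 18) 34 ∧ swapN 16 = 18 ∧ swapN 17 = 19 ∧ swapN 32 = 34 ∧
    swapN 34 = 36 ∧ swapN 4 = 4 ∧ swapN 8 = 8 := by decide +kernel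

/-- The other choice of `q`. -/
theorem Coords.swap {S : Subgroup G} (C : Coords 0 0 0 S f x y q) :
    ∃ y' q' : G, Coords 0 0 0 S f x y' q' ∧ ∀ n, el f x y' q' n = el f x y q (swapN n) := by
  obtain ⟨h1, h2, h3, h4, h5, h6, h7, -⟩ := swapN_rel
  set R := C.toRel
  have ef : el f x y q 1 = f := by simp [el]
  have ex : el f x y q 8 = x := by simp [el]
  have e0 : el f x y q 0 = 1 := by simp [el]
  have e7 : el f x y q 7 = f ^ 7 := by simp [el]
  have e18 : el f x y q 18 = f ^ 2 * y := by simp [el]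
  have e34 : el f x y q 34 = f ^ 2 * q := by simp [el]
  have em : ∀ u v, el f x y q (mul0 u v) = el f x y q u * el f x y q v := fun u v =>
    (R.el_mul u v).symm
  have R' : Rel 0 0 0 f x (el f x y q 18) (el f x y q 34) := by
    refine ⟨R.f8, R.xx, R.xf, ?_, ?_, ?_, ?_, ?_, ?_, ?_⟩
    · have := congrArg (el f x y q) h1; rwa [em, em, ef, e7] at this
    · have := congrArg (el f x y q) h2; rwa [em, em, ex] at this
    · rw [← em, h3, e0, mul_zero, pow_zero]
    · have := congrArg (el f x y q) h4; rwa [em, em, em, ef, ex] at this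
    · have := congrArg (el f x y q) h5; rwa [em, em, ex] at this
    · rw [← em, h6, e0, mul_zero, pow_zero]
    · rw [mul_zero, pow_zero, one_mul]
      have := congrArg (el f x y q) h7; rwa [em, em, em, ex] at this
  have key : ∀ n, el f x (el f x y q 18) (el f x y q 34) n = el f x y q (swapN n) := by
    intro n
    have e : el f x y q (n % 8 + 8 * (n / 8 % 2)) = f ^ (n % 8) * x ^ (n / 8 % 2) := by
      simp only [el, show (n % 8 + 8 * (n / 8 % 2)) % 8 = n % 8 by omega,
        show (n % 8 + 8 * (n / 8 % 2)) / 8 % 2 = n / 8 % 2 by omega,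
        show (n % 8 + 8 * (n / 8 % 2)) / 16 % 2 = 0 by omega,
        show (n % 8 + 8 * (n / 8 % 2)) / 32 % 2 = 0 by omega, pow_zero, mul_one]
    rw [swapN, em, em, e]
    show f ^ (n % 8) * x ^ (n / 8 % 2) * (el f x y q 18) ^ (n / 16 % 2) *
      (el f x y q 34) ^ (n / 32 % 2) = _
    rcases Nat.mod_two_eq_zero_or_one (n / 16) with hb | hb <;>
      rcases Nat.mod_two_eq_zero_or_one (n / 32) with hc | hc <;> simp [hb, hc, e0]
  refine ⟨_, _, ⟨R', fun n => by rw [key]; exact C.mem _, fun g hg => ?_,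
    fun u hu v hv h => ?_⟩, key⟩
  · obtain ⟨n, hn, rfl⟩ := C.surj g hg
    obtain ⟨v, hv, hv'⟩ := List.any_eq_true.1 (swapN_surj n hn)
    exact ⟨v, List.mem_range.1 hv, by rw [key, beq_iff_eq.1 hv']⟩
  · rw [key, key] at h
    exact swapN_inj u hu v hv (C.inj _ (swapN_lt u) _ (swapN_lt v) h)

/-- What is proved about the classes. -/
structure Classes (C : Coords 0 0 0 (P : Subgroup G) f x y q) : Prop where
  hx : IsConj (el f x y q 4) (el f x y q 8)
  hq : IsConj (el f x y q 32) (el f x y q 4)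
  ha : ¬ IsConj (el f x y q 17) (el f x y q 4)
  hb : IsConj (el f x y q 34) (el f x y q 17)
  hd : IsConj (el f x y q 49) (el f x y q 17)
  hy : IsConj (el f x y q 16) (el f x y q 4) ∨ IsConj (el f x y q 16) (el f x y q 17)

theorem classes_pre [IsSimpleGroup G] (hna : ¬ IsMulCommutative G)
    (C : Coords 0 0 0 (P : Subgroup G) f x y q) (hx : IsConj (el f x y q 4) (el f x y q 8))
    (htwo : ∃ s t : G, orderOf s = 2 ∧ orderOf t = 2 ∧ ¬ IsConj s t) :
    ¬ IsConj (el f x y q 17) (el f x y q 4) ∧ IsConj (el f x y q 49) (el f x y q 17) ∧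
    (IsConj (el f x y q 34) (el f x y q 17) ∨ IsConj (el f x y q 32) (el f x y q 17)) ∧
    ∀ r ∈ [16, 32, 34], IsConj (el f x y q r) (el f x y q 4) ∨
      IsConj (el f x y q r) (el f x y q 17) := by
  have Z8 : IsConj (el f x y q 8) (el f x y q 4) := hx.symm
  -- the four transfers
  have T1 : ∀ r, r = 16 ∨ r = 17 ∨ r = 32 ∨ r = 34 → IsConj (el f x y q r) (el f x y q 4) ∨
      IsConj (el f x y q r) (el f x y q 49) := fun r hr => by
    obtain ⟨s, hs, hp, hc⟩ := transfer_rep hna C false true true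
      (show r < 64 by omega) (by rcases hr with rfl | rfl | rfl | rfl <;> rfl) (by omega)
      (by rcases hr with rfl | rfl | rfl | rfl <;> decide +kernel)
    simp only [List.mem_cons, List.not_mem_nil, or_false] at hs
    rcases hs with rfl | rfl | rfl | rfl | rfl | rfl | rfl <;> simp [par] at hp
    · exact Or.inl hc
    · exact Or.inl (hc.trans Z8)
    · exact Or.inr hc
  have T2 : ∀ r, r = 16 ∨ r = 32 ∨ r = 34 ∨ r = 49 → IsConj (el f x y q r) (el f x y q 4) ∨
      IsConj (el f x y q r) (el f x y q 17) := fun r hr => by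
    obtain ⟨s, hs, hp, hc⟩ := transfer_rep hna C true true true
      (show r < 64 by omega) (by rcases hr with rfl | rfl | rfl | rfl <;> rfl) (by omega)
      (by rcases hr with rfl | rfl | rfl | rfl <;> decide +kernel)
    simp only [List.mem_cons, List.not_mem_nil, or_false] at hs
    rcases hs with rfl | rfl | rfl | rfl | rfl | rfl | rfl <;> simp [par] at hp
    · exact Or.inl hc
    · exact Or.inl (hc.trans Z8)
    · exact Or.inr hc
  have ha : ¬ IsConj (el f x y q 17) (el f x y q 4) := fun ha => by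
    obtain ⟨s, t, hs, ht, hne⟩ := htwo
    have all4 : ∀ u : G, orderOf u = 2 → IsConj u (el f x y q 4) := fun u hu => by
      obtain ⟨g, hg⟩ := CfsgLib.Invol.exists_conj_invol_mem_sylow P hu
      obtain ⟨n, hn, hng⟩ := C.surj _ hg
      have hno : orderOf (el f x y q n) = 2 := by
        rw [hng, ← MulAut.conj_apply, MulEquiv.orderOf_eq, hu]
      obtain ⟨r, hr, -, hc⟩ := isConj_rep C hn hno
      refine ((isConj_iff.2 ⟨g, hng.symm⟩ : IsConj u (el f x y q n)).trans hc).trans ?_
      simp only [List.mem_cons, List.not_mem_nil, or_false] at hr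
      rcases hr with rfl | rfl | rfl | rfl | rfl | rfl | rfl
      · exact IsConj.refl _
      · exact Z8
      · exact (T2 16 (Or.inl rfl)).elim id (·.trans ha)
      · exact ha
      · exact (T2 32 (Or.inr (Or.inl rfl))).elim id (·.trans ha)
      · exact (T2 34 (Or.inr (Or.inr (Or.inl rfl)))).elim id (·.trans ha)
      · exact (T2 49 (Or.inr (Or.inr (Or.inr rfl)))).elim id (·.trans ha)
    exact hne ((all4 s hs).trans (all4 t ht).symm)
  have had : IsConj (el f x y q 49) (el f x y q 17) :=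
    ((T1 17 (Or.inr (Or.inl rfl))).resolve_left ha).symm
  refine ⟨ha, had, ?_, fun r hr => T2 r ?_⟩
  · obtain ⟨s, hs, hp, hc⟩ := transfer_rep hna C false true false
      (show 17 < 64 by norm_num) rfl (by norm_num) (by decide +kernel)
    simp only [List.mem_cons, List.not_mem_nil, or_false] at hs
    rcases hs with rfl | rfl | rfl | rfl | rfl | rfl | rfl <;> simp [par] at hp
    · exact absurd hc ha
    · exact absurd (hc.trans Z8) ha
    · exact Or.inr hc.symm
    · exact Or.inl hc.symm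
  · simp only [List.mem_cons, List.not_mem_nil, or_false] at hr
    rcases hr with rfl | rfl | rfl <;> simp

theorem centraliser_17 : ∀ c < 64, cm 0 0 0 c 17 = true → mul0 c c = 4 → cm 0 0 0 4 17 = true := by
  decide +kernel

theorem root_17 : ((List.range 64).any fun c => cm 0 0 0 c 17 && mul0 c c == 4) = true := by
  decide +kernel

theorem outer_17 : inQ 17 = true ∧ inQ 34 = true ∧ inQ 38 = true ∧ inQ 8 = true ∧
    cm 0 0 0 8 17 = false ∧ cm 0 0 0 8 34 = true ∧ cm 0 0 0 8 38 = true ∧
    cm 0 0 0 12 34 = true ∧ cm 0 0 0 12 38 = true ∧ cm 0 0 0 12 17 = false ∧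
    mul0 34 34 = 0 ∧ mul0 17 17 = 0 ∧ mul0 34 4 = 38 := by decide +kernel

theorem q_class : ∀ n < 64, inQ n = true → isInv 0 0 0 n = true →
    ([4, 8, 12].contains n || cj 0 0 0 n 17 || cj 0 0 0 n 32 || cj 0 0 0 n 34 || cj 0 0 0 n 49)
      = true := by decide +kernel

theorem card_centraliser (C : Coords 0 0 0 (P : Subgroup G) f x y q) {n : ℕ} (hn : n < 64) :
    Nat.card ((P : Subgroup G) ⊓ centralizer ({el f x y q n} : Set G) : Subgroup G) =
      ((List.range 64).filter fun a => cm 0 0 0 a n).length := by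
  classical
  set L := (List.range 64).filter fun a => cm 0 0 0 a n
  have hmem : ∀ {a}, a ∈ L.toFinset ↔ a < 64 ∧ cm 0 0 0 a n = true := fun {a} => by
    simp [L, List.mem_filter]
  rw [← List.toFinset_card_of_nodup (List.nodup_range.filter _ : L.Nodup),
    ← Nat.card_eq_finsetCard]
  refine (Nat.card_congr (Equiv.ofBijective (fun a : L.toFinset =>
    (⟨el f x y q a, C.mem a, mem_centralizer_singleton_iff.2
      ((C.comm_iff (hmem.1 a.2).1 hn).2 (beq_iff_eq.1 (hmem.1 a.2).2))⟩ :
      ((P : Subgroup G) ⊓ centralizer ({el f x y q n} : Set G) : Subgroup G))) ⟨?_, ?_⟩)).symm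
  · intro a b hab
    exact Subtype.ext (C.inj _ (hmem.1 a.2).1 _ (hmem.1 b.2).1 (congrArg Subtype.val hab))
  · rintro ⟨g, hgP, hgC⟩
    obtain ⟨a, ha, rfl⟩ := C.surj g hgP
    exact ⟨⟨a, hmem.2 ⟨ha, beq_iff_eq.2
      ((C.comm_iff ha hn).1 (mem_centralizer_singleton_iff.1 hgC))⟩⟩, rfl⟩

/-- For `s` with centraliser of order 16 in `P` not conjugate to `z`, that group is a Sylow
2-subgroup of the centraliser: any 2-subgroup of it is carried into it. -/
theorem centraliser_extremal (C : Coords 0 0 0 (P : Subgroup G) f x y q) {s : ℕ}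
    (hs : s < 64) (hs0 : s ≠ 0) (hs2 : mul0 s s = 0)
    (h16 : ((List.range 64).filter fun a => cm 0 0 0 a s).length = 16)
    (hsz : ¬ IsConj (el f x y q s) (el f x y q 4))
    (hx : IsConj (el f x y q 4) (el f x y q 8)) {D : Subgroup G} (hD : IsPGroup 2 D)
    (hDC : D ≤ centralizer ({el f x y q s} : Set G)) :
    ∃ k ∈ centralizer ({el f x y q s} : Set G), ∀ a ∈ D,
      k * a * k⁻¹ ∈ (P : Subgroup G) ⊓ centralizer ({el f x y q s} : Set G) := by
  set Cs := centralizer ({el f x y q s} : Set G) with hCs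
  obtain ⟨T, hT⟩ := ((P.2.to_le (inf_le_left : (P : Subgroup G) ⊓ Cs ≤ _)).comap_of_injective
    Cs.subtype Cs.subtype_injective).exists_le_sylow
  obtain ⟨T', hT'⟩ := (hD.comap_of_injective Cs.subtype Cs.subtype_injective).exists_le_sylow
  obtain ⟨k, hk⟩ := MulAction.exists_smul_eq Cs T' T
  obtain ⟨h0, hh0⟩ := CfsgLib.Invol.exists_conj_mem_sylow P (T.2.map Cs.subtype)
  have hle : (P : Subgroup G) ⊓ Cs ≤ (T : Subgroup Cs).map Cs.subtype := fun a ha =>
    ⟨⟨a, ha.2⟩, hT ha, rfl⟩
  have heq : (T : Subgroup Cs).map Cs.subtype ≤ (P : Subgroup G) ⊓ Cs := by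
    refine (eq_of_le_of_card_ge hle ?_).ge
    rw [show Nat.card ((P : Subgroup G) ⊓ Cs : Subgroup G) = 16 from
      (card_centraliser C hs).trans h16]
    by_contra hgt
    obtain ⟨n, hn, hns⟩ := C.surj _ (hh0 _ (hle ⟨C.mem s, mem_centralizer_singleton_iff.2 rfl⟩))
    have hmap : ((T : Subgroup Cs).map Cs.subtype).map (MulAut.conj h0).toMonoidHom ≤
        (P : Subgroup G) ⊓ centralizer ({el f x y q n} : Set G) := by
      rintro _ ⟨_, ⟨a, ha, rfl⟩, rfl⟩
      refine ⟨hh0 _ ⟨a, ha, rfl⟩, ?_⟩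
      have ha' := mem_centralizer_singleton_iff.1 a.2
      rw [hns]
      refine mem_centralizer_singleton_iff.2 ?_
      simp only [MulEquiv.coe_toMonoidHom, MulAut.conj_apply, Subgroup.coe_subtype]
      calc h0 * (a : G) * h0⁻¹ * (h0 * el f x y q s * h0⁻¹)
          = h0 * ((a : G) * el f x y q s) * h0⁻¹ := by group
        _ = _ := by rw [ha']; group
    have hle16 := Subgroup.card_le_of_le hmap
    rw [Subgroup.card_map_of_injective (MulAut.conj h0).injective, card_centraliser C hn] at hle16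
    have hno : orderOf (el f x y q n) = 2 := by
      rw [hns, ← MulAut.conj_apply, MulEquiv.orderOf_eq, C.orderOf_two hs hs0 hs2]
    have hn2 : mul0 n n = 0 := (C.sq_eq_one_iff hn).1 (by
      rw [← pow_two, ← hno, pow_orderOf_eq_one])
    have hbig := big_centraliser n hn hn2 (by omega)
    simp only [List.contains_iff_mem, List.mem_cons, List.not_mem_nil, or_false] at hbig
    have hsn : IsConj (el f x y q s) (el f x y q n) := isConj_iff.2 ⟨h0, hns.symm⟩
    rcases hbig with rfl | rfl | rfl | rfl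
    · rw [(C.eq_one_iff (by norm_num)).2 rfl] at hno
      simp at hno
    · exact hsz hsn
    · exact hsz (hsn.trans hx.symm)
    · exact hsz (hsn.trans ((C.isConj_of_cj (four_eight 0 (by norm_num) 0 (by norm_num) 0
        (by norm_num)).2.2.2.2.2).symm.trans hx.symm))
  refine ⟨k, k.2, fun a ha => heq ⟨k * ⟨a, hDC ha⟩ * k⁻¹, ?_, rfl⟩⟩
  rw [← hk]
  exact ⟨⟨a, hDC ha⟩, hT' ha, rfl⟩

/-- Such a conjugation can be moved into the centraliser of `z` when `z` is the only involution
square in the centraliser of `s`. -/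
theorem conj_in_centralizer (C : Coords 0 0 0 (P : Subgroup G) f x y q) {s t : ℕ}
    (hs : s < 64) (ht : t < 64) (hs0 : s ≠ 0) (hs2 : mul0 s s = 0)
    (h16 : ((List.range 64).filter fun a => cm 0 0 0 a s).length = 16)
    (hroot : ∀ a < 64, cm 0 0 0 a s = true → [0, 4].contains (mul0 a a) = true)
    (hct : ((List.range 64).any fun c => cm 0 0 0 c t && mul0 c c == 4) = true)
    (hsz : ¬ IsConj (el f x y q s) (el f x y q 4))
    (hx : IsConj (el f x y q 4) (el f x y q 8))
    (h : IsConj (el f x y q t) (el f x y q s)) :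
    ∃ g ∈ centralizer ({el f x y q 4} : Set G),
      g * el f x y q t * g⁻¹ = el f x y q s := by
  obtain ⟨c, hc, hcc⟩ := List.any_eq_true.1 hct
  simp only [Bool.and_eq_true, beq_iff_eq, List.mem_range] at hc hcc
  obtain ⟨g0, hg0⟩ := isConj_iff.1 h
  set Ct := (P : Subgroup G) ⊓ centralizer ({el f x y q t} : Set G)
  have hDC : Ct.map (MulAut.conj g0).toMonoidHom ≤ centralizer ({el f x y q s} : Set G) := by
    rintro _ ⟨a, ha, rfl⟩
    have hat := mem_centralizer_singleton_iff.1 ha.2
    rw [mem_centralizer_singleton_iff, ← hg0]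
    simp only [MulEquiv.coe_toMonoidHom, MulAut.conj_apply]
    calc g0 * a * g0⁻¹ * (g0 * el f x y q t * g0⁻¹) = g0 * (a * el f x y q t) * g0⁻¹ := by group
      _ = _ := by rw [hat]; group
  obtain ⟨k, hk, hkD⟩ := centraliser_extremal C hs hs0 hs2 h16 hsz hx
    ((P.2.to_le inf_le_left).map _) hDC
  have hcC : el f x y q c ∈ Ct := ⟨C.mem c, mem_centralizer_singleton_iff.2
    ((C.comm_iff hc ht).2 (beq_iff_eq.1 hcc.1))⟩
  have him := hkD _ (mem_map_of_mem _ hcC)
  simp only [MulEquiv.coe_toMonoidHom, MulAut.conj_apply] at him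
  obtain ⟨b, hb, hb'⟩ := C.surj _ him.1
  have hbs : cm 0 0 0 b s = true := beq_iff_eq.2 ((C.comm_iff hb hs).1 (by
    rw [hb']; exact mem_centralizer_singleton_iff.1 him.2))
  have hbb := hroot b hb hbs
  have e : el f x y q (mul0 b b) = k * g0 * el f x y q 4 * (k * g0)⁻¹ := by
    rw [← hcc.2]
    show el f x y q (mul 0 0 0 b b) = k * g0 * el f x y q (mul 0 0 0 c c) * (k * g0)⁻¹
    rw [← C.toRel.el_mul, ← C.toRel.el_mul, hb']
    group
  simp only [List.contains_iff_mem, List.mem_cons, List.not_mem_nil, or_false] at hbb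
  rcases hbb with hbb | hbb <;> rw [hbb] at e
  · exfalso
    rw [(C.eq_one_iff (by norm_num)).2 rfl, eq_comm, mul_inv_eq_one] at e
    have h4 : el f x y q 4 = 1 := mul_left_cancel (e.trans (mul_one _).symm)
    exact absurd ((C.eq_one_iff (by norm_num)).1 h4) (by norm_num)
  · refine ⟨k * g0, mem_centralizer_singleton_iff.2 (mul_inv_eq_iff_eq_mul.1 e.symm), ?_⟩
    rw [show k * g0 * el f x y q t * (k * g0)⁻¹ = k * (g0 * el f x y q t * g0⁻¹) * k⁻¹ by group,
      hg0, mem_centralizer_singleton_iff.1 hk, mul_inv_cancel_right]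

/-- The `z`-class meets `Q` outside `⟨z, x⟩`. -/
theorem q_isConj (C : Coords 0 0 0 (P : Subgroup G) f x y q)
    (hx : IsConj (el f x y q 4) (el f x y q 8))
    (ha : ¬ IsConj (el f x y q 17) (el f x y q 4))
    (had : IsConj (el f x y q 49) (el f x y q 17))
    (hb : IsConj (el f x y q 34) (el f x y q 17))
    (hq : IsConj (el f x y q 32) (el f x y q 4) ∨ IsConj (el f x y q 32) (el f x y q 17)) :
    IsConj (el f x y q 32) (el f x y q 4) := by
  refine hq.resolve_right fun hq' => ?_
  obtain ⟨g, hg, hgt⟩ := conj_in_centralizer C (s := 34) (t := 17) (by norm_num) (by norm_num)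
    (by norm_num) (by decide +kernel) (by decide +kernel) (root_square 34 (by simp))
    (by decide +kernel) (fun h => ha (hb.symm.trans h)) hx hb.symm
  obtain ⟨h17, h34, h38, h8, c817, c834, c838, c1234, c1238, c1217, -⟩ := outer_17
  have mQ : ∀ n < 64, inQ n = true → el f x y q n ∈ parSub C true true false := fun n hn h => by
    rw [mem_parSub C hn]; simpa [inQ] using h
  obtain ⟨n, hn, hn'⟩ := conj_in_NQ C (mQ 34 (by norm_num) h34) (mQ 17 (by norm_num) h17) hg hgt
  obtain ⟨hnC, hnN⟩ := hn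
  have hnz : n * el f x y q 4 * n⁻¹ = el f x y q 4 := by
    rw [mem_centralizer_singleton_iff.1 hnC, mul_inv_cancel_right]
  obtain ⟨k, hk, hkp, hk'⟩ := (mem_normalizer_iff.1 hnN _).1 (mQ 8 (by norm_num) h8)
  have hk' : el f x y q k = n * el f x y q 8 * n⁻¹ := hk'
  have hkc : IsConj (el f x y q k) (el f x y q 4) :=
    (isConj_iff.2 ⟨n, hk'.symm⟩ : IsConj (el f x y q 8) (el f x y q k)).symm.trans hx.symm
  have hk0 : k ≠ 0 := fun h => by
    rw [h, (C.eq_one_iff (by norm_num)).2 rfl, eq_comm, mul_inv_eq_one] at hk'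
    exact absurd ((C.eq_one_iff (by norm_num)).1 (mul_left_cancel (hk'.trans (mul_one n).symm)))
      (by norm_num)
  have hkinv : isInv 0 0 0 k = true := by
    have : mul 0 0 0 k k = 0 := (C.sq_eq_one_iff hk).1 (by
      rw [hk', show n * el f x y q 8 * n⁻¹ * (n * el f x y q 8 * n⁻¹) =
        n * (el f x y q 8 * el f x y q 8) * n⁻¹ by group,
        (C.sq_eq_one_iff (by norm_num)).2 (by decide +kernel)]
      group)
    simp [isInv, hk0, this]
  have hk2 : k = 8 ∨ k = 12 := by
    have := q_class k hk (by simpa [inQ] using hkp) hkinv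
    simp only [Bool.or_eq_true, List.contains_iff_mem, List.mem_cons, List.not_mem_nil,
      or_false] at this
    rcases this with (((h | h) | h) | h) | h
    · rcases h with rfl | rfl | rfl
      · exfalso
        have e := hk'.symm.trans hnz.symm
        have := C.inj 8 (by norm_num) 4 (by norm_num) (mul_left_cancel (mul_right_cancel e))
        omega
      · exact Or.inl rfl
      · exact Or.inr rfl
    · exact absurd ((C.isConj_of_cj h).symm.trans hkc) ha
    · exact absurd (hq'.symm.trans ((C.isConj_of_cj h).symm.trans hkc)) ha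
    · exact absurd (hb.symm.trans ((C.isConj_of_cj h).symm.trans hkc)) ha
    · exact absurd (had.symm.trans ((C.isConj_of_cj h).symm.trans hkc)) ha
  obtain ⟨w, hw, hw'⟩ : ∃ w, (w = 34 ∨ w = 38) ∧ n * el f x y q 17 * n⁻¹ = el f x y q w := by
    rcases hn' with h | h
    · exact ⟨34, Or.inl rfl, h⟩
    · refine ⟨38, Or.inr rfl, h.trans ?_⟩
      rw [C.toRel.el_mul]; rfl
  -- `w` commutes with the image of `x`, but `17` does not with `x`
  refine Bool.false_ne_true (c817.symm.trans (beq_iff_eq.2 ((C.comm_iff (by norm_num)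
    (by norm_num)).1 ?_)))
  have hw64 : w < 64 := by omega
  have hc : cm 0 0 0 k w = true := by
    rcases hk2 with rfl | rfl <;> rcases hw with rfl | rfl <;> assumption
  have hc' := (C.comm_iff hk hw64).2 (beq_iff_eq.1 hc)
  rw [hk', ← hw'] at hc'
  have e : n * (el f x y q 8 * el f x y q 17) * n⁻¹ = n * (el f x y q 17 * el f x y q 8) * n⁻¹ := by
    refine Eq.trans ?_ (hc'.trans ?_) <;> group
  exact mul_left_cancel (mul_right_cancel e)

/-- **The classes**, for a suitable choice of the coordinates. -/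
theorem exists_classes [IsSimpleGroup G] (hna : ¬ IsMulCommutative G)
    (C : Coords 0 0 0 (P : Subgroup G) f x y q) (hx : IsConj (el f x y q 4) (el f x y q 8))
    (htwo : ∃ s t : G, orderOf s = 2 ∧ orderOf t = 2 ∧ ¬ IsConj s t) :
    ∃ y' q' : G, ∃ C' : Coords 0 0 0 (P : Subgroup G) f x y' q', Classes C' := by
  have main : ∀ {y q : G} (C : Coords 0 0 0 (P : Subgroup G) f x y q),
      IsConj (el f x y q 4) (el f x y q 8) → IsConj (el f x y q 34) (el f x y q 17) →
      Classes C := fun {y q} C hx hb => by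
    obtain ⟨ha, had, -, hr⟩ := classes_pre hna C hx htwo
    exact ⟨hx, q_isConj C hx ha had hb (hr 32 (by simp)), ha, hb, had, hr 16 (by simp)⟩
  obtain ⟨-, -, h | h, -⟩ := classes_pre hna C hx htwo
  · exact ⟨y, q, C, main C hx h⟩
  · obtain ⟨y', q', C', hC'⟩ := C.swap
    obtain ⟨-, -, -, -, -, -, -, -, s17, -, s34, s4, s8⟩ := swapN_rel
    refine ⟨y', q', C', main C' (by rw [hC', hC', s4, s8]; exact hx) ?_⟩
    rw [hC', hC', s34, s17]
    exact (C.isConj_of_cj (a := 36) (b := 32) (by decide +kernel)).trans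
      (h.trans (C.isConj_of_cj (a := 17) (b := 19) (by decide +kernel)))

end CfsgLib.Recog.M12Eight
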