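import Cfsg.Agent.Lib.Recog.M12Eight.SigFun

/-!
# The normaliser of the signalizer group controls the fusion of `z`
-/

set_option autoImplicit false
set_option linter.unusedSectionVars false
set_option linter.style.haveILetI false
set_option maxRecDepth 100000

namespace CfsgLib.Recog.M12Eight

open Subgroup

universe u

/-- The four group of `z` and `x`. -/
def inU (n : ℕ) : Bool := [0, 4, 8, 12].contains n

theorem inU_facts : (∀ u < 64, ∀ v < 64, inU u = true → inU v = true → inU (mul0 u v) = true) ∧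
    ∀ u < 64, inU u = true → inE u = true := by decide +kernel

theorem sixteen_product : ∀ u < 64, ∀ v < 64, cj 0 0 0 u 16 = true → cj 0 0 0 v 16 = true →
    cj 0 0 0 (mul0 u v) 16 = false := by decide +kernel

theorem root_eight : cm 0 0 0 2 8 = true ∧ mul0 2 2 = 4 ∧ mul0 4 8 = 12 := by decide +kernel

theorem sqrt_square : ∀ b < 64, ∀ w < 64, isInv 0 0 0 w = true → mul0 b b = w →
    w = 4 ∨ w = 8 ∨ w = 12 := by decide +kernel

theorem centraliser_sixteen : cm 0 0 0 4 16 = true ∧ cm 0 0 0 8 16 = true := by decide +kernel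

variable {G : Type u} [Group G] [Finite G] {P : Sylow 2 G} {f x y q : G}
  {C : Coords 0 0 0 (P : Subgroup G) f x y q}

/-- `U`. -/
def fourU (C : Coords 0 0 0 (P : Subgroup G) f x y q) : Subgroup G where
  carrier := {g | ∃ n < 64, inU n = true ∧ el f x y q n = g}
  one_mem' := ⟨0, by norm_num, rfl, by simp [el]⟩
  mul_mem' := by
    rintro _ _ ⟨u, hu, pu, rfl⟩ ⟨v, hv, pv, rfl⟩
    exact ⟨mul0 u v, mul_lt hu, inU_facts.1 u hu v hv pu pv, (C.toRel.el_mul u v).symm⟩
  inv_mem' := by
    rintro _ ⟨u, hu, pu, rfl⟩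
    exact ⟨u, hu, pu, (inv_eq_of_mul_eq_one_right
      ((C.sq_eq_one_iff hu).2 (inE_facts.2 u hu (inU_facts.2 u hu pu)).2)).symm⟩

theorem fourU_le : fourU C ≤ elemE C := by
  rintro _ ⟨n, hn, hp, rfl⟩
  exact ⟨n, hn, inU_facts.2 n hn hp, rfl⟩

theorem fourU_cases {g : G} (hg : g ∈ fourU C) (h1 : g ≠ 1) :
    g = el f x y q 4 ∨ g = el f x y q 8 ∨ g = el f x y q 12 := by
  obtain ⟨n, hn, hp, rfl⟩ := hg
  simp only [inU, List.contains_iff_mem, List.mem_cons, List.not_mem_nil, or_false] at hp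
  rcases hp with rfl | rfl | rfl | rfl
  · exact absurd ((C.eq_one_iff (by norm_num)).2 rfl) h1
  all_goals simp

theorem not_isCyclic_fourU : ¬ IsCyclic (fourU C) := by
  intro h
  obtain ⟨g, hg⟩ := h.exists_generator
  have h2 : g * g = 1 := Subtype.ext (elemE_sq (fourU_le g.2))
  have key : ∀ a : fourU C, a = 1 ∨ a = g := by
    intro a
    obtain ⟨k, rfl⟩ := mem_zpowers_iff.1 (hg a)
    rcases Int.even_or_odd k with ⟨j, rfl⟩ | ⟨j, rfl⟩
    · left; rw [← two_mul, zpow_mul, zpow_two, h2, one_zpow]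
    · right; rw [zpow_add, zpow_mul, zpow_two, h2, one_zpow, one_mul, zpow_one]
  have m4 : el f x y q 4 ∈ fourU C := ⟨4, by norm_num, rfl, rfl⟩
  have m8 : el f x y q 8 ∈ fourU C := ⟨8, by norm_num, rfl, rfl⟩
  rcases key ⟨_, m4⟩ with h4 | h4
  · exact absurd ((C.eq_one_iff (by norm_num)).1 (congrArg Subtype.val h4)) (by norm_num)
  rcases key ⟨_, m8⟩ with h8 | h8
  · exact absurd ((C.eq_one_iff (by norm_num)).1 (congrArg Subtype.val h8)) (by norm_num)
  exact absurd (C.inj 4 (by norm_num) 8 (by norm_num)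
    (congrArg Subtype.val (h4.trans h8.symm))) (by norm_num)

/-- The normaliser of the signalizer group. -/
def holdM (C : Coords 0 0 0 (P : Subgroup G) f x y q) : Subgroup G :=
  normalizer (bigW C : Set G)

/-- Conjugates of `z` under `holdM`. -/
def ZM (C : Coords 0 0 0 (P : Subgroup G) f x y q) (b : G) : Prop :=
  ∃ m ∈ holdM C, m * el f x y q 4 * m⁻¹ = b

theorem ZM.conj {b m : G} (hb : ZM C b) (hm : m ∈ holdM C) : ZM C (m * b * m⁻¹) := by
  obtain ⟨n, hn, rfl⟩ := hb
  exact ⟨m * n, mul_mem hm hn, by group⟩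

/-- Carrying a noncyclic subgroup of `E` into `E`. -/
theorem mem_holdM (K : Classes C) {U : Subgroup G} (hU : U ≤ elemE C) (hnc : ¬ IsCyclic U) {g : G}
    (hg : ∀ u ∈ U, g * u * g⁻¹ ∈ elemE C) : g ∈ holdM C := by
  refine Subgroup.mem_normalizer_fintype fun w hw => ?_
  have hle : bigW C ≤ (bigW C).comap (MulAut.conj g).toMonoidHom := by
    refine bigW_le K hU hnc fun u hu hu1 d hd => ?_
    refine cenCore_le_bigW (hg u hu) ?_ (cenCore_conj g hd)
    simpa using hu1
  exact hle hw

theorem NQ_le_holdM (K : Classes C) : NQ C ≤ holdM C := fun n hn =>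
  mem_holdM K fourU_le not_isCyclic_fourU fun u hu => by
    obtain ⟨k, hk, hkE, rfl⟩ := fourU_le hu
    obtain ⟨m, hm, hmE, e⟩ := NQ_conj_E K hn hk hkE
    exact ⟨m, hm, hmE, e.symm⟩

theorem P_le_holdM (K : Classes C) : (P : Subgroup G) ≤ holdM C :=
  P_le_NQ.trans (NQ_le_holdM K)

/-- **The centraliser of `z` normalises the signalizer group.** -/
theorem centralizer_z_le (K : Classes C) :
    centralizer ({el f x y q 4} : Set G) ≤ holdM C := by
  intro g hg
  obtain ⟨o, ho, n, hn, rfl⟩ := decomp semiregularStmt K g hg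
  refine mul_mem (le_normalizer (cenCore_le_bigW ?_ ?_ ho)) (NQ_le_holdM K hn)
  · exact ⟨4, by norm_num, rfl, rfl⟩
  · exact fun h => absurd ((C.eq_one_iff (by norm_num)).1 h) (by norm_num)

theorem centralizer_le_of_ZM (K : Classes C) {b : G} (hb : ZM C b) :
    centralizer ({b} : Set G) ≤ holdM C := by
  obtain ⟨m, hm, rfl⟩ := hb
  intro g hg
  have h := mem_centralizer_singleton_iff.1 hg
  have h' : m⁻¹ * g * m ∈ holdM C := centralizer_z_le K (mem_centralizer_singleton_iff.2 (by
    calc m⁻¹ * g * m * el f x y q 4 = m⁻¹ * (g * (m * el f x y q 4 * m⁻¹)) * m := by group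
      _ = _ := by rw [h]; group))
  have := mul_mem (mul_mem hm h') (inv_mem hm)
  rwa [show m * (m⁻¹ * g * m) * m⁻¹ = g by group] at this

/-- Two controlled conjugates of `z` are only conjugate inside. -/
theorem mem_of_ZM (K : Classes C) {g a b : G} (ha : ZM C a) (hb : ZM C b)
    (h : g * a * g⁻¹ = b) : g ∈ holdM C := by
  obtain ⟨m, hm, rfl⟩ := ha
  obtain ⟨n, hn, rfl⟩ := hb
  have h' : n⁻¹ * g * m ∈ holdM C := centralizer_z_le K (mem_centralizer_singleton_iff.2 (by
    calc n⁻¹ * g * m * el f x y q 4 = n⁻¹ * (g * (m * el f x y q 4 * m⁻¹) * g⁻¹) * (g * m) := by group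
      _ = _ := by rw [h]; group))
  have := mul_mem (mul_mem hn h') (inv_mem hm)
  rwa [show n * (n⁻¹ * g * m) * m⁻¹ = g by group] at this

/-- `z` and `x` are conjugate in `holdM`. -/
theorem exists_z_to_x (K : Classes C) :
    ∃ g ∈ holdM C, g * el f x y q 4 * g⁻¹ = el f x y q 8 := by
  obtain ⟨g, hg, himg, w, hw, hw4, hw0, hww, hgw⟩ := C.image_of_extremal (show 8 < 64 by norm_num)
    (by norm_num) (four_eight 0 (by norm_num) 0 (by norm_num) 0 (by norm_num)).2.1 (by norm_num)
    (by norm_num) (by norm_num) (by norm_num) K.hx.symm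
  obtain ⟨b, hb, hb'⟩ := himg 2 (by norm_num) root_eight.1
  have hw812 : w = 8 ∨ w = 12 := by
    refine (sqrt_square b hb w hw (by simp [isInv, hw0, hww]) ((C.mul_eq_iff hb hw).1 ?_)).resolve_left hw4
    rw [← hb', ← hgw]
    calc g * el f x y q 2 * g⁻¹ * (g * el f x y q 2 * g⁻¹)
        = g * (el f x y q 2 * el f x y q 2) * g⁻¹ := by group
      _ = _ := by rw [C.toRel.el_mul, show mul 0 0 0 2 2 = 4 from root_eight.2.1]
  have m4 : el f x y q 4 ∈ elemE C := ⟨4, by norm_num, rfl, rfl⟩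
  have mw : el f x y q w ∈ elemE C := by
    rcases hw812 with rfl | rfl
    · exact ⟨8, by norm_num, rfl, rfl⟩
    · exact ⟨12, by norm_num, rfl, rfl⟩
  refine ⟨g⁻¹, inv_mem (mem_holdM K fourU_le not_isCyclic_fourU fun u hu => ?_),
    by rw [← hg]; group⟩
  rcases eq_or_ne u 1 with rfl | hu1
  · simp
  rcases fourU_cases hu hu1 with rfl | rfl | rfl
  · rw [hgw]; exact mw
  · rw [hg]; exact m4
  · rw [show el f x y q 12 = el f x y q 4 * el f x y q 8 from
      ((C.toRel.el_mul 4 8).trans (congrArg _ root_eight.2.2)).symm,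
      show g * (el f x y q 4 * el f x y q 8) * g⁻¹ =
        (g * el f x y q 4 * g⁻¹) * (g * el f x y q 8 * g⁻¹) by group, hgw, hg]
    exact mul_mem mw m4

/-- Conjugates in `P`. -/
theorem ZM_of_cj (K : Classes C) {a b : ℕ} (h : cj 0 0 0 a b = true)
    (hb : ZM C (el f x y q b)) : ZM C (el f x y q a) := by
  obtain ⟨k, -, hk⟩ := List.any_eq_true.1 h
  have e : el f x y q k * el f x y q a * (el f x y q k)⁻¹ = el f x y q b := by
    rw [mul_inv_eq_iff_eq_mul, C.toRel.el_mul, C.toRel.el_mul, beq_iff_eq.1 hk]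
  have h' := hb.conj (inv_mem (P_le_holdM K (C.mem k)))
  rw [← e] at h'
  rwa [show (el f x y q k)⁻¹ * (el f x y q k * el f x y q a * (el f x y q k)⁻¹) *
    (el f x y q k)⁻¹⁻¹ = el f x y q a by group] at h'

theorem ZM_E (K : Classes C) {n : ℕ} (hn : n < 64) (hE : inE n = true) (h0 : n ≠ 0) :
    ZM C (el f x y q n) := by
  have h4 : ZM C (el f x y q 4) := ⟨1, one_mem _, by simp⟩
  have h8 : ZM C (el f x y q 8) := exists_z_to_x K
  have h12 : ZM C (el f x y q 12) :=
    ZM_of_cj K (show cj 0 0 0 12 8 = true by decide +kernel) h8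
  have hk : ∀ k : Fin 3, ZM C (el f x y q (rep k)) := by
    intro k
    obtain ⟨c, hc⟩ := cosetHom_surjective K (Equiv.swap k 0)
    have hm := cosetHom_apply K c k
    rw [hc, Equiv.swap_apply_left] at hm
    have back : ∀ b, (c : G) * el f x y q (rep k) * (c : G)⁻¹ = b → ZM C b →
        ZM C (el f x y q (rep k)) := by
      intro b e hb
      have := hb.conj (inv_mem (NQ_le_holdM K c.2))
      rw [← e] at this
      rwa [show (c : G)⁻¹ * ((c : G) * el f x y q (rep k) * (c : G)⁻¹) * (c : G)⁻¹⁻¹ =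
        el f x y q (rep k) by group] at this
    rcases hm with e | e
    · exact back _ e h8
    · refine back _ (e.trans ?_) h12
      exact (C.toRel.el_mul 8 4).trans (congrArg _ (rep_facts 0).2.2.1)
  have key : ∀ n < 64, inE n = true → n ≠ 0 →
      n = 4 ∨ n = 8 ∨ n = 12 ∨ cj 0 0 0 n 32 = true ∨ cj 0 0 0 n 40 = true := by decide +kernel
  rcases key n hn hE h0 with rfl | rfl | rfl | h | h
  exacts [h4, h8, h12, ZM_of_cj K h (hk 1), ZM_of_cj K h (hk 2)]

/-- Conjugates of `z` in `P` outside the class of 16 are controlled. -/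
theorem ZM_or_sixteen (K : Classes C) {n : ℕ} (hn : n < 64) (hno : orderOf (el f x y q n) = 2)
    (hc : IsConj (el f x y q 4) (el f x y q n)) :
    ZM C (el f x y q n) ∨
      (cj 0 0 0 n 16 = true ∧ IsConj (el f x y q 16) (el f x y q 4)) := by
  obtain ⟨r, hr, hcj, hcr⟩ := isConj_rep C hn hno
  have hr4 : IsConj (el f x y q r) (el f x y q 4) := hcr.symm.trans hc.symm
  simp only [List.mem_cons, List.not_mem_nil, or_false] at hr
  rcases hr with rfl | rfl | rfl | rfl | rfl | rfl | rfl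
  · exact Or.inl (ZM_of_cj K hcj (ZM_E K (by norm_num) rfl (by norm_num)))
  · exact Or.inl (ZM_of_cj K hcj (ZM_E K (by norm_num) rfl (by norm_num)))
  · exact Or.inr ⟨hcj, hr4⟩
  · exact absurd hr4 K.ha
  · exact Or.inl (ZM_of_cj K hcj (ZM_E K (by norm_num) rfl (by norm_num)))
  · exact absurd (K.hb.symm.trans hr4) K.ha
  · exact absurd (K.hd.symm.trans hr4) K.ha

/-- **The class of 16 is controlled as well.** -/
theorem ZM_sixteen (K : Classes C) (h16 : IsConj (el f x y q 16) (el f x y q 4)) :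
    ZM C (el f x y q 16) := by
  obtain ⟨g, hg, himg, -⟩ := C.image_of_extremal (show 16 < 64 by norm_num) (by norm_num)
    (by decide +kernel) (by norm_num) (by norm_num) (by norm_num) (by norm_num) h16
  have h4 : ZM C (el f x y q 4) := ⟨1, one_mem _, by simp⟩
  have fin : g ∈ holdM C → ZM C (el f x y q 16) := fun hgM => by
    have := h4.conj (inv_mem hgM)
    rw [← hg] at this
    rwa [show g⁻¹ * (g * el f x y q 16 * g⁻¹) * g⁻¹⁻¹ = el f x y q 16 by group] at this
  have img : ∀ {a : ℕ}, ZM C (el f x y q a) → a < 64 → ∀ b < 64,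
      g * el f x y q a * g⁻¹ = el f x y q b → g ∈ holdM C ∨ cj 0 0 0 b 16 = true := by
    intro a ha _ b hb e
    have hbc : IsConj (el f x y q 4) (el f x y q b) := by
      obtain ⟨m, -, hm⟩ := ha
      exact isConj_iff.2 ⟨g * m, by rw [← e, ← hm]; group⟩
    have hbo : orderOf (el f x y q b) = 2 := by
      obtain ⟨c, hc⟩ := isConj_iff.1 hbc
      rw [← hc, ← MulAut.conj_apply, MulEquiv.orderOf_eq,
        C.orderOf_two (show 4 < 64 by norm_num) (by norm_num) (by decide +kernel)]
    rcases ZM_or_sixteen K hb hbo hbc with h | h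
    · exact Or.inl (mem_of_ZM K ha h e)
    · exact Or.inr h.1
  obtain ⟨b, hb, hb'⟩ := himg 4 (by norm_num) centraliser_sixteen.1
  obtain ⟨c, hc, hc'⟩ := himg 8 (by norm_num) centraliser_sixteen.2
  rcases img h4 (by norm_num) b hb hb' with h | h1
  · exact fin h
  rcases img (exists_z_to_x K) (by norm_num) c hc hc' with h | h2
  · exact fin h
  have e : g * el f x y q 12 * g⁻¹ = el f x y q (mul0 b c) := by
    rw [show el f x y q (mul0 b c) = el f x y q b * el f x y q c from (C.toRel.el_mul b c).symm,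
      ← hb', ← hc', show el f x y q 12 = el f x y q 4 * el f x y q 8 from
      ((C.toRel.el_mul 4 8).trans (congrArg _ root_eight.2.2)).symm]
    group
  rcases img (ZM_E K (show 12 < 64 by norm_num) rfl (by norm_num)) (by norm_num) _ (mul_lt hb) e
    with h | h3
  · exact fin h
  have h3' : cj 0 0 0 (mul0 b c) 16 = true := h3
  rw [sixteen_product b hb c hc h1 h2] at h3'
  simp at h3'

/-- **The fusion of `z` is controlled.** -/
theorem control (K : Classes C) {g : G} (hg : g * el f x y q 4 * g⁻¹ ∈ holdM C) :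
    g ∈ holdM C := by
  have hP := P_le_holdM K
  have hzo : orderOf (el f x y q 4) = 2 :=
    C.orderOf_two (show 4 < 64 by norm_num) (by norm_num) (by decide +kernel)
  set b := g * el f x y q 4 * g⁻¹ with hb
  have hbo : orderOf b = 2 := by rw [hb, ← MulAut.conj_apply, MulEquiv.orderOf_eq, hzo]
  obtain ⟨m, hm, hmP⟩ := CfsgLib.Comp.exists_conj_le_sylow P hP (zpowers_le.2 hg)
    (IsPGroup.of_card (n := 1) (by rw [Nat.card_zpowers, hbo, pow_one]))
  obtain ⟨n, hn, hn'⟩ := C.surj _ (hmP b (mem_zpowers b))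
  have hno : orderOf (el f x y q n) = 2 := by
    rw [hn', ← MulAut.conj_apply, MulEquiv.orderOf_eq, hbo]
  have hnc : IsConj (el f x y q 4) (el f x y q n) :=
    isConj_iff.2 ⟨m * g, by rw [hn', hb]; group⟩
  have hnz : ZM C (el f x y q n) := by
    rcases ZM_or_sixteen K hn hno hnc with h | ⟨h, h16⟩
    · exact h
    · exact ZM_of_cj K h (ZM_sixteen K h16)
  have hbz : ZM C b := by
    have := hnz.conj (inv_mem hm)
    rw [hn'] at this
    rwa [show m⁻¹ * (m * b * m⁻¹) * m⁻¹⁻¹ = b by group] at this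
  exact mem_of_ZM K ⟨1, one_mem _, by simp⟩ hbz hb.symm

/-- A conjugate of `z` in `holdM` has its centraliser there. -/
theorem centralizer_le_of_isConj (K : Classes C) {b : G} (hc : IsConj (el f x y q 4) b)
    (hb : b ∈ holdM C) : centralizer ({b} : Set G) ≤ holdM C := by
  obtain ⟨g, rfl⟩ := isConj_iff.1 hc
  exact centralizer_le_of_ZM K ⟨g, control K hb, rfl⟩

end CfsgLib.Recog.M12Eight
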