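import Cfsg.Agent.Lib.Recog.M12Eight.Table
import Mathlib.GroupTheory.OrderOfElement
import Mathlib.Algebra.Group.Subgroup.Finite
import Mathlib.Data.Finite.Prod
import Mathlib.SetTheory.Cardinal.Finite
import Mathlib.Tactic.Group
import Mathlib.Tactic.FinCases

/-!
# Coordinates in a group with the relations of `Table`
-/

set_option autoImplicit false

namespace CfsgLib.Recog.M12Eight

universe u

variable {G : Type u} [Group G]

/-- The relations. -/
structure Rel (e d m : ℕ) (f x y q : G) : Prop where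
  f8 : f ^ 8 = 1
  xx : x * x = 1
  xf : x * f = f ^ 5 * x
  yf : y * f = f ^ 7 * y
  yx : y * x = x * y
  yy : y * y = f ^ (4 * e)
  qf : q * f = f * x * q
  qx : q * x = x * q
  qq : q * q = f ^ (4 * d)
  qy : q * y = f ^ (2 * m) * x * y * q

/-- The element with given number. -/
def el (f x y q : G) (n : ℕ) : G :=
  f ^ (n % 8) * x ^ (n / 8 % 2) * y ^ (n / 16 % 2) * q ^ (n / 32 % 2)

namespace Rel

variable {e d m : ℕ} {f x y q : G}

theorem fpow (R : Rel e d m f x y q) {i j : ℕ} (h : i % 8 = j % 8) : f ^ i = f ^ j := by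
  rw [pow_eq_pow_mod i R.f8, pow_eq_pow_mod j R.f8, h]

theorem xfpow (R : Rel e d m f x y q) (j : ℕ) : x * f ^ j = f ^ (5 * j) * x := by
  induction j with
  | zero => simp
  | succ k ih =>
    rw [pow_succ, ← mul_assoc, ih, mul_assoc, R.xf, ← mul_assoc, ← pow_add,
      R.fpow (show (5 * k + 5) % 8 = (5 * (k + 1)) % 8 by omega)]

theorem yfpow (R : Rel e d m f x y q) (j : ℕ) : y * f ^ j = f ^ (7 * j) * y := by
  induction j with
  | zero => simp
  | succ k ih =>
    rw [pow_succ, ← mul_assoc, ih, mul_assoc, R.yf, ← mul_assoc, ← pow_add,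
      R.fpow (show (7 * k + 7) % 8 = (7 * (k + 1)) % 8 by omega)]

theorem x2 (R : Rel e d m f x y q) (a : ℕ) : x ^ a = x ^ (a % 2) :=
  pow_eq_pow_mod a (by rw [pow_two]; exact R.xx)

theorem xapow (R : Rel e d m f x y q) (a j : ℕ) :
    x ^ a * f ^ j = f ^ (if a % 2 = 0 then j else 5 * j) * x ^ a := by
  rw [R.x2 a]
  rcases Nat.mod_two_eq_zero_or_one a with h | h
  · simp [h]
  · simp [h, R.xfpow j]

theorem xapow_even (R : Rel e d m f x y q) (a j : ℕ) (hj : j % 2 = 0) :
    x ^ a * f ^ j = f ^ j * x ^ a := by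
  rw [R.xapow a j]
  split
  · rfl
  · rw [R.fpow (show (5 * j) % 8 = j % 8 by omega)]

theorem el_enc (R : Rel e d m f x y q) (i a : ℕ) {b c : ℕ} (hb : b < 2) (hc : c < 2) :
    el f x y q (enc i a b c) = f ^ i * x ^ a * y ^ b * q ^ c := by
  have h1 : enc i a b c % 8 = i % 8 := by unfold enc; omega
  have h2 : enc i a b c / 8 % 2 = a % 2 := by unfold enc; omega
  have h3 : enc i a b c / 16 % 2 = b := by unfold enc; omega
  have h4 : enc i a b c / 32 % 2 = c := by unfold enc; omega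
  rw [el, h1, h2, h3, h4, ← R.x2, R.fpow (Nat.mod_mod i 8)]

theorem el_split (R : Rel e d m f x y q) (n : ℕ) :
    el f x y q n = f ^ n * x ^ (n / 8) * y ^ (n / 16 % 2) * q ^ (n / 32 % 2) := by
  rw [el, ← R.x2, R.fpow (Nat.mod_mod n 8)]

theorem el_mul_x (R : Rel e d m f x y q) (n : ℕ) : el f x y q n * x = el f x y q (rX n) := by
  rw [rX, R.el_enc _ _ (Nat.mod_lt _ two_pos) (Nat.mod_lt _ two_pos), R.el_split, pow_succ]
  simp only [mul_assoc]
  rcases Nat.mod_two_eq_zero_or_one (n / 16) with hb | hb <;>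
    rcases Nat.mod_two_eq_zero_or_one (n / 32) with hc | hc <;>
    simp only [hb, hc, pow_zero, pow_one, one_mul, mul_one]
  · rw [R.qx]
  · rw [R.yx]
  · rw [R.qx, ← mul_assoc y, R.yx, mul_assoc]

theorem el_mul_f (R : Rel e d m f x y q) (n : ℕ) : el f x y q n * f = el f x y q (rF n) := by
  rw [rF, R.el_enc _ _ (Nat.mod_lt _ two_pos) (Nat.mod_lt _ two_pos), R.el_split]
  set j := if n / 16 % 2 = 0 then 1 else 7 with hj
  have h1 : y ^ (n / 16 % 2) * f = f ^ j * y ^ (n / 16 % 2) := by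
    rcases Nat.mod_two_eq_zero_or_one (n / 16) with hb | hb <;> simp [hj, hb, R.yf]
  have h2 : y ^ (n / 16 % 2) * x = x * y ^ (n / 16 % 2) := by
    rcases Nat.mod_two_eq_zero_or_one (n / 16) with hb | hb <;> simp [hb, R.yx]
  have h3 : q ^ (n / 32 % 2) * f = f * x ^ (n / 32 % 2) * q ^ (n / 32 % 2) := by
    rcases Nat.mod_two_eq_zero_or_one (n / 32) with hc | hc <;> simp [hc, R.qf]
  have h4 : y ^ (n / 16 % 2) * x ^ (n / 32 % 2) = x ^ (n / 32 % 2) * y ^ (n / 16 % 2) := by
    rcases Nat.mod_two_eq_zero_or_one (n / 32) with hc | hc <;> simp [hc, h2]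
  calc f ^ n * x ^ (n / 8) * y ^ (n / 16 % 2) * q ^ (n / 32 % 2) * f
      = f ^ n * x ^ (n / 8) * ((y ^ (n / 16 % 2) * f) * x ^ (n / 32 % 2)) *
          q ^ (n / 32 % 2) := by
        simp only [mul_assoc]; rw [h3]; simp only [mul_assoc]
    _ = f ^ n * (x ^ (n / 8) * f ^ j) * (y ^ (n / 16 % 2) * x ^ (n / 32 % 2)) *
          q ^ (n / 32 % 2) := by
        rw [h1]; simp only [mul_assoc]
    _ = f ^ (n + if n / 8 % 2 = 0 then j else 5 * j) * x ^ (n / 8 + n / 32 % 2) *
          y ^ (n / 16 % 2) * q ^ (n / 32 % 2) := by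
        rw [R.xapow, h4, pow_add f, pow_add x]; simp only [mul_assoc]

theorem el_mul_q (R : Rel e d m f x y q) (n : ℕ) : el f x y q n * q = el f x y q (rQ d n) := by
  have hb := Nat.mod_lt (n / 16) two_pos
  rw [R.el_split, rQ]
  rcases Nat.mod_two_eq_zero_or_one (n / 32) with hc | hc
  · rw [if_pos hc, R.el_enc _ _ hb (by norm_num), hc]
    simp
  · rw [if_neg (by omega), R.el_enc _ _ hb (by norm_num), hc, pow_one, mul_assoc _ q q, R.qq,
      pow_zero, mul_one]
    have h1 : y ^ (n / 16 % 2) * f ^ (4 * d) = f ^ (4 * d) * y ^ (n / 16 % 2) := by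
      rcases Nat.mod_two_eq_zero_or_one (n / 16) with h | h
      · simp [h]
      · rw [h, pow_one, R.yfpow, R.fpow (show (7 * (4 * d)) % 8 = (4 * d) % 8 by omega)]
    rw [mul_assoc (f ^ n * x ^ (n / 8)), h1, ← mul_assoc, mul_assoc (f ^ n),
      R.xapow_even _ _ (by omega), ← mul_assoc, ← pow_add]

theorem el_mul_y (R : Rel e d m f x y q) (n : ℕ) : el f x y q n * y = el f x y q (rY e m n) := by
  rw [R.el_split]
  have hx1 : x ^ (n / 8 + 1) = x ^ (n / 8) * x := pow_succ _ _
  rcases Nat.mod_two_eq_zero_or_one (n / 32) with hc | hc <;>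
    rcases Nat.mod_two_eq_zero_or_one (n / 16) with hb | hb <;>
    simp only [rY, hc, hb, pow_zero, pow_one, mul_one]
  · rw [R.el_enc _ _ (by norm_num) (by norm_num), pow_one, pow_zero, mul_one]
  · rw [R.el_enc _ _ (by norm_num) (by norm_num), pow_zero, pow_zero, mul_one, mul_one,
      mul_assoc _ y y, R.yy, mul_assoc, R.xapow_even _ _ (by omega), ← mul_assoc, ← pow_add]
  · rw [R.el_enc _ _ (by norm_num) (by norm_num), pow_one, pow_one, mul_assoc _ q y, R.qy, hx1]
    simp only [← mul_assoc]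
    rw [mul_assoc (f ^ n), R.xapow_even _ _ (by omega), ← mul_assoc, ← pow_add]
  · rw [R.el_enc _ _ (by norm_num) (by norm_num), pow_zero, pow_one, mul_one, mul_assoc _ q y,
      R.qy, hx1]
    simp only [← mul_assoc]
    rw [mul_assoc (f ^ n * x ^ (n / 8)) y, R.yfpow, ← mul_assoc, mul_assoc (f ^ n),
      R.xapow_even _ _ (by omega), ← mul_assoc, ← pow_add, mul_assoc _ y x, R.yx, ← mul_assoc,
      mul_assoc _ y y, R.yy, mul_assoc (f ^ (n + 7 * (2 * m))) _ x, mul_assoc (f ^ _),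
      ← hx1, R.xapow_even _ _ (by omega), ← mul_assoc, ← pow_add,
      R.fpow (show (n + 7 * (2 * m) + 4 * e) % 8 = (n + 6 * m + 4 * e) % 8 by omega), hx1]
    simp only [mul_assoc]

theorem el_rFs (R : Rel e d m f x y q) (n : ℕ) :
    ∀ k, el f x y q (rFs k n) = el f x y q n * f ^ k
  | 0 => by simp [rFs]
  | k + 1 => by rw [rFs, ← R.el_mul_f, R.el_rFs n k, pow_succ, mul_assoc]

/-- Coordinates multiply by the table. -/
theorem el_mul (R : Rel e d m f x y q) (u v : ℕ) :
    el f x y q u * el f x y q v = el f x y q (mul e d m u v) := by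
  show el f x y q u * (f ^ (v % 8) * x ^ (v / 8 % 2) * y ^ (v / 16 % 2) * q ^ (v / 32 % 2)) = _
  simp only [← mul_assoc, ← R.el_rFs, mul]
  rcases Nat.mod_two_eq_zero_or_one (v / 8) with ha | ha <;>
    rcases Nat.mod_two_eq_zero_or_one (v / 16) with hb | hb <;>
    rcases Nat.mod_two_eq_zero_or_one (v / 32) with hc | hc <;>
    simp [ha, hb, hc, R.el_mul_x, R.el_mul_y, R.el_mul_q]

end Rel

/-- Coordinates of a subgroup. -/
structure Coords (e d m : ℕ) (S : Subgroup G) (f x y q : G) : Prop extends Rel e d m f x y q where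
  mem : ∀ n, el f x y q n ∈ S
  surj : ∀ g ∈ S, ∃ n < 64, el f x y q n = g
  inj : ∀ u < 64, ∀ v < 64, el f x y q u = el f x y q v → u = v

namespace Coords

variable {e d m : ℕ} {S : Subgroup G} {f x y q : G}

theorem eq_one_iff (C : Coords e d m S f x y q) {n : ℕ} (hn : n < 64) :
    el f x y q n = 1 ↔ n = 0 :=
  ⟨fun h => C.inj n hn 0 (by norm_num) (h.trans (by simp [el])), fun h => by simp [h, el]⟩

theorem mul_eq_iff (C : Coords e d m S f x y q) {u v w : ℕ} (hu : u < 64) (hw : w < 64) :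
    el f x y q u * el f x y q v = el f x y q w ↔ mul e d m u v = w := by
  rw [C.toRel.el_mul]
  exact ⟨C.inj _ (mul_lt hu) _ hw, congrArg _⟩

theorem comm_iff (C : Coords e d m S f x y q) {u v : ℕ} (hu : u < 64) (hv : v < 64) :
    el f x y q u * el f x y q v = el f x y q v * el f x y q u ↔
      mul e d m u v = mul e d m v u := by
  rw [C.toRel.el_mul, C.toRel.el_mul]
  exact ⟨C.inj _ (mul_lt hu) _ (mul_lt hv), congrArg _⟩

theorem sq_eq_one_iff (C : Coords e d m S f x y q) {u : ℕ} (hu : u < 64) :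
    el f x y q u * el f x y q u = 1 ↔ mul e d m u u = 0 := by
  rw [C.toRel.el_mul]
  exact C.eq_one_iff (mul_lt hu)

end Coords

end CfsgLib.Recog.M12Eight
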