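import Cfsg.Agent.Lib.Recog.M12Eight.Local
import Mathlib.GroupTheory.Perm.Sign

/-!
# The even permutations of the cosets act without fixed points on `Q/⟨z⟩`
-/

set_option autoImplicit false
set_option linter.unusedSectionVars false

namespace CfsgLib.Recog.M12Eight

open Subgroup

universe u

variable {G : Type u} [Group G] [Finite G] {P : Sylow 2 G} {f x y q : G}
  {C : Coords 0 0 0 (P : Subgroup G) f x y q}

theorem perm_fix : ∀ p : Equiv.Perm (Fin 3), Equiv.Perm.sign p = 1 → ∀ k, p k = k → p = 1 := by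
  decide +kernel

/-- An even element fixing a point of `Q/⟨z⟩` other than the identity is in the kernel. -/
theorem ker_of_fix (K : Classes C) {n : NQ C} (hs : Equiv.Perm.sign (cosetHom K n) = 1)
    {v : ℕ} (hv : v < 64) (hvq : inQ v = true) (h0 : v ≠ 0) (h4 : v ≠ 4)
    (h : (n : G) * el f x y q v * (n : G)⁻¹ = el f x y q v ∨
      (n : G) * el f x y q v * (n : G)⁻¹ = el f x y q v * el f x y q 4) :
    cosetHom K n = 1 := by
  have e4 : ∀ k : Fin 3, el f x y q (rep k) * el f x y q 4 = el f x y q (rep k + 4) := fun k =>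
    (C.toRel.el_mul _ _).trans (congrArg _ (rep_facts k).2.2.1)
  by_cases hE : inE v = true
  · -- a fixed coset
    have hE' := hE
    rw [inE_iff v hv] at hE'
    simp only [Bool.or_eq_true, beq_iff_eq, h0, h4, false_or] at hE'
    obtain ⟨k, hk⟩ : ∃ k : Fin 3, co k.val v = true := by
      rcases hE' with (h | h) | h
      exacts [⟨0, h⟩, ⟨1, h⟩, ⟨2, h⟩]
    refine perm_fix _ hs k ((cosetHom_apply K n k).unique C ?_)
    have hz := NQ_fix_z n.2
    rcases ((rep_facts k).2.2.2.2 v hv).1 hk with rfl | rfl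
    · exact h
    · unfold Mv
      rw [← e4] at h
      rw [show (n : G) * (el f x y q (rep k) * el f x y q 4) * (n : G)⁻¹ =
        ((n : G) * el f x y q (rep k) * (n : G)⁻¹) * ((n : G) * el f x y q 4 * (n : G)⁻¹) by group,
        hz] at h
      rcases h with h | h
      · exact Or.inl (mul_right_cancel h)
      · exact Or.inr (mul_right_cancel h)
  · -- the only coset centralising `v` is fixed
    have h1 := one_coset v hv hvq (by simpa using hE)
    simp only [List.any_eq_true, List.mem_range, List.all_eq_true, Bool.or_eq_true,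
      Bool.not_eq_true', beq_iff_eq] at h1
    obtain ⟨k, hk, hk'⟩ := h1
    have hiff : ∀ l : Fin 3, cm 0 0 0 (rep l) v = true → l.val = k := by
      intro l hl
      have := (hk' (rep l) (rep_lt l)).resolve_left (by simp [(rep_facts l).1])
      rw [hl] at this
      have key : ∀ l : Fin 3, ∀ k < 3, (rep l == 0 || rep l == 4 || co k (rep l)) = true →
          l.val = k := by decide +kernel
      exact key l k hk this.symm
    set k' : Fin 3 := ⟨k, hk⟩
    refine perm_fix _ hs k' ?_
    have hcv : cm 0 0 0 (rep k') v = true := by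
      have := (hk' (rep k') (rep_lt k')).resolve_left (by simp [(rep_facts k').1])
      rw [this]
      simp [((rep_facts k').2.2.2.2 _ (rep_lt k')).2 (Or.inl rfl)]
      exact Or.inr (((rep_facts k').2.2.2.2 _ (rep_lt k')).2 (Or.inl rfl))
    apply Fin.ext
    refine hiff _ (beq_iff_eq.2 ((C.comm_iff (rep_lt _) hv).1 ?_))
    have hc := (C.comm_iff (rep_lt k') hv).2 (beq_iff_eq.1 hcv)
    have hc' : (n : G) * el f x y q (rep k') * (n : G)⁻¹ * ((n : G) * el f x y q v * (n : G)⁻¹) =
        (n : G) * el f x y q v * (n : G)⁻¹ * ((n : G) * el f x y q (rep k') * (n : G)⁻¹) := by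
      calc (n : G) * el f x y q (rep k') * (n : G)⁻¹ * ((n : G) * el f x y q v * (n : G)⁻¹)
          = (n : G) * (el f x y q (rep k') * el f x y q v) * (n : G)⁻¹ := by group
        _ = _ := by rw [hc]; group
    have hzc : ∀ w < 64, Commute (el f x y q 4) (el f x y q w) := fun w hw =>
      (C.comm_iff (by norm_num) hw).2 (central_four 0 (by norm_num) 0 (by norm_num) 0
        (by norm_num) w hw).symm
    rcases cosetHom_apply K n k' with hm | hm <;> rcases h with hv' | hv' <;>
      rw [hm, hv'] at hc'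
    · exact hc'
    · have := ((show Commute _ _ from hc').mul_right (hzc _ (rep_lt (cosetHom K n k'))).symm)
      rw [mul_assoc, z_mul_z C, mul_one] at this
      exact this.eq
    · have := ((show Commute _ _ from hc').mul_left (hzc v hv))
      rw [mul_assoc, z_mul_z C, mul_one] at this
      exact this.eq
    · have h1 := ((show Commute _ _ from hc').mul_left
        (Commute.mul_right (hzc v hv) (Commute.refl _)))
      rw [mul_assoc, z_mul_z C, mul_one] at h1
      have h2 := h1.mul_right (hzc _ (rep_lt (cosetHom K n k'))).symm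
      rw [mul_assoc, z_mul_z C, mul_one] at h2
      exact h2.eq

/-- The elements of `NQ` centralising `Q`. -/
def centQ (C : Coords 0 0 0 (P : Subgroup G) f x y q) : Subgroup G :=
  NQ C ⊓ centralizer (parSub C true true false : Set G)

theorem centQ_ker (K : Classes C) {g : NQ C} (hg : (g : G) ∈ centQ C) : cosetHom K g = 1 := by
  refine Equiv.ext fun k => (cosetHom_apply K g k).unique C (Or.inl ?_)
  rw [mem_centralizer_iff.1 hg.2 _ (mem_Q C (rep_lt k) (rep_facts k).2.1) |>.symm,
    mul_inv_cancel_right]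
  rfl

/-- **The centraliser of `Q` in its normaliser** is `⟨z⟩` times a subgroup of odd order. -/
theorem exists_centQ_odd (K : Classes C) : ∃ D : Subgroup G, D ≤ centQ C ∧ Odd (Nat.card D) ∧
    (∀ n ∈ NQ C, ∀ d ∈ D, n * d * n⁻¹ ∈ D) ∧
    ∀ g ∈ centQ C, g ∈ D ∨ g * el f x y q 4 ∈ D := by
  classical
  have h4Q : el f x y q 4 ∈ parSub C true true false := mem_Q C (by norm_num) (by decide +kernel)
  have hz : el f x y q 4 ∈ centQ C := ⟨P_le_NQ (C.mem 4), mem_centralizer_iff.2 fun v hv => by
    exact mem_centralizer_singleton_iff.1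
      (C.le_centralizer_four (by norm_num) (by norm_num) (by norm_num) (parSub_le C _ _ _ hv))⟩
  have hz2 := C.orderOf_two (show 4 < 64 by norm_num) (by norm_num) (by decide +kernel)
  have hcen : ∀ h ∈ centQ C, h * el f x y q 4 = el f x y q 4 * h := fun h hh =>
    ((mem_NQ_iff C).1 hh.1).1
  have key : ∀ w < 64, inQ w = true → (∀ v < 64, inQ v = true → cm 0 0 0 v w = true) →
      w = 0 ∨ w = 4 := by decide +kernel
  obtain ⟨T⟩ : Nonempty (Sylow 2 (centQ C)) := inferInstance
  have hT : ∀ a ∈ (T : Subgroup (centQ C)), (a : G) = 1 ∨ (a : G) = el f x y q 4 := by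
    intro a ha
    obtain ⟨k, hk⟩ := T.2 ⟨a, ha⟩
    have hk' : (a : G) ^ 2 ^ k = 1 := congrArg (fun w : (T : Subgroup (centQ C)) => ((w : centQ C) : G)) hk
    have haQ := two_elem_ker K (centQ_ker K (g := ⟨a, a.2.1⟩) a.2) hk'
    obtain ⟨w, hw, hwp, hw'⟩ := haQ
    have hw' : el f x y q w = a := hw'
    have := key w hw (by simpa [inQ] using hwp) fun v hv hvq => beq_iff_eq.2
      ((C.comm_iff hv hw).1 (by rw [hw']; exact mem_centralizer_iff.1 a.2.2 _ (mem_Q C hv hvq)))
    rcases this with rfl | rfl
    · exact Or.inl (hw'.symm.trans ((C.eq_one_iff (by norm_num)).2 rfl))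
    · exact Or.inr hw'.symm
  have h2dvd : 2 ∣ Nat.card (centQ C) := by
    have := Subgroup.card_dvd_of_le (zpowers_le.2 hz)
    rwa [Nat.card_zpowers, hz2] at this
  obtain ⟨m, hm⟩ := h2dvd
  have hodd : Odd m := by
    by_contra hne
    obtain ⟨j, rfl⟩ := Nat.not_odd_iff_even.1 hne |>.two_dvd
    have hT4 : 2 ^ 2 ∣ Nat.card (T : Subgroup (centQ C)) :=
      T.pow_dvd_card_of_pow_dvd_card ⟨j, by rw [hm]; ring⟩
    have hle : Nat.card (T : Subgroup (centQ C)) ≤ 2 := by
      refine (Nat.card_le_card_of_injective (fun a : (T : Subgroup (centQ C)) =>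
        (decide ((a : centQ C) = (1 : centQ C)) : Bool)) fun a b hab => ?_).trans (by simp)
      simp only [decide_eq_decide] at hab
      rcases hT _ a.2 with ha | ha <;> rcases hT _ b.2 with hb | hb
      · exact Subtype.ext (Subtype.ext (ha.trans hb.symm))
      · have hb1 := congrArg Subtype.val (hab.1 (Subtype.ext ha))
        exact Subtype.ext (Subtype.ext (ha.trans hb1.symm))
      · have ha1 := congrArg Subtype.val (hab.2 (Subtype.ext hb))
        exact Subtype.ext (Subtype.ext (ha1.trans hb.symm))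
      · exact Subtype.ext (Subtype.ext (ha.trans hb.symm))
    have := Nat.le_of_dvd Nat.card_pos hT4
    omega
  obtain ⟨D, hD, hDodd, hDm, hDmem, hDor⟩ := exists_odd_part (centQ C) hz hz2 hcen hm hodd
  refine ⟨D, hD, hDodd, fun n hn d hd => ?_, hDor⟩
  refine hDmem _ ⟨(NQ C).mul_mem ((NQ C).mul_mem hn (hD hd).1) ((NQ C).inv_mem hn),
    mem_centralizer_iff.2 fun v hv => ?_⟩ (by rw [conj_pow, hDm d hd, mul_one, mul_inv_cancel])
  have hv' : n⁻¹ * v * n ∈ parSub C true true false := by
    have := (mem_normalizer_iff.1 ((mem_NQ_iff C).1 ((NQ C).inv_mem hn)).2 v).1 hv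
    rwa [inv_inv] at this
  have h := mem_centralizer_iff.1 (hD hd).2 _ hv'
  calc v * (n * d * n⁻¹) = n * ((n⁻¹ * v * n) * d) * n⁻¹ := by group
    _ = n * (d * (n⁻¹ * v * n)) * n⁻¹ := by rw [h]
    _ = n * d * n⁻¹ * v := by group

end CfsgLib.Recog.M12Eight
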