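import Cfsg.Agent.Lib.Recog.M12Eight.IndexTwo
import Cfsg.Agent.Lib.Recog.M12Eight.Regular
import Cfsg.Prelude.Def_CaseTheorems
import Cfsg.Agent.Lib.Invol.ZStar
import Cfsg.Agent.Lib.Solvable.PCore
import Mathlib.GroupTheory.QuotientGroup.Basic

/-!
# The centraliser of `z` is its odd core times the normaliser of `Q`
-/

set_option autoImplicit false
set_option linter.unusedSectionVars false
set_option linter.style.haveILetI false

namespace CfsgLib.Recog.M12Eight

open Subgroup

universe u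

variable {G : Type u} [Group G] [Finite G] {P : Sylow 2 G} {f x y q : G}
  {C : Coords 0 0 0 (P : Subgroup G) f x y q}

/-- The statement used about a group with an elementary Sylow subgroup on which the normaliser
acts without fixed points and not transitively. -/
def SemiregularStmt : Prop :=
  ∀ (X : Type u) [Group X] [Finite X] (S : Sylow 2 X),
    (∀ a ∈ (S : Subgroup X), a * a = 1) → 8 ≤ Nat.card (S : Subgroup X) →
    (∀ n ∈ normalizer ((S : Subgroup X) : Set X), ∀ s ∈ (S : Subgroup X), s ≠ 1 →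
      n * s = s * n → ∀ t ∈ (S : Subgroup X), n * t = t * n) →
    (∃ s ∈ (S : Subgroup X), ∃ t ∈ (S : Subgroup X), s ≠ 1 ∧ t ≠ 1 ∧
      ∀ n ∈ normalizer ((S : Subgroup X) : Set X), n * s * n⁻¹ ≠ t) →
    ∀ g : X, ∃ o ∈ Cfsg.oddCore X, ∃ n ∈ normalizer ((S : Subgroup X) : Set X), g = o * n

/-- The odd core of the centraliser of an element, in the group. -/
def cenCore (a : G) : Subgroup G :=
  (Cfsg.oddCore (centralizer ({a} : Set G))).map (centralizer ({a} : Set G)).subtype

theorem cenCore_le (a : G) : cenCore a ≤ centralizer ({a} : Set G) := map_subtype_le _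

theorem odd_card_cenCore (a : G) : Odd (Nat.card (cenCore a)) := by
  rw [cenCore, CfsgLib.Solvable.card_map_subtype]
  exact CfsgLib.Invol.odd_card_oddCore _

/-- A subgroup of odd order normalised by the centraliser lies in its odd core. -/
theorem le_cenCore {a : G} {D : Subgroup G} (hD : D ≤ centralizer ({a} : Set G))
    (hodd : Odd (Nat.card D))
    (hn : ∀ g ∈ centralizer ({a} : Set G), ∀ d ∈ D, g * d * g⁻¹ ∈ D) : D ≤ cenCore a := by
  set Ca := centralizer ({a} : Set G)
  have hN : (D.subgroupOf Ca).Normal := ⟨fun d hd g => hn g g.2 d hd⟩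
  have h : D.subgroupOf Ca ≤ Cfsg.oddCore Ca := CfsgLib.Invol.le_oddCore hN (by
    rwa [Nat.card_congr (subgroupOfEquivOfLe hD).toEquiv])
  intro d hd
  exact ⟨⟨d, hD hd⟩, h hd, rfl⟩

theorem q_sq : ∀ n < 64, inQ n = true → mul0 n n = 0 ∨ mul0 n n = 4 := by decide +kernel

/-- **The decomposition.** -/
theorem decomp (hSR : SemiregularStmt.{u}) (K : Classes C) :
    ∀ g ∈ centralizer ({el f x y q 4} : Set G),
      ∃ o ∈ cenCore (el f x y q 4), ∃ n ∈ NQ C, g = o * n := by
  classical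
  obtain ⟨C1, D⟩ := exists_index_two K
  set z := el f x y q 4 with hz
  have hz2 : orderOf z = 2 := C.orderOf_two (show 4 < 64 by norm_num) (by norm_num) (by decide +kernel)
  have hzQ : z ∈ parSub C true true false := mem_Q C (by norm_num) (by decide +kernel)
  have hzc : ∀ g ∈ C1, g * z = z * g := fun g hg => mem_centralizer_singleton_iff.1 (D.le hg)
  let z1 : C1 := ⟨z, D.Q_le hzQ⟩
  have hz1 : z1 ∈ center C1 := mem_center_iff.2 fun g => Subtype.ext (hzc g g.2)
  let Z : Subgroup C1 := zpowers z1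
  haveI : Z.Normal := ⟨fun a ha g => by
    have hc : a ∈ center C1 := (zpowers_le.2 hz1) ha
    rwa [(mem_center_iff.1 hc g), mul_inv_cancel_right]⟩
  have hmemZ : ∀ a : C1, a ∈ Z ↔ (a : G) = 1 ∨ (a : G) = z := by
    intro a
    constructor
    · intro ha
      obtain ⟨k, rfl⟩ := mem_zpowers_iff.1 ha
      have h2 : z ^ (2 : ℤ) = 1 := by
        rw [zpow_two, ← pow_two, ← hz2, pow_orderOf_eq_one]
      rcases Int.even_or_odd k with ⟨j, rfl⟩ | ⟨j, rfl⟩
      · left
        rw [SubgroupClass.coe_zpow, ← two_mul, zpow_mul]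
        show (z ^ (2 : ℤ)) ^ j = 1
        rw [h2, one_zpow]
      · right
        rw [SubgroupClass.coe_zpow, zpow_add, zpow_mul, zpow_one]
        show (z ^ (2 : ℤ)) ^ j * z = z
        rw [h2, one_zpow, one_mul]
    · rintro (h | h)
      · rw [show a = 1 from Subtype.ext h]; exact one_mem _
      · rw [show a = z1 from Subtype.ext h]; exact mem_zpowers _
  let π := QuotientGroup.mk' Z
  -- the Sylow subgroup
  set Q1 : Subgroup C1 := (parSub C true true false).subgroupOf C1 with hQ1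
  have hQ1p : IsPGroup 2 Q1 :=
    (P.2.to_le (parSub_le C _ _ _)).of_equiv (subgroupOfEquivOfLe D.Q_le).symm
  let T : Sylow 2 C1 :=
    { toSubgroup := Q1
      isPGroup' := hQ1p
      is_maximal' := by
        intro R hR hle
        obtain ⟨h, hh, hhR⟩ := D.exists_conj_le (map_subtype_le R) (hR.map C1.subtype)
        have hle' : (R.map C1.subtype).map (MulAut.conj h).toMonoidHom ≤ parSub C true true false := by
          rintro _ ⟨a, ha, rfl⟩
          exact hhR a ha
        refine (eq_of_le_of_card_ge hle ?_).symm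
        have := Subgroup.card_le_of_le hle'
        rwa [card_map_of_injective (MulAut.conj h).injective,
          card_map_of_injective C1.subtype_injective, ← Nat.card_congr
            (subgroupOfEquivOfLe D.Q_le).toEquiv] at this }
  have hπ : Function.Surjective π := QuotientGroup.mk'_surjective _
  let S : Sylow 2 (C1 ⧸ Z) := T.mapSurjective hπ
  have hScoe : (S : Subgroup (C1 ⧸ Z)) = Q1.map π := rfl
  have hpre : ∀ a : C1, π a ∈ (S : Subgroup (C1 ⧸ Z)) → (a : G) ∈ parSub C true true false := by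
    rintro a ⟨b, hb, hab⟩
    have hm : b⁻¹ * a ∈ Z := QuotientGroup.eq.1 hab
    have hb' : (b : G) ∈ parSub C true true false := hb
    rcases (hmemZ _).1 hm with h | h <;> rw [Subgroup.coe_mul, Subgroup.coe_inv,
      inv_mul_eq_iff_eq_mul] at h <;> rw [h]
    · rw [mul_one]; exact hb'
    · exact mul_mem hb' hzQ
  have hliftN : ∀ a : C1, π a ∈ normalizer ((S : Subgroup (C1 ⧸ Z)) : Set (C1 ⧸ Z)) →
      (a : G) ∈ NQ C := by
    intro a ha
    refine mem_NQ_of_forall C (D.le a.2) fun n hn hq => parSub_le C true true false ?_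
    have hb : (⟨el f x y q n, D.Q_le (mem_Q C hn hq)⟩ : C1) ∈ Q1 := mem_Q C hn hq
    have h := (mem_normalizer_iff.1 ha _).1 (mem_map_of_mem π hb)
    rw [← map_mul, ← map_inv, ← map_mul] at h
    exact hpre _ h
  -- hypotheses
  have hmul0 : ∀ a b, el f x y q a * el f x y q b = el f x y q (mul0 a b) := fun a b => C.toRel.el_mul a b
  have hsq : ∀ s ∈ (S : Subgroup (C1 ⧸ Z)), s * s = 1 := by
    rintro _ ⟨b, hb, rfl⟩
    obtain ⟨n, hn, hp, hn'⟩ := (show (b : G) ∈ parSub C true true false from hb)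
    rw [← map_mul]
    refine (QuotientGroup.eq_one_iff _).2 ((hmemZ _).2 ?_)
    rw [Subgroup.coe_mul, ← hn', hmul0]
    rcases q_sq n hn (by simpa [inQ] using hp) with h | h <;> rw [h]
    · exact Or.inl ((C.eq_one_iff (by norm_num)).2 rfl)
    · exact Or.inr rfl
  have hcard : 8 ≤ Nat.card (S : Subgroup (C1 ⧸ Z)) := by
    have key : ∀ i ∈ [0, 2, 8, 10, 17, 19, 25, 27, 32, 34, 40, 42, 49, 51, 57, 59],
        ∀ j ∈ [0, 2, 8, 10, 17, 19, 25, 27, 32, 34, 40, 42, 49, 51, 57, 59],
        mul0 i 0 = i ∧ inQ i = true ∧ i < 64 ∧ (i = j ∨ (mul0 j 4 ≠ i ∧ i ≠ j)) := by decide +kernel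
    set L := [0, 2, 8, 10, 17, 19, 25, 27, 32, 34, 40, 42, 49, 51, 57, 59] with hL
    have hi : ∀ i : Fin L.length, L.get i ∈ L := fun i => List.get_mem L i
    let φ : Fin L.length → (S : Subgroup (C1 ⧸ Z)) := fun i =>
      ⟨π ⟨el f x y q (L.get i), D.Q_le (mem_Q C (key _ (hi i) _ (hi i)).2.2.1 (key _ (hi i) _ (hi i)).2.1)⟩,
        mem_map_of_mem π (mem_Q C (key _ (hi i) _ (hi i)).2.2.1 (key _ (hi i) _ (hi i)).2.1)⟩
    have hinj : Function.Injective φ := by
      intro i j hij
      have hm := QuotientGroup.eq.1 (congrArg Subtype.val hij)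
      obtain ⟨-, -, hi64, hne⟩ := key _ (hi i) _ (hi j)
      obtain ⟨-, -, hj64, hne'⟩ := key _ (hi j) _ (hi i)
      have hnd : L.Nodup := by decide
      refine (List.Nodup.get_inj_iff hnd).1 ?_
      rcases (hmemZ _).1 hm with h | h <;>
        rw [Subgroup.coe_mul, Subgroup.coe_inv, inv_mul_eq_iff_eq_mul] at h
      · rw [mul_one] at h
        exact (C.inj _ hj64 _ hi64 h).symm
      · exfalso
        rw [hmul0] at h
        have h' := C.inj _ hj64 _ (mul_lt hi64) h
        rcases hne' with e | ⟨e, -⟩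
        · rw [e] at h'
          have key2 : ∀ i < 64, mul0 i 4 ≠ i := by decide +kernel
          exact key2 _ hi64 h'.symm
        · exact e h'.symm
    have := Nat.card_le_card_of_injective φ hinj
    rw [Nat.card_fin] at this
    exact le_trans (by norm_num [hL]) this
  have hreg : ∀ n ∈ normalizer ((S : Subgroup (C1 ⧸ Z)) : Set (C1 ⧸ Z)),
      ∀ s ∈ (S : Subgroup (C1 ⧸ Z)), s ≠ 1 → n * s = s * n →
      ∀ t ∈ (S : Subgroup (C1 ⧸ Z)), n * t = t * n := by
    intro n hn s hs hs1 hns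
    obtain ⟨a, rfl⟩ := hπ n
    have haN := hliftN a hn
    obtain ⟨b, hb, rfl⟩ := hs
    obtain ⟨v, hv, hp, hv'⟩ := (show (b : G) ∈ parSub C true true false from hb)
    have hconj : ∀ {b : C1}, π a * π b = π b * π a →
        (a : G) * b * (a : G)⁻¹ = b ∨ (a : G) * b * (a : G)⁻¹ = b * z := by
      intro b h
      rw [← map_mul, ← map_mul] at h
      have hm := QuotientGroup.eq.1 h.symm
      rcases (hmemZ _).1 hm with e | e <;>
        simp only [Subgroup.coe_mul, Subgroup.coe_inv, inv_mul_eq_iff_eq_mul] at e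
      · left
        rw [e, mul_one, mul_inv_cancel_right]
      · right
        rw [e, mul_assoc (b : G), hzc a a.2, ← mul_assoc, mul_inv_cancel_right]
    have hker : cosetHom K ⟨a, haN⟩ = 1 := by
      have h := hconj hns
      rw [← hv'] at h
      refine ker_of_fix K (D.sign_eq_one K ⟨a, haN⟩ a.2) hv (by simpa [inQ] using hp) ?_ ?_ h
      · intro h0
        refine hs1 ((QuotientGroup.eq_one_iff _).2 ((hmemZ _).2 (Or.inl ?_)))
        rw [← hv', h0, (C.eq_one_iff (by norm_num)).2 rfl]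
      · intro h4
        exact hs1 ((QuotientGroup.eq_one_iff _).2 ((hmemZ _).2 (Or.inr (by rw [← hv', h4]))))
    rintro _ ⟨t, ht, rfl⟩
    rw [← map_mul, ← map_mul]
    refine QuotientGroup.eq.2 ((hmemZ _).2 ?_)
    rcases ker_fix K hker (show (t : G) ∈ parSub C true true false from ht) with e | e
    · left
      simp only [Subgroup.coe_mul, Subgroup.coe_inv, inv_mul_eq_one]
      exact mul_inv_eq_iff_eq_mul.1 e
    · right
      have e' : (a : G) * (t : G) = (t : G) * z * (a : G) := mul_inv_eq_iff_eq_mul.1 e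
      simp only [Subgroup.coe_mul, Subgroup.coe_inv]
      rw [inv_mul_eq_iff_eq_mul, e', mul_assoc ((t : G) * z) (a : G) z, hzc a a.2,
        mul_assoc (t : G) z (z * (a : G)), ← mul_assoc z z,
        ← pow_two, ← hz2, pow_orderOf_eq_one, one_mul]
  have h32q : inQ 32 = true ∧ inQ 17 = true ∧ inE 17 = false ∧ inE 21 = false ∧ inE 32 = true ∧
      mul0 17 4 = 21 := by decide +kernel
  have htwo : ∃ s ∈ (S : Subgroup (C1 ⧸ Z)), ∃ t ∈ (S : Subgroup (C1 ⧸ Z)), s ≠ 1 ∧ t ≠ 1 ∧
      ∀ n ∈ normalizer ((S : Subgroup (C1 ⧸ Z)) : Set (C1 ⧸ Z)), n * s * n⁻¹ ≠ t := by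
    obtain ⟨h32, h17, hE17, hE21, hE32, e21⟩ := h32q
    let b32 : C1 := ⟨el f x y q 32, D.Q_le (mem_Q C (by norm_num) h32)⟩
    let b17 : C1 := ⟨el f x y q 17, D.Q_le (mem_Q C (by norm_num) h17)⟩
    have hne : ∀ n, n < 64 → n ≠ 0 → n ≠ 4 → ∀ b : C1, (b : G) = el f x y q n → π b ≠ 1 := by
      intro n hn hn0 hn4 b hb h
      rcases (hmemZ _).1 ((QuotientGroup.eq_one_iff _).1 h) with e | e <;> rw [hb] at e
      · exact hn0 ((C.eq_one_iff hn).1 e)
      · exact hn4 (C.inj _ hn 4 (by norm_num) e)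
    refine ⟨π b32, mem_map_of_mem π (mem_Q C (by norm_num) h32), π b17,
      mem_map_of_mem π (mem_Q C (by norm_num) h17), hne 32 (by norm_num) (by norm_num) (by norm_num) _ rfl,
      hne 17 (by norm_num) (by norm_num) (by norm_num) _ rfl, fun n hn h => ?_⟩
    obtain ⟨a, rfl⟩ := hπ n
    obtain ⟨m, hm, hmE, hm'⟩ := NQ_conj_E K (hliftN a hn) (show 32 < 64 by norm_num) hE32
    rw [← map_mul, ← map_inv, ← map_mul] at h
    rcases (hmemZ _).1 (QuotientGroup.eq.1 h) with e | e <;>
      simp only [Subgroup.coe_mul, Subgroup.coe_inv, inv_mul_eq_iff_eq_mul, b32, b17, hm'] at e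
    · rw [mul_one] at e
      rw [← C.inj 17 (by norm_num) m hm e] at hmE
      simp [hE17] at hmE
    · -- up to `z`
      have e' : el f x y q (mul0 17 4) = el f x y q m := by
        rw [← hmul0, e, hz, mul_assoc, z_mul_z C, mul_one]
      rw [e21] at e'
      rw [← C.inj 21 (by norm_num) m hm e'] at hmE
      simp [hE21] at hmE
  have main := hSR (C1 ⧸ Z) S hsq hcard hreg htwo
  -- the odd part of the preimage
  set K0 : Subgroup G := ((Cfsg.oddCore (C1 ⧸ Z)).comap π).map C1.subtype with hK0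
  have hK0card : Nat.card K0 = 2 * Nat.card (Cfsg.oddCore (C1 ⧸ Z)) := by
    rw [hK0, CfsgLib.Solvable.card_map_subtype]
    refine (QuotientGroup.card_preimage_mk Z (Cfsg.oddCore (C1 ⧸ Z) : Set (C1 ⧸ Z))).trans ?_
    rw [show Nat.card Z = 2 by rw [Nat.card_zpowers, ← Subgroup.orderOf_coe]; exact hz2]
    rfl
  have hzK0 : z ∈ K0 := by
    refine ⟨z1, ?_, rfl⟩
    show π z1 ∈ Cfsg.oddCore (C1 ⧸ Z)
    have : π z1 = 1 := (QuotientGroup.eq_one_iff z1).2 (mem_zpowers z1)
    rw [this]; exact one_mem _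
  obtain ⟨D0, hD0, hD0odd, hD0m, hD0mem, hD0or⟩ := exists_odd_part K0 hzK0 hz2
    (fun h hh => hzc h (map_subtype_le _ hh)) hK0card (CfsgLib.Invol.odd_card_oddCore _)
  -- its closure under the centraliser is the image of the odd core of `C1`
  set O1 : Subgroup G := (Cfsg.oddCore C1).map C1.subtype with hO1
  have hD0O1 : D0 ≤ O1 := by
    have hDC1 : D0 ≤ C1 := hD0.trans (map_subtype_le _)
    have hN : (D0.subgroupOf C1).Normal := ⟨fun d hd g => by
      refine hD0mem _ ?_ ?_
      · obtain ⟨d', hd', he⟩ := hD0 hd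
        refine ⟨g * d * g⁻¹, ?_, rfl⟩
        show π (g * d * g⁻¹) ∈ Cfsg.oddCore (C1 ⧸ Z)
        rw [map_mul, map_mul, map_inv]
        refine Normal.conj_mem inferInstance _ ?_ _
        rw [show d = d' from Subtype.ext he.symm]
        exact hd'
      · show ((g : G) * d * (g : G)⁻¹) ^ _ = 1
        rw [conj_pow, show (d : G) ^ Nat.card (Cfsg.oddCore (C1 ⧸ Z)) = 1 from hD0m _ hd, mul_one,
          mul_inv_cancel]⟩
    have h : D0.subgroupOf C1 ≤ Cfsg.oddCore C1 := CfsgLib.Invol.le_oddCore hN (by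
      rwa [Nat.card_congr (subgroupOfEquivOfLe hDC1).toEquiv])
    exact fun d hd => ⟨⟨d, hDC1 hd⟩, h hd, rfl⟩
  have hO1core : O1 ≤ cenCore z := by
    refine le_cenCore ((map_subtype_le _).trans D.le) ?_ ?_
    · rw [hO1, CfsgLib.Solvable.card_map_subtype]; exact CfsgLib.Invol.odd_card_oddCore _
    · intro g hg d hd
      obtain ⟨d', hd', rfl⟩ := hd
      let φ : C1 ≃* C1 :=
        { toFun := fun a => ⟨g * a * g⁻¹, D.normal g hg a a.2⟩
          invFun := fun a => ⟨g⁻¹ * a * g, by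
            simpa using D.normal g⁻¹ (inv_mem hg) a a.2⟩
          left_inv := fun a => Subtype.ext (by simp [mul_assoc])
          right_inv := fun a => Subtype.ext (by simp [mul_assoc])
          map_mul' := fun a b => Subtype.ext (by simp [mul_assoc]) }
      haveI := CfsgLib.Solvable.pPrimeCore_characteristic 2 C1
      exact ⟨φ d', (characteristic_iff_le_comap.1 this φ) hd', rfl⟩
  have hstep : ∀ a : C1, ∃ o ∈ cenCore z, ∃ n ∈ NQ C, (a : G) = o * n := by
    intro a
    obtain ⟨ob, hob, nb, hnb, he⟩ := main (π a)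
    obtain ⟨n, rfl⟩ := hπ nb
    have hnN := hliftN n hnb
    have ho : (a * n⁻¹ : C1) ∈ (Cfsg.oddCore (C1 ⧸ Z)).comap π := by
      rw [mem_comap, map_mul, map_inv, he, mul_inv_cancel_right]
      exact hob
    rcases hD0or _ (show ((a * n⁻¹ : C1) : G) ∈ K0 from mem_map_of_mem _ ho) with h | h
    · exact ⟨_, hO1core (hD0O1 h), n, hnN, by simp⟩
    · refine ⟨_, hO1core (hD0O1 h), z * n, (NQ C).mul_mem (P_le_NQ (C.mem 4)) hnN, ?_⟩
      simp only [Subgroup.coe_mul, Subgroup.coe_inv]
      rw [mul_assoc _ z (z * (n : G)), ← mul_assoc z z, hz, z_mul_z C, one_mul, inv_mul_cancel_right]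
  intro g hg
  rcases D.two g hg with h | h
  · exact hstep ⟨g, h⟩
  · obtain ⟨o, ho, n, hn, he⟩ := hstep ⟨_, h⟩
    refine ⟨o, ho, n * el f x y q 1, (NQ C).mul_mem hn (P_le_NQ (C.mem 1)), ?_⟩
    rw [← mul_assoc, ← he, inv_mul_cancel_right]

end CfsgLib.Recog.M12Eight
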