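import Cfsg.Agent.Lib.Recog.M12Eight.OuterCentralizer
import Cfsg.Agent.Lib.Invol.Strong
import Cfsg.Agent.Lib.Invol.Simple
import Cfsg.Prelude.Def_Involutions

/-!
# The signalizer group is trivial
-/

set_option autoImplicit false
set_option linter.unusedSectionVars false
set_option linter.style.haveILetI false
set_option maxRecDepth 100000

namespace CfsgLib.Recog.M12Eight

open Subgroup

universe u

variable {G : Type u} [Group G] [Finite G] {P : Sylow 2 G} {f x y q : G}
  {C : Coords 0 0 0 (P : Subgroup G) f x y q}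

/-- An involution of `holdM` is a controlled conjugate of `z` or of the outer involution. -/
theorem invol_cases (K : Classes C) {b : G} (hb : orderOf b = 2) (hbM : b ∈ holdM C) :
    ZM C b ∨ ∃ g ∈ holdM C, g * b * g⁻¹ = el f x y q 34 := by
  have hP := P_le_holdM K
  by_cases hz : IsConj (el f x y q 4) b
  · obtain ⟨g, rfl⟩ := isConj_iff.1 hz
    exact Or.inl ⟨g, control K hbM, rfl⟩
  refine Or.inr ?_
  obtain ⟨m, hm, hmP⟩ := CfsgLib.Comp.exists_conj_le_sylow P hP (zpowers_le.2 hbM)
    (IsPGroup.of_card (n := 1) (by rw [Nat.card_zpowers, hb, pow_one]))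
  obtain ⟨n, hn, hn'⟩ := C.surj _ (hmP b (mem_zpowers b))
  have hno : orderOf (el f x y q n) = 2 := by
    rw [hn', ← MulAut.conj_apply, MulEquiv.orderOf_eq, hb]
  have hnb : IsConj b (el f x y q n) := isConj_iff.2 ⟨m, hn'.symm⟩
  obtain ⟨r, hr, -, hnr⟩ := isConj_rep C hn hno
  have key : ∀ {v : G}, IsConj v (el f x y q 4) → IsConj b v → False := fun h1 h2 =>
    hz (h2.trans h1).symm
  have hbr : IsConj b (el f x y q r) := hnb.trans hnr
  have hb17 : IsConj b (el f x y q 17) := by
    simp only [List.mem_cons, List.not_mem_nil, or_false] at hr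
    rcases hr with rfl | rfl | rfl | rfl | rfl | rfl | rfl
    · exact (key (IsConj.refl _) hbr).elim
    · exact (key K.hx.symm hbr).elim
    · exact K.hy.elim (fun h => (key h hbr).elim) hbr.trans
    · exact hbr
    · exact (key K.hq hbr).elim
    · exact hbr.trans K.hb
    · exact hbr.trans K.hd
  obtain ⟨g0, hg0⟩ := isConj_iff.1 ((hnb.symm.trans hb17).trans K.hb.symm)
  set Cn := (P : Subgroup G) ⊓ centralizer ({el f x y q n} : Set G)
  have hDC : Cn.map (MulAut.conj g0).toMonoidHom ≤ centralizer ({el f x y q 34} : Set G) := by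
    rintro _ ⟨a, ha, rfl⟩
    have han := mem_centralizer_singleton_iff.1 ha.2
    rw [mem_centralizer_singleton_iff, ← hg0]
    simp only [MulEquiv.coe_toMonoidHom, MulAut.conj_apply]
    calc g0 * a * g0⁻¹ * (g0 * el f x y q n * g0⁻¹) = g0 * (a * el f x y q n) * g0⁻¹ := by group
      _ = _ := by rw [han]; group
  obtain ⟨k, hk, hkD⟩ := centraliser_extremal C (show 34 < 64 by norm_num) (by norm_num)
    outer_facts.1 outer_facts.2.2.2.2.2.2.2.2.2.2.2 (t_not_isConj K) K.hx
    ((P.2.to_le inf_le_left).map _) hDC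
  have hzn : el f x y q 4 ∈ Cn := ⟨C.mem 4, mem_centralizer_singleton_iff.2
    ((mem_centralizer_singleton_iff.1
      (C.le_centralizer_four (by norm_num) (by norm_num) (by norm_num) (C.mem n))).symm)⟩
  have him := (hkD _ (mem_map_of_mem _ hzn)).1
  simp only [MulEquiv.coe_toMonoidHom, MulAut.conj_apply] at him
  have hkg : k * g0 ∈ holdM C := control K (by
    rw [show k * g0 * el f x y q 4 * (k * g0)⁻¹ = k * (g0 * el f x y q 4 * g0⁻¹) * k⁻¹ by group]
    exact hP him)
  refine ⟨k * g0 * m, mul_mem hkg hm, ?_⟩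
  rw [show k * g0 * m * b * (k * g0 * m)⁻¹ = k * (g0 * (m * b * m⁻¹) * g0⁻¹) * k⁻¹ by group,
    ← hn', hg0, mem_centralizer_singleton_iff.1 hk, mul_inv_cancel_right]

/-- **The normaliser of the signalizer group is everything.** -/
theorem holdM_eq_top (K : Classes C) (hfive : FiveStmt C) : holdM C = ⊤ := by
  by_contra hne
  set t := el f x y q 34 with ht
  have hX := outer_centralizer_le K hfive
  have hzo : orderOf (el f x y q 4) = 2 :=
    C.orderOf_two (show 4 < 64 by norm_num) (by norm_num) (by decide +kernel)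
  have hSE : Cfsg.IsStronglyEmbedded (holdM C) := by
    refine ⟨hne, CfsgLib.Invol.even_card_of_invol_mem hzo (P_le_holdM K (C.mem 4)), fun g hg => ?_⟩
    by_contra hodd
    haveI : Fact (Nat.Prime 2) := ⟨Nat.prime_two⟩
    obtain ⟨a, ha⟩ := exists_prime_orderOf_dvd_card' 2 (Nat.not_odd_iff_even.1 hodd).two_dvd
    obtain ⟨b, hb, hba⟩ := a.2.2
    simp only [MulEquiv.coe_toMonoidHom, MulAut.conj_apply] at hba
    have hao : orderOf (a : G) = 2 := (Subgroup.orderOf_coe a).trans ha
    have hbo : orderOf b = 2 := by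
      rw [← hao, ← hba, ← MulAut.conj_apply, MulEquiv.orderOf_eq]
    apply hg
    have hclash : ∀ {v w : G}, IsConj v w → ZM C v →
        (∃ h ∈ holdM C, h * w * h⁻¹ = t) → False := by
      rintro v w hvw ⟨m, -, hm⟩ ⟨h, -, hh⟩
      exact t_not_isConj K (((isConj_iff.2 ⟨m, hm⟩ : IsConj _ v).trans hvw).trans
        (isConj_iff.2 ⟨h, hh⟩)).symm
    have hc : IsConj b (a : G) := isConj_iff.2 ⟨g, hba⟩
    rcases invol_cases K hao a.2.1 with ha' | ha' <;> rcases invol_cases K hbo hb with hb' | hb'
    · exact mem_of_ZM K hb' ha' hba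
    · exact (hclash hc.symm ha' hb').elim
    · exact (hclash hc hb' ha').elim
    · obtain ⟨u, hu, hu'⟩ := ha'
      obtain ⟨v, hv, hv'⟩ := hb'
      have h : u * g * v⁻¹ ∈ holdM C := hX (mem_centralizer_singleton_iff.2 (by
        have e : u * g * v⁻¹ * t * (u * g * v⁻¹)⁻¹ = t := by
          calc u * g * v⁻¹ * t * (u * g * v⁻¹)⁻¹
              = u * (g * (v⁻¹ * t * v) * g⁻¹) * u⁻¹ := by group
            _ = u * (g * b * g⁻¹) * u⁻¹ := by
              have e2 : v⁻¹ * t * v = b :=
                (congrArg (fun w => v⁻¹ * w * v) hv').symm.trans (by group)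
              rw [e2]
            _ = t := by rw [hba, hu']
        exact mul_inv_eq_iff_eq_mul.1 e))
      have := mul_mem (mul_mem (inv_mem hu) h) hv
      rwa [show u⁻¹ * (u * g * v⁻¹) * v = g by group] at this
  exact t_not_isConj K (CfsgLib.Invol.se_isConj hSE (t_orderOf C) hzo)

/-- The signalizer group is trivial. -/
theorem bigW_eq_bot [IsSimpleGroup G] (K : Classes C) (hfive : FiveStmt C) : bigW C = ⊥ := by
  haveI : (bigW C).Normal := normalizer_eq_top_iff.1 (holdM_eq_top K hfive)
  refine (IsSimpleGroup.eq_bot_or_eq_top_of_normal (bigW C) inferInstance).resolve_right fun h => ?_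
  have hodd := (bigW_spec K).1
  rw [h, Subgroup.card_top] at hodd
  refine Nat.not_even_iff_odd.2 hodd (even_iff_two_dvd.2 ?_)
  rw [← t_orderOf C]
  exact orderOf_dvd_natCard _

end CfsgLib.Recog.M12Eight
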