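import Cfsg.Agent.Lib.Recog.M12Eight.TypeZero
import Cfsg.Agent.Lib.Recog.M12Eight.ChecksZero
import Cfsg.Agent.Lib.Transfer.Thompson
import Cfsg.Agent.Lib.Invol.Simple

/-!
# Fusion in the centraliser of `f⁴`
-/

set_option autoImplicit false
set_option linter.unusedSectionVars false

namespace CfsgLib.Recog.M12Eight

open Subgroup

universe u

variable {G : Type u} [Group G] [Finite G] {P : Sylow 2 G} {f x y q : G}

/-- The subgroup of `P` cut out by a parity. -/
def parSub (C : Coords 0 0 0 (P : Subgroup G) f x y q) (a b c : Bool) : Subgroup G where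
  carrier := {g | ∃ n < 64, par a b c n = false ∧ el f x y q n = g}
  one_mem' := ⟨0, by norm_num, by cases a <;> cases b <;> cases c <;> rfl, by simp [el]⟩
  mul_mem' := by
    rintro _ _ ⟨u, hu, pu, rfl⟩ ⟨v, hv, pv, rfl⟩
    exact ⟨mul0 u v, mul_lt hu, by rw [par_mul a b c u hu v hv, pu, pv]; rfl, (C.toRel.el_mul u v).symm⟩
  inv_mem' := by
    rintro _ ⟨u, hu, pu, rfl⟩
    obtain ⟨v, hv, hv'⟩ := C.surj _ ((P : Subgroup G).inv_mem (C.mem u))
    have h0 : mul0 u v = 0 := (C.eq_one_iff (mul_lt hu)).1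
      ((C.toRel.el_mul u v).symm.trans (by rw [hv', mul_inv_cancel]))
    refine ⟨v, hv, ?_, hv'⟩
    have := par_mul a b c u hu v hv
    rw [h0, pu] at this
    cases a <;> cases b <;> cases c <;> simpa [par] using this.symm

theorem mem_parSub (C : Coords 0 0 0 (P : Subgroup G) f x y q) {a b c : Bool} {n : ℕ}
    (hn : n < 64) : el f x y q n ∈ parSub C a b c ↔ par a b c n = false :=
  ⟨fun ⟨_, hm, hp, he⟩ => C.inj _ hm n hn he ▸ hp, fun h => ⟨n, hn, h, rfl⟩⟩

theorem parSub_le (C : Coords 0 0 0 (P : Subgroup G) f x y q) (a b c : Bool) :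
    parSub C a b c ≤ (P : Subgroup G) := by
  rintro _ ⟨n, -, -, rfl⟩
  exact C.mem n

theorem parSub_relIndex (C : Coords 0 0 0 (P : Subgroup G) f x y q) {a b c : Bool} {u : ℕ}
    (hu : u < 64) (h : par a b c u = true) :
    (parSub C a b c).relIndex (P : Subgroup G) = 2 := by
  show ((parSub C a b c).subgroupOf (P : Subgroup G)).index = 2
  rw [index_eq_two_iff]
  refine ⟨⟨el f x y q u, C.mem u⟩, fun g => ?_⟩
  obtain ⟨n, hn, hng⟩ := C.surj _ g.2
  simp only [mem_subgroupOf, Subgroup.coe_mul, ← hng, C.toRel.el_mul,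
    show mul 0 0 0 n u = mul0 n u from rfl,
    mem_parSub C (show mul0 n u < 64 from mul_lt hn), mem_parSub C hn,
    par_mul a b c n hn u hu, h]
  cases par a b c n <;> simp [Xor]

theorem isConj_rep (C : Coords 0 0 0 (P : Subgroup G) f x y q) {n : ℕ} (hn : n < 64)
    (h : orderOf (el f x y q n) = 2) :
    ∃ r ∈ [4, 8, 16, 17, 32, 34, 49], cj 0 0 0 n r = true ∧
      IsConj (el f x y q n) (el f x y q r) := by
  have h0 : n ≠ 0 := fun h0 => by
    rw [h0, (C.eq_one_iff (by norm_num)).2 rfl] at h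
    simp at h
  have h2 : mul 0 0 0 n n = 0 := by rw [← C.sq_eq_one_iff hn, ← pow_two, ← h, pow_orderOf_eq_one]
  obtain ⟨r, hr, hc⟩ := List.any_eq_true.1 (inv_rep n hn (by simp [isInv, h0, h2]))
  exact ⟨r, hr, hc, C.isConj_of_cj hc⟩

/-- Transfer: an involution outside a maximal subgroup is conjugate to a representative in it. -/
theorem transfer_rep [IsSimpleGroup G] (hna : ¬ IsMulCommutative G)
    (C : Coords 0 0 0 (P : Subgroup G) f x y q) (a b c : Bool) {u : ℕ} (hu : u < 64)
    (h : par a b c u = true) (h0 : u ≠ 0) (h2 : mul0 u u = 0) :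
    ∃ r ∈ [4, 8, 16, 17, 32, 34, 49], par a b c r = false ∧
      IsConj (el f x y q u) (el f x y q r) := by
  have huo := C.orderOf_two hu h0 h2
  rcases CfsgLib.Transfer.thompson_transfer_involution P (parSub_le C a b c)
    (parSub_relIndex C hu h) (u := el f x y q u)
    (by rw [← huo, pow_orderOf_eq_one]) (C.mem u) with ⟨M, hM, hi, hu'⟩ | ⟨g, n, hn, hp, hg⟩
  · exfalso
    rcases IsSimpleGroup.eq_bot_or_eq_top_of_normal M hM with hb | ht
    · exact CfsgLib.Invol.index_ne_two_of_simple hna M hi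
    · exact hu' (ht ▸ mem_top _)
  · have hno : orderOf (el f x y q n) = 2 := by
      rw [hg, ← MulAut.conj_apply, MulEquiv.orderOf_eq, huo]
    obtain ⟨r, hr, hc, hconj⟩ := isConj_rep C hn hno
    exact ⟨r, hr, (rep_par r hr n hn a b c hc).symm.trans hp,
      (isConj_iff.2 ⟨g, hg.symm⟩).trans hconj⟩

/-- Roots of `z` are carried to roots, so `Q` to `Q`. -/
theorem conj_mem_Q (C : Coords 0 0 0 (P : Subgroup G) f x y q) {g : G}
    (hz : g * el f x y q 4 * g⁻¹ = el f x y q 4)
    (h : ∀ n < 64, inQ n = true → g * el f x y q n * g⁻¹ ∈ (P : Subgroup G)) :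
    ∀ n ∈ parSub C true true false, g * n * g⁻¹ ∈ parSub C true true false := by
  have hroot : ∀ a < 64, mul0 a a = 4 → g * el f x y q a * g⁻¹ ∈ parSub C true true false := by
    intro a ha haa
    obtain ⟨b, hb, hb'⟩ := C.surj _ (h a ha (roots_in_Q a ha haa))
    rw [← hb', mem_parSub C hb]
    have hbb : mul0 b b = 4 := (C.mul_eq_iff hb (by norm_num)).1 (by
      rw [hb']
      calc g * el f x y q a * g⁻¹ * (g * el f x y q a * g⁻¹)
          = g * (el f x y q a * el f x y q a) * g⁻¹ := by group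
        _ = el f x y q 4 := by rw [C.toRel.el_mul, show mul 0 0 0 a a = 4 from haa, hz])
    simpa [inQ] using roots_in_Q b hb hbb
  rintro _ ⟨n, hn, hp, rfl⟩
  obtain ⟨a, ha, hb'⟩ := List.any_eq_true.1 (Q_gen n hn (by simp [inQ, hp]))
  obtain ⟨b, hb, hab⟩ := List.any_eq_true.1 hb'
  simp only [Bool.and_eq_true, beq_iff_eq, List.mem_range] at hab ha hb
  rw [← hab.2, show el f x y q (mul0 a b) = el f x y q a * el f x y q b from
    (C.toRel.el_mul a b).symm,
    show g * (el f x y q a * el f x y q b) * g⁻¹ =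
      (g * el f x y q a * g⁻¹) * (g * el f x y q b * g⁻¹) by group]
  exact (parSub C true true false).mul_mem (hroot a ha hab.1.1) (hroot b hb hab.1.2)

/-- Centralising `z` and normalising `Q`. -/
def NQ (C : Coords 0 0 0 (P : Subgroup G) f x y q) : Subgroup G :=
  centralizer ({el f x y q 4} : Set G) ⊓ normalizer (parSub C true true false : Set G)

theorem mem_NQ_of_forall (C : Coords 0 0 0 (P : Subgroup G) f x y q) {g : G}
    (hg : g ∈ centralizer ({el f x y q 4} : Set G))
    (h : ∀ n < 64, inQ n = true → g * el f x y q n * g⁻¹ ∈ (P : Subgroup G)) : g ∈ NQ C := by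
  have hz : g * el f x y q 4 * g⁻¹ = el f x y q 4 := by
    rw [mem_centralizer_singleton_iff.1 hg, mul_inv_cancel_right]
  exact ⟨hg, Subgroup.mem_normalizer_fintype (conj_mem_Q C hz h)⟩

/-- Two elements of `Q` conjugate in the centraliser of `z` are conjugate, up to `z`, under the
normaliser of `Q` in it. -/
theorem conj_in_NQ (C : Coords 0 0 0 (P : Subgroup G) f x y q) {s t : G}
    (hs : s ∈ parSub C true true false) (ht : t ∈ parSub C true true false) {g : G}
    (hg : g ∈ centralizer ({el f x y q 4} : Set G)) (hgt : g * t * g⁻¹ = s) :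
    ∃ n ∈ NQ C, n * t * n⁻¹ = s ∨ n * t * n⁻¹ = s * el f x y q 4 := by
  set z := el f x y q 4 with hzdef
  have hP : (P : Subgroup G) ≤ centralizer ({z} : Set G) :=
    C.le_centralizer_four (by norm_num) (by norm_num) (by norm_num)
  have hz2 : z * z = 1 := (C.sq_eq_one_iff (by norm_num)).2 (by decide +kernel)
  -- the stabiliser of `{s, sz}`
  let H : Subgroup G :=
    { carrier := {h | h * z = z * h ∧ (h * s * h⁻¹ = s ∨ h * s * h⁻¹ = s * z)}
      one_mem' := ⟨by simp, Or.inl (by simp)⟩
      mul_mem' := by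
        rintro h k ⟨h1, h2⟩ ⟨k1, k2⟩
        refine ⟨by rw [mul_assoc, k1, ← mul_assoc, h1, mul_assoc], ?_⟩
        have e1 : h * z * h⁻¹ = z := by rw [h1, mul_inv_cancel_right]
        rcases k2 with k2 | k2 <;> rcases h2 with h2 | h2
        · exact Or.inl (by rw [show h * k * s * (h * k)⁻¹ = h * (k * s * k⁻¹) * h⁻¹ by group, k2, h2])
        · exact Or.inr (by rw [show h * k * s * (h * k)⁻¹ = h * (k * s * k⁻¹) * h⁻¹ by group, k2, h2])
        · refine Or.inr ?_
          rw [show h * k * s * (h * k)⁻¹ = h * (k * s * k⁻¹) * h⁻¹ by group, k2,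
            show h * (s * z) * h⁻¹ = (h * s * h⁻¹) * (h * z * h⁻¹) by group, h2, e1]
        · refine Or.inl ?_
          rw [show h * k * s * (h * k)⁻¹ = h * (k * s * k⁻¹) * h⁻¹ by group, k2,
            show h * (s * z) * h⁻¹ = (h * s * h⁻¹) * (h * z * h⁻¹) by group, h2, e1, mul_assoc,
            hz2, mul_one]
      inv_mem' := by
        rintro h ⟨h1, h2⟩
        have e1 : h⁻¹ * z = z * h⁻¹ := by
          rw [inv_mul_eq_iff_eq_mul, ← mul_assoc, h1, mul_inv_cancel_right]
        refine ⟨e1, ?_⟩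
        rcases h2 with h2 | h2
        · refine Or.inl ?_
          conv_lhs => rw [← h2]
          group
        · refine Or.inr ?_
          have e2 : h⁻¹ * z * h = z := by rw [e1, inv_mul_cancel_right]
          have e3 : s = h⁻¹ * (s * z) * h := by rw [← h2]; group
          calc h⁻¹ * s * h⁻¹⁻¹ = h⁻¹ * (s * z) * h * (h⁻¹ * z * h) := by
                have : h⁻¹ * (s * z) * h * (h⁻¹ * z * h) = h⁻¹ * (s * (z * z)) * h := by group
                rw [this, hz2, mul_one, inv_inv]
            _ = s * z := by rw [← e3, e2] }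
  have hcomm : ∀ a ∈ parSub C true true false, ∀ b ∈ parSub C true true false,
      a * b = b * a ∨ a * b = b * a * z := by
    rintro _ ⟨a, ha, hpa, rfl⟩ _ ⟨b, hb, hpb, rfl⟩
    have key : ∀ a < 64, ∀ b < 64, par true true false a = false → par true true false b = false →
        mul0 a b = mul0 b a ∨ mul0 a b = mul0 (mul0 b a) 4 := by decide +kernel
    rcases key a ha b hb hpa hpb with h | h
    · exact Or.inl ((C.comm_iff ha hb).2 h)
    · refine Or.inr ?_
      rw [C.toRel.el_mul, C.toRel.el_mul, hzdef, C.toRel.el_mul]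
      exact congrArg _ h
  have hQC : ∀ a ∈ parSub C true true false, a * z = z * a := fun a ha =>
    mem_centralizer_singleton_iff.1 (hP (parSub_le C true true false ha))
  have hQH : parSub C true true false ≤ H := fun a ha => by
    refine ⟨hQC a ha, ?_⟩
    rcases hcomm a ha s hs with h | h
    · exact Or.inl (by rw [h, mul_inv_cancel_right])
    · refine Or.inr ?_
      rw [h, mul_assoc s a z, hQC a ha]
      group
  have hgz : g * z * g⁻¹ = z := by rw [mem_centralizer_singleton_iff.1 hg, mul_inv_cancel_right]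
  have hgH : (parSub C true true false).map (MulAut.conj g).toMonoidHom ≤ H := by
    rintro _ ⟨a, ha, rfl⟩
    simp only [MulEquiv.coe_toMonoidHom, MulAut.conj_apply]
    constructor
    · have h := congrArg (fun w => g * w * g⁻¹) (hQC a ha)
      calc g * a * g⁻¹ * z = g * a * g⁻¹ * (g * z * g⁻¹) := by rw [hgz]
        _ = g * (a * z) * g⁻¹ := by group
        _ = g * (z * a) * g⁻¹ := h
        _ = g * z * g⁻¹ * (g * a * g⁻¹) := by group
        _ = z * (g * a * g⁻¹) := by rw [hgz]
    · rcases hcomm a ha t ht with h | h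
      · refine Or.inl ?_
        rw [← hgt, show g * a * g⁻¹ * (g * t * g⁻¹) * (g * a * g⁻¹)⁻¹ = g * (a * t * a⁻¹) * g⁻¹ by
          group, h, mul_inv_cancel_right]
      · refine Or.inr ?_
        have e2 : a * t * a⁻¹ = t * z := by
          rw [h, mul_assoc t a z, hQC a ha]; group
        rw [← hgt, show g * a * g⁻¹ * (g * t * g⁻¹) * (g * a * g⁻¹)⁻¹ = g * (a * t * a⁻¹) * g⁻¹ by
          group, e2, show g * (t * z) * g⁻¹ = g * t * g⁻¹ * (g * z * g⁻¹) by group, hgz]
  have hQp : IsPGroup 2 (parSub C true true false) := P.2.to_le (parSub_le C _ _ _)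
  obtain ⟨T, hT⟩ := (hQp.comap_of_injective H.subtype H.subtype_injective).exists_le_sylow
  obtain ⟨T', hT'⟩ := ((hQp.map (MulAut.conj g).toMonoidHom).comap_of_injective H.subtype
    H.subtype_injective).exists_le_sylow
  obtain ⟨k, hk⟩ := MulAction.exists_smul_eq H T' T
  have hTC : (T : Subgroup H).map H.subtype ≤ centralizer ({z} : Set G) := by
    rintro _ ⟨a, -, rfl⟩
    exact mem_centralizer_singleton_iff.2 a.2.1
  obtain ⟨h, hh, hhT⟩ := CfsgLib.Comp.exists_conj_le_sylow P hP hTC (T.2.map H.subtype)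
  have h1 : h ∈ NQ C := mem_NQ_of_forall C hh fun n hn hq => by
    refine hhT _ ⟨⟨el f x y q n, hQH ?_⟩, hT ?_, rfl⟩
    · rw [mem_parSub C hn]; simpa [inQ] using hq
    · show el f x y q n ∈ parSub C true true false
      rw [mem_parSub C hn]; simpa [inQ] using hq
  have h2 : h * ((k : G) * g) ∈ NQ C := by
    refine mem_NQ_of_forall C ((centralizer ({z} : Set G)).mul_mem hh
      ((centralizer ({z} : Set G)).mul_mem (mem_centralizer_singleton_iff.2 k.2.1) hg))
      fun n hn hq => ?_
    have hnQ : el f x y q n ∈ parSub C true true false := by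
      rw [mem_parSub C hn]; simpa [inQ] using hq
    let a : H := ⟨g * el f x y q n * g⁻¹, hgH ⟨_, hnQ, rfl⟩⟩
    have ha : a ∈ (T' : Subgroup H) := hT' ⟨_, hnQ, rfl⟩
    have hka : k * a * k⁻¹ ∈ (T : Subgroup H) := by
      rw [← hk, Sylow.coe_subgroup_smul]
      exact ⟨a, ha, by simp [MulAut.conj_apply]⟩
    have := hhT _ ⟨_, hka, rfl⟩
    simpa [a, mul_assoc] using this
  refine ⟨(k : G) * g, ?_, ?_⟩
  · simpa using (NQ C).mul_mem ((NQ C).inv_mem h1) h2
  · rw [show (k : G) * g * t * ((k : G) * g)⁻¹ = k * (g * t * g⁻¹) * (k : G)⁻¹ by group, hgt]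
    exact k.2.2

end CfsgLib.Recog.M12Eight
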