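import Cfsg.Agent.Lib.Recog.M12Eight.Local
import Cfsg.Agent.Lib.Transfer.Thompson
import Mathlib.GroupTheory.Perm.Sign
import Mathlib.GroupTheory.Commutator.Basic

/-!
# A subgroup of index two in the centraliser of `z`
-/

set_option autoImplicit false
set_option linter.unusedSectionVars false

namespace CfsgLib.Recog.M12Eight

open Subgroup

universe u

variable {G : Type u} [Group G] [Finite G] {P : Sylow 2 G} {f x y q : G}
  {C : Coords 0 0 0 (P : Subgroup G) f x y q}

theorem q_gens : ∀ n < 64, inQ n = true → ((List.range 4).any fun i => (List.range 2).any fun a =>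
    (List.range 2).any fun b => (List.range 2).any fun c =>
      mul0 (mul0 (mul0 (2 * i) (8 * a)) (17 * b)) (32 * c) == n) = true := by decide +kernel

theorem q_fourth : ∀ n < 64, inQ n = true → mul0 (mul0 n n) (mul0 n n) = 0 := by decide +kernel

theorem inQ_mul_one : ∀ n < 64, inQ n = false → inQ (mul0 n 1) = true := by decide +kernel

/-- What is used of the subgroup of index two. -/
structure IndexTwo (C : Coords 0 0 0 (P : Subgroup G) f x y q) (C1 : Subgroup G) : Prop where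
  le : C1 ≤ centralizer ({el f x y q 4} : Set G)
  normal : ∀ g ∈ centralizer ({el f x y q 4} : Set G), ∀ m ∈ C1, g * m * g⁻¹ ∈ C1
  notMem : el f x y q 1 ∉ C1
  two : ∀ g ∈ centralizer ({el f x y q 4} : Set G), g ∈ C1 ∨ g * (el f x y q 1)⁻¹ ∈ C1
  Q_le : parSub C true true false ≤ C1

theorem z_eq_sq : el f x y q 4 = el f x y q 1 ^ 4 := by simp [el]

theorem exists_index_two (K : Classes C) : ∃ C1 : Subgroup G, IndexTwo C C1 := by
  classical
  set z := el f x y q 4 with hz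
  set Cz := centralizer ({z} : Set G) with hCz
  have hPC : (P : Subgroup G) ≤ Cz :=
    C.le_centralizer_four (by norm_num) (by norm_num) (by norm_num)
  let PC : Sylow 2 Cz := P.subtype hPC
  have hcoe : (PC : Subgroup Cz) = (P : Subgroup G).subgroupOf Cz := rfl
  set QC : Subgroup Cz := (parSub C true true false).subgroupOf Cz with hQC
  have hQP : QC ≤ (PC : Subgroup Cz) := fun a ha => parSub_le C _ _ _ ha
  have hrel : QC.relIndex (PC : Subgroup Cz) = 2 := by
    rw [hcoe, hQC, relIndex_subgroupOf hPC]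
    exact parSub_relIndex C (show 1 < 64 by norm_num) (by decide +kernel)
  have e1 : el f x y q 1 = f := by simp [el]
  have hf8 : f ^ 8 = 1 := C.toRel.f8
  have hf4 : f ^ 4 ≠ 1 := fun h => by
    have : el f x y q 4 = 1 := by simpa [el] using h
    exact absurd ((C.eq_one_iff (by norm_num)).1 this) (by norm_num)
  let u : Cz := ⟨el f x y q 1, hPC (C.mem 1)⟩
  have hu : ∀ g : Cz, g⁻¹ * u * g ∉ QC := by
    rintro g ⟨n, hn, hp, he⟩
    have h4 : el f x y q n ^ 4 = 1 := by
      rw [show 4 = 2 + 2 from rfl, pow_add, pow_two, C.toRel.el_mul, C.toRel.el_mul, C.eq_one_iff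
        (mul_lt (mul_lt hn))]
      exact q_fourth n hn (by simpa [inQ] using hp)
    have he' : el f x y q n = (g : G)⁻¹ * el f x y q 1 * g := he
    rw [he', show (g : G)⁻¹ * el f x y q 1 * (g : G) =
      (g : G)⁻¹ * el f x y q 1 * ((g : G)⁻¹)⁻¹ by rw [inv_inv], conj_pow, mul_inv_eq_one] at h4
    exact hf4 (by rw [← e1]; exact mul_left_cancel (h4.trans (mul_one _).symm))
  have hpow : ∀ (g : Cz) (k : ℕ), 0 < k → g⁻¹ * u ^ (2 ^ k) * g ∈ (PC : Subgroup Cz) →
      g⁻¹ * u ^ (2 ^ k) * g ∈ QC := by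
    intro g k hk hmem
    have hgz : (g : G)⁻¹ * z * g = z := by
      rw [mul_assoc, ← mem_centralizer_singleton_iff.1 g.2, inv_mul_cancel_left]
    show (g : G)⁻¹ * (el f x y q 1) ^ (2 ^ k) * g ∈ parSub C true true false
    rcases (show k = 1 ∨ k = 2 ∨ 3 ≤ k by omega) with rfl | rfl | h3
    · obtain ⟨n, hn, hn'⟩ := C.surj _ (show (g : G)⁻¹ * (el f x y q 1) ^ (2 ^ 1) * g ∈
        (P : Subgroup G) from hmem)
      rw [← hn']
      refine mem_Q C hn (roots_in_Q n hn ((C.mul_eq_iff hn (by norm_num)).1 ?_))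
      rw [hn', ← hz]
      calc (g : G)⁻¹ * el f x y q 1 ^ 2 ^ 1 * g * ((g : G)⁻¹ * el f x y q 1 ^ 2 ^ 1 * g)
          = (g : G)⁻¹ * el f x y q 1 ^ 4 * g := by group
        _ = z := by rw [← z_eq_sq, ← hz, hgz]
    · rw [show 2 ^ 2 = 4 from rfl, ← z_eq_sq, ← hz, hgz]
      exact mem_Q C (by norm_num) (by decide +kernel)
    · obtain ⟨j, rfl⟩ := Nat.exists_eq_add_of_le h3
      rw [pow_add, pow_mul, e1, show 2 ^ 3 = 8 from rfl, hf8, one_pow, mul_one, inv_mul_cancel]
      exact one_mem _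
  obtain ⟨M, hM, hMi, huM⟩ :=
    CfsgLib.Transfer.thompson_transfer PC hQP hrel (u := u) (C.mem 1) hu hpow
  refine ⟨M.map Cz.subtype, map_subtype_le M, ?_, ?_, ?_, ?_⟩
  · rintro g hg _ ⟨m, hm, rfl⟩
    exact ⟨⟨g, hg⟩ * m * ⟨g, hg⟩⁻¹, hM.conj_mem m hm _, rfl⟩
  · rintro ⟨m, hm, he⟩
    exact huM (by rwa [show u = m from Subtype.ext he.symm])
  · intro g hg
    by_cases h : (⟨g, hg⟩ : Cz) ∈ M
    · exact Or.inl ⟨_, h, rfl⟩
    · refine Or.inr ⟨⟨g, hg⟩ * u⁻¹, ?_, rfl⟩
      show (⟨g, hg⟩ : Cz) * u⁻¹ ∈ M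
      rw [mul_mem_iff_of_index_two hMi, inv_mem_iff]
      exact iff_of_false h huM
  · -- the generators of `Q`
    have sq : ∀ a : Cz, a * a ∈ M := fun a => mul_self_mem_of_index_two hMi a
    have cnj : ∀ (a : Cz) {b : Cz}, b ∈ M → a * b * a⁻¹ ∈ M := fun a {b} hb => hM.conj_mem b hb a
    let E : ℕ → Cz := fun n => ⟨el f x y q n, hPC (C.mem n)⟩
    have hE : ∀ a b, E a * E b = E (mul0 a b) := fun a b => Subtype.ext (C.toRel.el_mul a b)
    have comm : ∀ a b, E a * E b * (E a)⁻¹ * (E b)⁻¹ ∈ M := fun a b => by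
      rw [mul_mem_iff_of_index_two hMi, mul_mem_iff_of_index_two hMi,
        mul_mem_iff_of_index_two hMi, inv_mem_iff, inv_mem_iff]
      tauto
    have h2 : ∀ i < 4, E (2 * i) ∈ M := fun i hi => by
      have key : ∀ i < 4, mul0 i i = 2 * i := by decide +kernel
      rw [← key i hi, ← hE]; exact sq _
    have h12 : E 12 ∈ M := by
      have e : E 32 * E 1 * (E 32)⁻¹ * (E 1)⁻¹ = E 12 := by
        rw [mul_inv_eq_iff_eq_mul, mul_inv_eq_iff_eq_mul, hE, hE, hE]
        exact congrArg E (by decide +kernel)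
      rw [← e]; exact comm _ _
    have h8 : E 8 ∈ M := by
      rw [show (8 : ℕ) = mul0 4 12 from (by decide +kernel : (8 : ℕ) = mul0 4 12), ← hE]
      exact M.mul_mem (h2 2 (by norm_num)) h12
    have h32 : E 32 ∈ M := by
      obtain ⟨c, hc⟩ := exists_moving K
      have hcC : (c : G) ∈ Cz := mem_centralizer_singleton_iff.2 ((mem_NQ_iff C).1 c.2).1
      have hmv := cosetHom_apply K c 1
      rw [hc] at hmv
      have key : ∀ b, (c : G) * el f x y q 32 * (c : G)⁻¹ = el f x y q b → E b ∈ M → E 32 ∈ M :=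
        fun b h hb => by
          have := cnj (⟨c, hcC⟩⁻¹) hb
          rwa [show (⟨c, hcC⟩ : Cz)⁻¹ * E b * (⟨c, hcC⟩⁻¹)⁻¹ = E 32 from Subtype.ext (by
            show (c : G)⁻¹ * el f x y q b * ((c : G)⁻¹)⁻¹ = el f x y q 32
            rw [← h]; group)] at this
      rcases hmv with h | h
      · exact key 8 h h8
      · exact key 12 (h.trans (C.toRel.el_mul 8 4)) h12
    have h17 : E 17 ∈ M := by
      obtain ⟨g, hg, hgt⟩ := conj_in_centralizer C (s := 34) (t := 17) (by norm_num) (by norm_num)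
        (by norm_num) (by decide +kernel) (by decide +kernel) (root_square 34 (by simp))
        (by decide +kernel) (fun h => K.ha (K.hb.symm.trans h)) K.hx K.hb.symm
      have h34 : E 34 ∈ M := by
        rw [show (34 : ℕ) = mul0 2 32 from (by decide +kernel : (34 : ℕ) = mul0 2 32), ← hE]
        exact M.mul_mem (h2 1 (by norm_num)) h32
      have := cnj (⟨g, hg⟩⁻¹) h34
      rwa [show (⟨g, hg⟩ : Cz)⁻¹ * E 34 * (⟨g, hg⟩⁻¹)⁻¹ = E 17 from Subtype.ext (by
        show g⁻¹ * el f x y q 34 * g⁻¹⁻¹ = el f x y q 17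
        rw [← hgt]; group)] at this
    rintro _ ⟨n, hn, hp, rfl⟩
    have := q_gens n hn (by simpa [inQ] using hp)
    simp only [List.any_eq_true, List.mem_range, beq_iff_eq] at this
    obtain ⟨i, hi, a, ha, b, hb, c, hc, rfl⟩ := this
    refine ⟨E (mul0 (mul0 (mul0 (2 * i) (8 * a)) (17 * b)) (32 * c)), ?_, rfl⟩
    have h0 : E 0 ∈ M := h2 0 (by norm_num)
    have hor : ∀ k a, a < 2 → E k ∈ M → E (k * a) ∈ M := fun k a ha hk => by
      interval_cases a
      · rwa [mul_zero]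
      · rwa [mul_one]
    simp only [← hE]
    exact M.mul_mem (M.mul_mem (M.mul_mem (h2 i hi) (hor 8 a ha h8)) (hor 17 b hb h17))
      (hor 32 c hc h32)

theorem IndexTwo.mem_iff {C1 : Subgroup G} (D : IndexTwo C C1) {n : ℕ} (hn : n < 64) :
    el f x y q n ∈ C1 ↔ inQ n = true := by
  refine ⟨fun h => ?_, fun h => D.Q_le (mem_Q C hn h)⟩
  by_contra hq
  have h1 := D.Q_le (mem_Q C (mul_lt (v := 1) hn) (inQ_mul_one n hn (by simpa using hq)))
  rw [show el f x y q (mul 0 0 0 n 1) = el f x y q n * el f x y q 1 from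
    (C.toRel.el_mul n 1).symm] at h1
  exact D.notMem ((C1.mul_mem_cancel_left h).1 h1)

/-- A 2-subgroup of the subgroup of index two is carried into `Q` in the centraliser. -/
theorem IndexTwo.exists_conj_le {C1 : Subgroup G} (D : IndexTwo C C1) {H : Subgroup G}
    (hH : H ≤ C1) (hp : IsPGroup 2 H) :
    ∃ h ∈ centralizer ({el f x y q 4} : Set G),
      ∀ a ∈ H, h * a * h⁻¹ ∈ parSub C true true false := by
  obtain ⟨h, hh, hhH⟩ := CfsgLib.Comp.exists_conj_le_sylow P
    (C.le_centralizer_four (by norm_num) (by norm_num) (by norm_num)) (hH.trans D.le) hp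
  refine ⟨h, hh, fun a ha => ?_⟩
  obtain ⟨n, hn, hn'⟩ := C.surj _ (hhH a ha)
  rw [← hn']
  refine mem_Q C hn ((D.mem_iff hn).1 ?_)
  rw [hn']
  exact D.normal h hh a (hH ha)

theorem IndexTwo.sign_eq_one (K : Classes C) {C1 : Subgroup G} (D : IndexTwo C C1) (n : NQ C)
    (hn : (n : G) ∈ C1) : Equiv.Perm.sign (cosetHom K n) = 1 := by
  obtain ⟨e, o, ho, he⟩ := Nat.exists_eq_two_pow_mul_odd (orderOf_pos (n : G)).ne'
  have hu : ((n ^ o : NQ C) : G) ^ 2 ^ e = 1 := by
    rw [SubgroupClass.coe_pow, ← pow_mul, mul_comm, ← he, pow_orderOf_eq_one]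
  obtain ⟨h, hh, hhu⟩ := two_elem_conj (n ^ o).2 hu
  obtain ⟨m, hm, hm'⟩ := C.surj _ hhu
  have hmC : el f x y q m ∈ C1 := by
    rw [hm']
    exact D.normal h (mem_centralizer_singleton_iff.2 ((mem_NQ_iff C).1 hh).1) _
      (by rw [SubgroupClass.coe_pow]; exact C1.pow_mem hn o)
  have e1 : (⟨el f x y q m, P_le_NQ (C.mem m)⟩ : NQ C) = ⟨h, hh⟩ * n ^ o * ⟨h, hh⟩⁻¹ :=
    Subtype.ext (by simp [hm'])
  have h1 := congrArg (fun a => Equiv.Perm.sign (cosetHom K a)) e1
  simp only [cosetHom_P K hm, (D.mem_iff hm).1 hmC, if_true, map_one, map_mul, map_pow,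
    map_inv] at h1
  rw [mul_comm (Equiv.Perm.sign _) (_ ^ o), mul_inv_cancel_right] at h1
  obtain ⟨j, rfl⟩ := ho
  rwa [pow_succ, pow_mul, Int.units_sq, one_pow, one_mul, eq_comm] at h1

end CfsgLib.Recog.M12Eight
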