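import Cfsg.Agent.Lib.Recog.M12Eight.OuterTransfer
import Cfsg.Agent.Lib.Recog.GenDihedral.OneClass
import Mathlib.GroupTheory.Perm.Cycle.Type

/-!
# The centraliser of the outer involution lies in the normaliser of the signalizer group
-/

set_option autoImplicit false
set_option linter.unusedSectionVars false
set_option linter.style.haveILetI false
set_option maxRecDepth 100000

namespace CfsgLib.Recog.M12Eight

open Subgroup

universe u

/-- A permutation of at most five points of five-power order with a fixed point is trivial. -/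
theorem perm_five_fix {α : Type*} [Fintype α] [DecidableEq α] (h5 : Fintype.card α ≤ 5)
    {p : Equiv.Perm α} {j : ℕ} (hp : p ^ 5 ^ j = 1) {a : α} (ha : p a = a) : p = 1 := by
  by_contra hne
  have hs : p.support.card ≤ 4 := by
    have h1 : p.support ⊆ Finset.univ.erase a := fun b hb =>
      Finset.mem_erase.2 ⟨fun e => by rw [e, Equiv.Perm.mem_support] at hb; exact hb ha,
        Finset.mem_univ b⟩
    have := Finset.card_le_card h1
    rw [Finset.card_erase_of_mem (Finset.mem_univ a), Finset.card_univ] at this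
    omega
  obtain ⟨n, hn⟩ := Multiset.exists_mem_of_ne_zero
    (fun e => hne (Equiv.Perm.cycleType_eq_zero.1 e) : p.cycleType ≠ 0)
  have h2 := Equiv.Perm.two_le_of_mem_cycleType hn
  have h4 : n ≤ p.support.card := by
    rw [← Equiv.Perm.sum_cycleType]
    exact Multiset.le_sum_of_mem hn
  have hd : n ∣ 5 ^ j := (Equiv.Perm.dvd_of_mem_cycleType hn).trans (orderOf_dvd_of_pow_eq_one hp)
  have hcop : Nat.Coprime n (5 ^ j) := by
    refine Nat.Coprime.pow_right _ ?_
    have : n = 2 ∨ n = 3 ∨ n = 4 := by omega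
    rcases this with rfl | rfl | rfl <;> decide
  have := hcop.eq_one_of_dvd hd
  omega

/-- An element of five-power order of a subgroup of index at most five lies in its core. -/
theorem core_of_five {N : Type*} [Group N] [Finite N] (H : Subgroup N) (h5 : H.index ≤ 5) {d : N}
    (hd : d ∈ H) {j : ℕ} (hj : d ^ 5 ^ j = 1) : d ∈ H.normalCore := by
  classical
  haveI : Fintype (N ⧸ H) := Fintype.ofFinite _
  rw [normalCore_eq_ker, MonoidHom.mem_ker]
  refine perm_five_fix ?_ (j := j) ?_ (a := ((1 : N) : N ⧸ H)) ?_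
  · rw [← Nat.card_eq_fintype_card]; exact h5
  · rw [← map_pow, hj, map_one]
  · show d • ((1 : N) : N ⧸ H) = _
    rw [MulAction.Quotient.smul_coe, smul_eq_mul, mul_one, QuotientGroup.eq, mul_one]
    exact inv_mem hd

variable {G : Type u} [Group G] [Finite G] {P : Sylow 2 G} {f x y q : G}
  {C : Coords 0 0 0 (P : Subgroup G) f x y q}

theorem fourU_mem_outC {u : G} (hu : u ∈ fourU C) : u ∈ outC C := by
  obtain ⟨n, hn, hp, rfl⟩ := hu
  refine mem_outC C hn ?_
  have key : ∀ n < 64, inU n = true → cm 0 0 0 n 34 = true := by decide +kernel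
  exact key n hn hp

/-- Odd subgroups of the centraliser normalised by `U` are in the signalizer group. -/
theorem odd_le_bigW (K : Classes C) {D : Subgroup G} (hD : D ≤ outC C)
    (hodd : Odd (Nat.card D)) (hU : fourU C ≤ normalizer (D : Set G)) : D ≤ bigW C := by
  have hab : IsMulCommutative (fourU C) :=
    ⟨⟨fun a b => Subtype.ext (elemE_comm (fourU_le a.2) (fourU_le b.2))⟩⟩
  have hcop : (Nat.card (fourU C)).Coprime (Nat.card D) := by
    obtain ⟨j, hj⟩ := IsPGroup.iff_card.1 (fun a : fourU C => (⟨1, Subtype.ext (by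
      simp [pow_two, elemE_sq (fourU_le a.2)])⟩ : ∃ k : ℕ, a ^ 2 ^ k = 1))
    rw [hj]
    exact Nat.Coprime.pow_left _ (Nat.coprime_two_left.2 hodd)
  rw [← CfsgLib.Coprime.iSup_centralizer_eq hab not_isCyclic_fourU hU hcop]
  refine iSup_le fun ⟨u, hu, hu1⟩ => ?_
  rintro d ⟨hd, hdu⟩
  refine cenCore_le_bigW (fourU_le hu) hu1 (odd_mem_cenCore_conj K
    (elemE_isConj K (fourU_le hu) hu1) (mem_centralizer_singleton_iff.1 hdu)
    (hodd.of_dvd_nat (D.orderOf_dvd_natCard hd)) (t_orderOf C)
    (mem_centralizer_singleton_iff.1 (fourU_mem_outC hu)).symm ?_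
    (mem_centralizer_singleton_iff.1 (hD hd)))
  intro e
  exact t_not_isConj K (e ▸ (elemE_isConj K (fourU_le hu) hu1).symm)

theorem card_fourU : Nat.card (fourU C) = 4 := by
  have key : ∀ i : Fin 4, 4 * i.val < 64 ∧ inU (4 * i.val) = true := by decide +kernel
  rw [← Nat.card_fin 4]
  refine (Nat.card_congr (Equiv.ofBijective
    (fun i : Fin 4 => (⟨_, _, (key i).1, (key i).2, rfl⟩ : fourU C)) ⟨fun i j h => ?_, ?_⟩)).symm
  · have := C.inj _ (key i).1 _ (key j).1 (congrArg Subtype.val h)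
    exact Fin.ext (by omega)
  · rintro ⟨_, n, hn, hp, rfl⟩
    simp only [inU, List.contains_iff_mem, List.mem_cons, List.not_mem_nil, or_false] at hp
    rcases hp with rfl | rfl | rfl | rfl
    exacts [⟨0, rfl⟩, ⟨1, rfl⟩, ⟨2, rfl⟩, ⟨3, rfl⟩]

/-- What is needed from the quotient by the signalizer group when `z` fuses to `x` in the
centraliser of `34`. -/
def FiveStmt (C : Coords 0 0 0 (P : Subgroup G) f x y q) : Prop :=
  ∀ n ∈ holdM C, n ∈ outC C → n * el f x y q 4 * n⁻¹ = el f x y q 8 →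
    ∃ d ∈ holdM C, d ∈ outC C ∧ (∃ j, d ^ 5 ^ j = 1) ∧ d ∉ bigW C

/-- **The outer centraliser is inside.** -/
theorem outer_centralizer_le (K : Classes C) (hfive : FiveStmt C) : outC C ≤ holdM C := by
  classical
  set X := outC C with hX
  set S := outS K with hS
  have hP := P_le_holdM K
  obtain ⟨h34, h4, h8, h12, h19, e12, p19, q19, p34, q34, e4, -⟩ := outer_facts
  let z : X := ⟨el f x y q 4, mem_outC C (by norm_num) h4⟩
  let r : X := ⟨el f x y q 19, mem_outC C (by norm_num) h19⟩
  let t : X := ⟨el f x y q 34, mem_centralizer_singleton_iff.2 rfl⟩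
  have hzo : orderOf (el f x y q 4) = 2 :=
    C.orderOf_two (show 4 < 64 by norm_num) (by norm_num) (by decide +kernel)
  have hzS : z ∈ (S : Subgroup X) := C.mem 4
  have hSz : (S : Subgroup X) ≤ centralizer ({z} : Set X) := fun a ha =>
    mem_centralizer_singleton_iff.2 (Subtype.ext (mem_centralizer_singleton_iff.1
      (C.le_centralizer_four (by norm_num) (by norm_num) (by norm_num) ha)))
  have hz2 : orderOf z = 2 := by rw [← Subgroup.orderOf_coe]; exact hzo
  by_cases hiso : ∀ g : X, g * z * g⁻¹ ∈ (S : Subgroup X) → g * z * g⁻¹ = z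
  · -- `z` is isolated
    have hI := isolated_of_sylow S hz2 hSz hiso
    haveI := CfsgLib.Solvable.pPrimeCore_normal 2 ↥X
    have hO : (Cfsg.oddCore X).map X.subtype ≤ bigW C := by
      refine odd_le_bigW K (map_subtype_le _) ?_ fun u hu => ?_
      · rw [CfsgLib.Solvable.card_map_subtype]; exact CfsgLib.Invol.odd_card_oddCore _
      · refine Subgroup.mem_normalizer_fintype fun w hw => ?_
        obtain ⟨w', hw', rfl⟩ := hw
        exact ⟨⟨u, fourU_mem_outC hu⟩ * w' * ⟨u, fourU_mem_outC hu⟩⁻¹,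
          Normal.conj_mem ‹_› _ hw' _, rfl⟩
    intro g hg
    have h : (((z * ⟨g, hg⟩ * z⁻¹ * (⟨g, hg⟩ : X)⁻¹ : X)) : G) ∈ holdM C :=
      le_normalizer (hO (mem_map_of_mem _ (CfsgLib.Invol.zstar X hI ⟨g, hg⟩)))
    have hzM : el f x y q 4 ∈ holdM C := hP (C.mem 4)
    have h2 := inv_mem (mul_mem (inv_mem hzM) h)
    refine control K ?_
    simp only [Subgroup.coe_mul, Subgroup.coe_inv, z] at h2
    rw [show (el f x y q 4)⁻¹ = el f x y q 4 from inv_eq_of_mul_eq_one_right (z_mul_z C)] at h2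
    rwa [show (el f x y q 4 * (el f x y q 4 * g * el f x y q 4 * g⁻¹))⁻¹ =
      g * (el f x y q 4)⁻¹ * g⁻¹ * ((el f x y q 4)⁻¹ * (el f x y q 4)⁻¹) by group,
      show (el f x y q 4)⁻¹ = el f x y q 4 from inv_eq_of_mul_eq_one_right (z_mul_z C),
      z_mul_z C, mul_one] at h2
  -- `z` is conjugate to `x` inside
  push Not at hiso
  obtain ⟨g₀, hg₀S, hg₀⟩ := hiso
  obtain ⟨n₀, hn₀, hnc₀, hn₀'⟩ := outS_el K hg₀S
  have hn₀U : inU n₀ = true := inU_of_isConj K hn₀ hnc₀ (Or.inr (isConj_iff.2
    ⟨(g₀ : G), by rw [hn₀']; simp [z]⟩))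
  have hxX : el f x y q 8 ∈ X := mem_outC C (by norm_num) h8
  have hr12 : r * ⟨el f x y q 12, mem_outC C (by norm_num) h12⟩ * r⁻¹ = (⟨_, hxX⟩ : X) := by
    refine Subtype.ext ?_
    show el f x y q 19 * el f x y q 12 * (el f x y q 19)⁻¹ = el f x y q 8
    rw [mul_inv_eq_iff_eq_mul, C.toRel.el_mul, C.toRel.el_mul]
    exact congrArg _ e12
  obtain ⟨g₁, hg₁⟩ : ∃ g₁ : X, (g₁ : G) * el f x y q 4 * (g₁ : G)⁻¹ = el f x y q 8 := by
    have e : (g₀ : G) * el f x y q 4 * (g₀ : G)⁻¹ = el f x y q n₀ := by rw [hn₀']; simp [z]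
    simp only [inU, List.contains_iff_mem, List.mem_cons, List.not_mem_nil, or_false] at hn₀U
    rcases hn₀U with rfl | rfl | rfl | rfl
    · exfalso
      rw [(C.eq_one_iff (by norm_num)).2 rfl, mul_inv_eq_one] at e
      have h1 : el f x y q 4 = 1 := mul_left_cancel (e.trans (mul_one _).symm)
      rw [h1] at hzo
      simp at hzo
    · exact absurd (Subtype.ext hn₀'.symm) hg₀
    · exact ⟨g₀, e⟩
    · refine ⟨r * g₀, ?_⟩
      have := congrArg Subtype.val hr12
      simp only [Subgroup.coe_mul, Subgroup.coe_inv] at this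
      rw [← this, ← e]
      simp [r, mul_assoc]
  have hg₁M : (g₁ : G) ∈ holdM C := control K (by rw [hg₁]; exact hP (C.mem 8))
  -- the values of the parities
  let T1 := tr1 K
  let T2 := tr2 K
  have hmtwo : ∀ v : Multiplicative (ZMod 2), v = 1 ∨ v = Multiplicative.ofAdd 1 := by decide
  have hT1U : ∀ u : X, (u : G) ∈ fourU C → T1 u = 1 := by
    rintro ⟨_, hu⟩ ⟨n, hn, hp, rfl⟩
    have key : ∀ n < 64, inU n = true → cm 0 0 0 n 34 = true ∧ par true false false n = false := by
      decide +kernel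
    exact (tr1_el K hn (key n hn hp).1).2 (key n hn hp).2
  have hzc : T2 z = 1 := by
    have e : z = r * (⟨el f x y q 8, hxX⟩ : X) * r⁻¹ * (⟨el f x y q 8, hxX⟩ : X)⁻¹ := by
      refine Subtype.ext ?_
      show el f x y q 4 = el f x y q 19 * el f x y q 8 * (el f x y q 19)⁻¹ * (el f x y q 8)⁻¹
      rw [eq_mul_inv_iff_mul_eq, eq_mul_inv_iff_mul_eq, C.toRel.el_mul, C.toRel.el_mul,
        C.toRel.el_mul]
      exact congrArg _ e4.symm
    rw [e, map_mul, map_mul, map_mul, map_inv, map_inv, mul_right_comm (T2 r), mul_inv_cancel,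
      one_mul, mul_inv_cancel]
  have hxc : T2 ⟨el f x y q 8, hxX⟩ = 1 := by
    rw [show (⟨el f x y q 8, hxX⟩ : X) = g₁ * z * g₁⁻¹ from Subtype.ext hg₁.symm, map_mul, map_mul,
      map_inv, hzc, mul_one, mul_inv_cancel]
  have hT2U : ∀ u : X, (u : G) ∈ fourU C → T2 u = 1 := by
    rintro ⟨v, hv⟩ hu
    rcases eq_or_ne v 1 with rfl | h1
    · exact map_one T2
    rcases fourU_cases hu h1 with rfl | rfl | rfl
    · exact hzc
    · exact hxc
    · rw [show (⟨el f x y q 12, hv⟩ : X) = z * ⟨el f x y q 8, hxX⟩ from Subtype.ext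
        ((C.toRel.el_mul 4 8).trans (congrArg _ root_eight.2.2)).symm, map_mul, hzc, hxc, mul_one]
  -- the normal subgroup
  let N : Subgroup X := T1.ker ⊓ T2.ker
  haveI hNn : N.Normal := ⟨fun a ha g => ⟨by
      show T1 _ = 1
      rw [map_mul, map_mul, map_inv, show T1 a = 1 from ha.1, mul_one,
        mul_inv_cancel], by
      show T2 _ = 1
      rw [map_mul, map_mul, map_inv, show T2 a = 1 from ha.2, mul_one,
        mul_inv_cancel]⟩⟩
  have hUN : ∀ u : X, (u : G) ∈ fourU C → u ∈ N := fun u hu => ⟨hT1U u hu, hT2U u hu⟩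
  have hSN : ∀ a : X, a ∈ (S : Subgroup X) → a ∈ N → (a : G) ∈ fourU C := by
    intro a haS haN
    obtain ⟨n, hn, hnc, hn'⟩ := outS_el K haS
    obtain rfl : a = ⟨el f x y q n, mem_outC C hn hnc⟩ := Subtype.ext hn'.symm
    have hp := (tr1_el K hn hnc).1 haN.1
    rcases (parity_UT n hn hnc).1 hp with h | h
    · exact ⟨n, hn, h, rfl⟩
    · exfalso
      have key : ∀ m < 64, inU m = true → cm 0 0 0 m 34 = true := by decide +kernel
      have h1 := hT2U ⟨el f x y q (mul0 n 34), mem_outC C (mul_lt hn) (key _ (mul_lt hn) h)⟩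
        ⟨_, mul_lt hn, h, rfl⟩
      rw [show (⟨el f x y q (mul0 n 34), mem_outC C (mul_lt hn) (key _ (mul_lt hn) h)⟩ : X) =
        ⟨el f x y q n, mem_outC C hn hnc⟩ * t from Subtype.ext (C.toRel.el_mul n 34).symm, map_mul,
        show T2 _ = 1 from haN.2, one_mul] at h1
      exact tr2_t K h1
  -- every element is one of `N` times one of `P`
  have hdec : ∀ g : X, ∃ k ∈ N, ∃ s ∈ (S : Subgroup X), g = k * s := by
    intro g
    have h1 : ∃ a ∈ (S : Subgroup X), T1 (g * a) = 1 := by
      rcases hmtwo (T1 g) with e | e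
      · exact ⟨1, one_mem _, by rw [mul_one, e]⟩
      · refine ⟨r, C.mem 19, ?_⟩
        rcases hmtwo (T1 r) with e' | e'
        · have := (tr1_el K (show 19 < 64 by norm_num) h19).1 e'
          rw [p19] at this
          simp at this
        · rw [map_mul, e, e']; decide
    obtain ⟨a, ha, ha1⟩ := h1
    rcases hmtwo (T2 (g * a)) with e | e
    · exact ⟨g * a, ⟨ha1, e⟩, a⁻¹, inv_mem ha, by group⟩
    · refine ⟨g * a * t, ⟨?_, ?_⟩, t⁻¹ * a⁻¹, mul_mem (inv_mem (C.mem 34)) (inv_mem ha), by group⟩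
      · show T1 _ = 1
        rw [map_mul, ha1, one_mul]
        exact (tr1_el K (show 34 < 64 by norm_num)
          (show cm 0 0 0 34 34 = true by decide +kernel)).2 p34
      · rcases hmtwo (T2 t) with e' | e'
        · exact absurd e' (tr2_t K)
        · show T2 _ = 1
          rw [map_mul, e, e']; decide
  -- work inside `N`
  let ι : N →* G := X.subtype.comp N.subtype
  have hι : Function.Injective ι := X.subtype_injective.comp N.subtype_injective
  let U' : Subgroup N := (fourU C).comap ι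
  have hU'map : U'.map ι = fourU C := by
    refine le_antisymm (map_comap_le _ _) fun u hu => ?_
    exact ⟨⟨⟨u, fourU_mem_outC hu⟩, hUN _ hu⟩, hu, rfl⟩
  have hU'card : Nat.card U' = 4 := by
    rw [← card_fourU (C := C), ← hU'map, card_map_of_injective hι]
  let SN : Sylow 2 N :=
    { toSubgroup := U'
      isPGroup' := IsPGroup.of_card (n := 2) (by rw [hU'card]; norm_num)
      is_maximal' := by
        intro R hR hle
        obtain ⟨g, -, hg⟩ := CfsgLib.Comp.exists_conj_le_sylow S (le_top (a := (S : Subgroup X)))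
          (le_top (a := R.map N.subtype)) (hR.map N.subtype)
        refine (eq_of_le_of_card_ge hle ?_).symm
        rw [hU'card, ← card_fourU (C := C),
          show Nat.card R = Nat.card (R.map ι) from (card_map_of_injective hι).symm,
          show Nat.card (R.map ι) =
            Nat.card ((R.map ι).map (MulAut.conj (g : G)).toMonoidHom) from
            (card_map_of_injective (MulAut.conj (g : G)).injective).symm]
        refine Subgroup.card_le_of_le ?_
        rintro _ ⟨_, ⟨a, ha, rfl⟩, rfl⟩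
        exact hSN _ (hg _ (mem_map_of_mem _ ha)) (hNn.conj_mem _ a.2 g) }
  let zN : N := ⟨z, hUN z ⟨4, by norm_num, rfl, rfl⟩⟩
  let zU : U' := ⟨zN, ⟨4, by norm_num, rfl, rfl⟩⟩
  let xU : U' := ⟨⟨⟨el f x y q 8, hxX⟩, hUN _ ⟨8, by norm_num, rfl, rfl⟩⟩, ⟨8, by norm_num, rfl, rfl⟩⟩
  have hmemU : ∀ u : U', ι (u : N) ∈ elemE C := fun u => fourU_le (C := C) u.2
  have hUsq : ∀ u : U', u * u = 1 := fun u => Subtype.ext (hι (by
    rw [Subgroup.coe_mul, map_mul, Subgroup.coe_one, map_one]; exact elemE_sq (hmemU u)))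
  have hzU : orderOf zU = 2 := by
    rw [← Subgroup.orderOf_coe, ← orderOf_injective ι hι]; exact hzo
  let D : CfsgLib.Invol.DihData U' :=
    { h := 1
      r := zU
      s := xU
      h_pos := one_pos
      h_pow := ⟨0, rfl⟩
      orderOf_r := hzU
      orderOf_s := by
        rw [← Subgroup.orderOf_coe, ← orderOf_injective ι hι]
        exact C.orderOf_two (show 8 < 64 by norm_num) (by norm_num) (by decide +kernel)
      conj_r := by
        have hi : ∀ u : U', u⁻¹ = u := fun u => inv_eq_of_mul_eq_one_right (hUsq u)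
        refine Subtype.ext (hι ?_)
        rw [hi zU, hi xU]
        simp only [Subgroup.coe_mul, map_mul]
        rw [elemE_comm (hmemU xU) (hmemU zU), mul_assoc, elemE_sq (hmemU xU),
          mul_one]
      s_notMem := by
        intro h
        obtain ⟨k, hk⟩ := mem_zpowers_iff.1 h
        have h2 : zU ^ (2 : ℤ) = 1 := by rw [zpow_two]; exact hUsq zU
        rcases Int.even_or_odd k with ⟨j, rfl⟩ | ⟨j, rfl⟩
        · rw [← two_mul, zpow_mul, h2, one_zpow] at hk
          have := congrArg (fun u : U' => ι u) hk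
          simp [ι, xU] at this
          exact absurd ((C.eq_one_iff (show 8 < 64 by norm_num)).1 this.symm) (by norm_num)
        · rw [zpow_add, zpow_mul, h2, one_zpow, one_mul, zpow_one] at hk
          have := congrArg (fun u : U' => ι u) hk
          simp [ι, xU, zU, zN, z] at this
          exact absurd (C.inj 4 (by norm_num) 8 (by norm_num) this) (by norm_num)
      cases := by
        intro u
        by_cases h1 : ι u = 1
        · exact Or.inl ⟨0, Subtype.ext (hι (by rw [h1, zpow_zero]; simp))⟩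
        rcases fourU_cases (C := C) u.2 h1 with e | e | e
        · exact Or.inl ⟨1, Subtype.ext (hι (by rw [e, zpow_one]; rfl))⟩
        · exact Or.inr ⟨0, Subtype.ext (hι (by rw [e, zpow_zero, one_mul]; rfl))⟩
        · exact Or.inr ⟨1, Subtype.ext (hι (by
            rw [e, zpow_one, Subgroup.coe_mul, map_mul]
            exact ((C.toRel.el_mul 4 8).trans (congrArg _ root_eight.2.2)).symm))⟩
      card_eq := hU'card }
  have hdz : CfsgLib.Invol.dz SN D = zN := by
    simp only [CfsgLib.Invol.dz, CfsgLib.Invol.DihData.z]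
    simp [D, zU]
  -- one class
  have hone₁ : ∀ a : N, orderOf a = 2 → ∃ k : N, k * zN * k⁻¹ = a := by
    intro a ha
    obtain ⟨g, hg⟩ := CfsgLib.Invol.exists_conj_mem_sylow SN
      (H := zpowers a) (IsPGroup.of_card (n := 1) (by rw [Nat.card_zpowers, ha, pow_one]))
    have hga : g * a * g⁻¹ ∈ U' := hg a (mem_zpowers a)
    have hne : ι (g * a * g⁻¹) ≠ 1 := fun e => by
      have h1 : g * a * g⁻¹ = 1 := hι (e.trans (map_one ι).symm)
      rw [mul_inv_eq_one] at h1
      have : a = 1 := mul_left_cancel (h1.trans (mul_one g).symm)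
      rw [this] at ha
      simp at ha
    obtain ⟨w, hw⟩ : ∃ w : X, (w : G) * el f x y q 4 * (w : G)⁻¹ = ι (g * a * g⁻¹) := by
      rcases fourU_cases (C := C) hga hne with e | e | e
      · exact ⟨1, by rw [e]; simp⟩
      · exact ⟨g₁, by rw [e]; exact hg₁⟩
      · refine ⟨r⁻¹ * g₁, ?_⟩
        rw [e, Subgroup.coe_mul, Subgroup.coe_inv,
          show (r : G)⁻¹ * g₁ * el f x y q 4 * ((r : G)⁻¹ * g₁)⁻¹ =
            (r : G)⁻¹ * ((g₁ : G) * el f x y q 4 * (g₁ : G)⁻¹) * r by group, hg₁]
        have := congrArg Subtype.val hr12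
        simp only [Subgroup.coe_mul, Subgroup.coe_inv] at this
        rw [← this]
        group
    obtain ⟨k, hk, s, hs, hgk⟩ := hdec ((g : X)⁻¹ * w)
    refine ⟨⟨k, hk⟩, hι ?_⟩
    have hsz : (s : G) * el f x y q 4 * (s : G)⁻¹ = el f x y q 4 := by
      have := congrArg Subtype.val (mem_centralizer_singleton_iff.1 (hSz hs))
      simp only [Subgroup.coe_mul, z] at this
      rw [this, mul_inv_cancel_right]
    have hgk' : ((g : X) : G)⁻¹ * (w : G) = (k : G) * (s : G) := by
      have := congrArg Subtype.val hgk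
      simpa using this
    simp only [ι, MonoidHom.coe_comp, Function.comp_apply, map_mul, map_inv, Subgroup.coe_subtype]
      at hw ⊢
    show (k : G) * el f x y q 4 * (k : G)⁻¹ = _
    calc (k : G) * el f x y q 4 * (k : G)⁻¹
        = (k : G) * ((s : G) * el f x y q 4 * (s : G)⁻¹) * (k : G)⁻¹ := by rw [hsz]
      _ = ((k : G) * s) * el f x y q 4 * ((k : G) * s)⁻¹ := by group
      _ = ((g : X) : G)⁻¹ * ((w : G) * el f x y q 4 * (w : G)⁻¹) * (g : X) := by
        rw [← hgk']; group
      _ = _ := by rw [hw]; group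
  have hone : ∀ a b : N, orderOf a = 2 → orderOf b = 2 → IsConj a b := fun a b ha hb => by
    obtain ⟨k, hk⟩ := hone₁ a ha
    obtain ⟨l, hl⟩ := hone₁ b hb
    exact (isConj_iff.2 ⟨k, hk⟩ : IsConj zN a).symm.trans (isConj_iff.2 ⟨l, hl⟩)
  let H : Subgroup N := (holdM C).comap ι
  have honeH : ∀ a b : H, orderOf a = 2 → orderOf b = 2 → IsConj a b := by
    intro a b ha hb
    obtain ⟨k, hk⟩ := hone₁ a ((Subgroup.orderOf_coe a).trans ha)
    obtain ⟨l, hl⟩ := hone₁ b ((Subgroup.orderOf_coe b).trans hb)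
    have inH : ∀ {k : N} {a : H}, k * zN * k⁻¹ = a → k ∈ H := fun {k a} e => by
      refine control K ?_
      have := a.2
      rw [← e] at this
      simpa [ι, zN, z, H] using this
    refine isConj_iff.2 ⟨⟨l, inH hl⟩ * ⟨k, inH hk⟩⁻¹, Subtype.ext ?_⟩
    simp only [Subgroup.coe_mul, Subgroup.coe_inv, ← hk, ← hl]
    group
  have hCH : centralizer ({CfsgLib.Invol.dz SN D} : Set N) ≤ H := by
    rw [hdz]
    intro a ha
    refine centralizer_z_le K (mem_centralizer_singleton_iff.2 ?_)
    exact congrArg (fun u : N => ι u) (mem_centralizer_singleton_iff.1 ha)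
  have h5 : H.index ≤ 5 := CfsgLib.Recog.GenDihedral.index_le_five_of_one_class SN D hone H hCH honeH
  -- inside when `N` is
  by_cases htop : H = ⊤
  · intro g hg
    obtain ⟨k, hk, s, hs, e⟩ := hdec ⟨g, hg⟩
    have hkM : (k : G) ∈ holdM C := (htop ▸ mem_top _ : (⟨k, hk⟩ : N) ∈ H)
    have e' : g = (k : G) * (s : G) := congrArg Subtype.val e
    rw [e']
    exact mul_mem hkM (hP hs)
  exfalso
  obtain ⟨d, hdM, hdX, ⟨j, hdj⟩, hdW⟩ := hfive g₁ hg₁M g₁.2 hg₁
  let dX : X := ⟨d, hdX⟩
  have hdX' : dX ^ 5 ^ j = 1 := Subtype.ext hdj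
  have hT : ∀ T : X →* Multiplicative (ZMod 2), T dX = 1 := fun T => by
    have h := congrArg T hdX'
    rwa [map_pow, map_one, two_values (Odd.pow (by decide))] at h
  let dN : N := ⟨dX, hT T1, hT T2⟩
  have hcore : dN ∈ H.normalCore := core_of_five H h5 hdM (Subtype.ext hdX')
  -- the core has odd order
  have hodd : Odd (Nat.card H.normalCore) := by
    by_contra hne
    haveI : Fact (Nat.Prime 2) := ⟨Nat.prime_two⟩
    obtain ⟨a, ha⟩ := exists_prime_orderOf_dvd_card' 2
      (Nat.not_odd_iff_even.1 hne).two_dvd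
    obtain ⟨k, hk⟩ := hone₁ a ((Subgroup.orderOf_coe a).trans ha)
    refine htop (eq_top_iff.2 fun l _ => ?_)
    have hzc : zN ∈ H.normalCore := by
      have := (normalCore_normal H).conj_mem _ a.2 k⁻¹
      rwa [← hk, inv_inv, show k⁻¹ * (k * zN * k⁻¹) * k = zN by group] at this
    have hl := normalCore_le H ((normalCore_normal H).conj_mem _ hzc l)
    refine control K ?_
    simpa [ι, zN, z, H] using hl
  refine hdW (odd_le_bigW K (D := H.normalCore.map ι) ?_ ?_ ?_ ⟨dN, hcore, rfl⟩)
  · rintro _ ⟨a, -, rfl⟩; exact (a : X).2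
  · rwa [card_map_of_injective hι]
  · intro u hu
    refine Subgroup.mem_normalizer_fintype fun w hw => ?_
    obtain ⟨w', hw', rfl⟩ := hw
    let uN : N := ⟨⟨u, fourU_mem_outC hu⟩, hUN ⟨u, fourU_mem_outC hu⟩ hu⟩
    have hmem : uN * w' * uN⁻¹ ∈ H.normalCore := (normalCore_normal H).conj_mem w' hw' uN
    have he : ι uN = u := rfl
    rw [← he, ← map_inv, ← map_mul, ← map_mul]
    exact mem_map_of_mem ι hmem

end CfsgLib.Recog.M12Eight
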