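import Cfsg.Agent.Lib.Recog.M12Eight.Control
import Cfsg.Agent.Lib.Recog.M12Eight.OuterCentralizer
import Cfsg.Agent.Lib.Comp.Local
import Cfsg.Agent.Lib.Comp.Signalizer
import Mathlib.GroupTheory.Perm.Cycle.Type

/-!
# Lifting an element of order five from the quotient
-/

set_option autoImplicit false
set_option linter.unusedSectionVars false
set_option linter.style.haveILetI false

namespace CfsgLib.Recog.M12Eight

open Subgroup

universe u

variable {G : Type u} [Group G] [Finite G] {P : Sylow 2 G} {f x y q : G}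
  {C : Coords 0 0 0 (P : Subgroup G) f x y q}

theorem el_mem_holdM (K : Classes C) (n : ℕ) : el f x y q n ∈ holdM C := P_le_holdM K (C.mem n)

theorem bigW_le_holdM : bigW C ≤ holdM C := le_normalizer

instance bigW_subgroupOf_normal : ((bigW C).subgroupOf (holdM C)).Normal :=
  normal_subgroupOf_iff_le_normalizer le_normalizer |>.2 le_rfl

theorem odd_card_ker (K : Classes C) :
    Odd (Nat.card (QuotientGroup.mk' ((bigW C).subgroupOf (holdM C))).ker) := by
  rw [QuotientGroup.ker_mk', Nat.card_congr (subgroupOfEquivOfLe (bigW_le_holdM (C := C))).toEquiv]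
  exact (bigW_spec K).1

theorem core_ker (g : holdM C) (hg : (g : G) ∈ cenCore (el f x y q 4)) :
    QuotientGroup.mk' ((bigW C).subgroupOf (holdM C)) g = 1 :=
  (QuotientGroup.eq_one_iff g).2 (cenCore_le_bigW (C := C) ⟨4, by norm_num, rfl, rfl⟩
    (fun h => absurd ((C.eq_one_iff (by norm_num)).1 h) (by norm_num)) hg)

/-- Five dividing the centraliser of the image gives the five-element wanted. -/
theorem five_of_dvd (K : Classes C)
    (h5 : ∀ n : holdM C, (n : G) ∈ outC C → (n : G) * el f x y q 4 * (n : G)⁻¹ = el f x y q 8 →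
      5 ∣ Nat.card (centralizer
        ({QuotientGroup.mk' ((bigW C).subgroupOf (holdM C)) ⟨el f x y q 34, el_mem_holdM K 34⟩} :
          Set (holdM C ⧸ (bigW C).subgroupOf (holdM C))))) :
    FiveStmt C := by
  intro n hnM hnX hnz
  set O := (bigW C).subgroupOf (holdM C) with hO
  set π := QuotientGroup.mk' O with hπ
  set t : holdM C := ⟨el f x y q 34, el_mem_holdM K 34⟩ with ht
  haveI : Fact (Nat.Prime 5) := ⟨by norm_num⟩
  obtain ⟨w, hw⟩ := exists_prime_orderOf_dvd_card' 5 (h5 ⟨n, hnM⟩ hnX hnz)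
  have hto : orderOf t = 2 := by rw [← Subgroup.orderOf_coe]; exact t_orderOf C
  have hP2 : IsPGroup 2 (zpowers t) :=
    IsPGroup.of_card (n := 1) (by rw [Nat.card_zpowers, hto, pow_one])
  have hcop : (Nat.card O).Coprime 2 := by
    refine Nat.coprime_two_right.2 ?_
    rw [hO, Nat.card_congr (subgroupOfEquivOfLe (bigW_le_holdM (C := C))).toEquiv]
    exact (bigW_spec K).1
  have hmap : (centralizer (zpowers t : Set (holdM C))).map π =
      centralizer (((zpowers t).map π : Subgroup (holdM C ⧸ O)) : Set (holdM C ⧸ O)) :=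
    CfsgLib.Comp.map_centralizer_eq (O := O) hcop hP2
  have hwm : (w : holdM C ⧸ O) ∈ (centralizer (zpowers t : Set (holdM C))).map π := by
    rw [hmap, MonoidHom.map_zpowers, CfsgLib.Comp.centralizer_zpowers]
    exact w.2
  obtain ⟨c, hc, hcw⟩ := hwm
  rw [SetLike.mem_coe, CfsgLib.Comp.centralizer_zpowers] at hc
  have hwo : orderOf (π c) = 5 := by rw [hcw, Subgroup.orderOf_coe, hw]
  have hdvd : 5 ∣ orderOf c := hwo ▸ orderOf_map_dvd π c
  obtain ⟨a, m, hm, he⟩ := Nat.exists_eq_pow_mul_and_not_dvd (n := orderOf c)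
    (orderOf_pos c).ne' 5 (by norm_num)
  refine ⟨((c ^ m : holdM C) : G), (c ^ m).2, ?_, ⟨a, ?_⟩, fun hW => ?_⟩
  · rw [Subgroup.coe_pow]
    exact pow_mem (mem_centralizer_singleton_iff.2
      (congrArg Subtype.val (mem_centralizer_singleton_iff.1 hc))) m
  · rw [← Subgroup.coe_pow, ← pow_mul, mul_comm, ← he, pow_orderOf_eq_one, Subgroup.coe_one]
  · have h1 : π c ^ m = 1 := by
      rw [← map_pow]
      exact (QuotientGroup.eq_one_iff _).2 hW
    exact hm (hwo ▸ orderOf_dvd_of_pow_eq_one h1)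

end CfsgLib.Recog.M12Eight
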