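import Mathlib.GroupTheory.Transfer
import Mathlib.GroupTheory.Sylow

/-!
# The odd part of a group with a central involution of odd index
-/

set_option autoImplicit false
set_option linter.unusedSectionVars false

namespace CfsgLib.Recog.M12Eight

open Subgroup

universe u

variable {K : Type u} [Group K] [Finite K]

theorem index_center_pow {m : ℕ} {z : K} (hz : z ∈ center K) (hz2 : orderOf z = 2)
    (hK : Nat.card K = 2 * m) (hm : Odd m) :
    ∀ a b : K, (a * b) ^ m = a ^ m * b ^ m := by
  have hle : zpowers z ≤ center K := zpowers_le.2 hz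
  have hc2 : 2 ∣ Nat.card (center K) := by
    have := Subgroup.card_dvd_of_le hle
    rwa [Nat.card_zpowers, hz2] at this
  obtain ⟨r, hr⟩ := hc2
  have hmul : r * (center K).index = m := by
    have := (center K).card_mul_index
    rw [hK, hr, mul_assoc] at this
    omega
  intro a b
  have key : ∀ g : K, g ^ m = ((MonoidHom.transferCenterPow K g) ^ r : center K) := fun g => by
    rw [SubgroupClass.coe_pow, MonoidHom.transferCenterPow_apply, ← pow_mul,
      mul_comm, hmul]
  rw [key, key, key, map_mul,
    Commute.mul_pow (Subtype.ext ((mem_center_iff.1 (MonoidHom.transferCenterPow K a).2 _).symm)),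
    Subgroup.coe_mul]

/-- **The odd part.** -/
theorem exists_odd_part {G : Type u} [Group G] [Finite G] (H : Subgroup G) {z : G}
    (hzH : z ∈ H) (hz2 : orderOf z = 2) (hc : ∀ h ∈ H, h * z = z * h) {m : ℕ}
    (hH : Nat.card H = 2 * m) (hm : Odd m) :
    ∃ D : Subgroup G, D ≤ H ∧ Odd (Nat.card D) ∧ (∀ g ∈ D, g ^ m = 1) ∧
      (∀ h ∈ H, h ^ m = 1 → h ∈ D) ∧ ∀ h ∈ H, h ∈ D ∨ h * z ∈ D := by
  have hz' : (⟨z, hzH⟩ : H) ∈ center H :=
    mem_center_iff.2 fun h => Subtype.ext (hc h h.2)
  have hmul := index_center_pow hz' (by rw [Subgroup.orderOf_mk, hz2]) hH hm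
  let D : Subgroup G :=
    { carrier := {g | g ∈ H ∧ g ^ m = 1}
      one_mem' := ⟨H.one_mem, one_pow m⟩
      mul_mem' := by
        rintro a b ⟨ha, ha'⟩ ⟨hb, hb'⟩
        refine ⟨H.mul_mem ha hb, ?_⟩
        have := congrArg Subtype.val (hmul ⟨a, ha⟩ ⟨b, hb⟩)
        simpa [ha', hb'] using this
      inv_mem' := by
        rintro a ⟨ha, ha'⟩
        exact ⟨H.inv_mem ha, by rw [inv_pow, ha', inv_one]⟩ }
  refine ⟨D, fun g hg => hg.1, ?_, fun g hg => hg.2, fun h hh hp => ⟨hh, hp⟩, fun h hh => ?_⟩
  · by_contra hne
    rw [Nat.not_odd_iff_even, even_iff_two_dvd] at hne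
    have : Fact (Nat.Prime 2) := ⟨Nat.prime_two⟩
    obtain ⟨d, hd⟩ := exists_prime_orderOf_dvd_card' 2 hne
    have h1 : (d : G) ^ m = 1 := d.2.2
    have h2 : orderOf (d : G) ∣ m := orderOf_dvd_of_pow_eq_one h1
    rw [Subgroup.orderOf_coe, hd] at h2
    obtain ⟨k, hk⟩ := hm
    omega
  · have h2m : h ^ (2 * m) = 1 := by
      rw [← hH]
      exact congrArg Subtype.val (pow_card_eq_one' (x := (⟨h, hh⟩ : H)))
    by_cases h1 : h ^ m = 1
    · exact Or.inl ⟨hh, h1⟩
    refine Or.inr ⟨H.mul_mem hh hzH, ?_⟩
    have hhz : Commute h z := hc h hh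
    have hzm : z ^ m = z := by
      obtain ⟨k, rfl⟩ := hm
      rw [pow_succ, pow_mul, ← hz2, pow_orderOf_eq_one, one_pow, one_mul]
    rw [hhz.mul_pow, hzm]
    -- the value `h ^ m` is an involution commuting with `z` in a group with one involution
    have hinv : ∀ g ∈ H, g * g = 1 → g = 1 ∨ g = z := by
      intro g hg hgg
      by_contra hcon
      push Not at hcon
      have hgz : g * z = z * g := hc g hg
      have hz0 : z ≠ 1 := fun h => by simp [h] at hz2
      have hzz : z * z = 1 := by rw [← pow_two, ← hz2, pow_orderOf_eq_one]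
      let V : Subgroup G :=
        { carrier := {1, g, z, g * z}
          one_mem' := by simp
          mul_mem' := by
            have e1 : g * (g * z) = z := by rw [← mul_assoc, hgg, one_mul]
            have e2 : z * (g * z) = g := by rw [← mul_assoc, ← hgz, mul_assoc, hzz, mul_one]
            have e3 : g * z * g = z := by rw [hgz, mul_assoc, hgg, mul_one]
            have e4 : g * z * z = g := by rw [mul_assoc, hzz, mul_one]
            have e5 : g * z * (g * z) = 1 := by rw [← mul_assoc, e3, hzz]
            rintro a b (rfl | rfl | rfl | rfl) (rfl | rfl | rfl | rfl) <;>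
              simp [hgg, hzz, ← hgz, e1, e2, e3, e4, e5]
          inv_mem' := by
            rintro a (rfl | rfl | rfl | rfl)
            · simp
            · exact Or.inr (Or.inl (inv_eq_of_mul_eq_one_right hgg))
            · exact Or.inr (Or.inr (Or.inl (inv_eq_of_mul_eq_one_right hzz)))
            · refine Or.inr (Or.inr (Or.inr (inv_eq_of_mul_eq_one_right ?_)))
              rw [← mul_assoc, hgz, mul_assoc z g g, hgg, mul_one, hzz] }
      have hVH : V ≤ H := by
        rintro a (rfl | rfl | rfl | rfl)
        exacts [H.one_mem, hg, hzH, H.mul_mem hg hzH]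
      have hV : Nat.card V = 4 := by
        have : Nat.card ({1, g, z, g * z} : Set G) = 4 := by
          rw [Nat.card_coe_set_eq, Set.ncard_insert_of_notMem, Set.ncard_insert_of_notMem,
            Set.ncard_pair]
          · intro h
            exact hcon.1 (mul_right_cancel (b := z) (h.symm.trans (one_mul z).symm))
          · simp only [Set.mem_insert_iff, Set.mem_singleton_iff]
            exact fun h => h.elim hcon.2 fun h => hz0 (mul_left_cancel ((mul_one g).trans h)).symm
          · simp only [Set.mem_insert_iff, Set.mem_singleton_iff]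
            rintro (h | h | h)
            · exact hcon.1 h.symm
            · exact hz0 h.symm
            · refine hcon.2 ?_
              rw [← inv_eq_of_mul_eq_one_right hgg]
              exact inv_eq_of_mul_eq_one_right h.symm
        exact this
      have h4 := Subgroup.card_dvd_of_le hVH
      rw [hV, hH] at h4
      obtain ⟨j, hj⟩ := hm
      obtain ⟨l, hl⟩ := h4
      omega
    rcases hinv (h ^ m) (H.pow_mem hh m) (by rw [← pow_add, ← two_mul, h2m]) with h' | h'
    · exact absurd h' h1
    · rw [h', ← pow_two, ← hz2, pow_orderOf_eq_one]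

end CfsgLib.Recog.M12Eight
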