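import Cfsg.Agent.Lib.Recog.M12Eight.Classes
import Cfsg.Agent.Lib.Recog.M12Eight.ChecksE
import Cfsg.Agent.Lib.Recog.M12Eight.OddPart
import Mathlib.Algebra.BigOperators.Group.Finset.Basic
import Mathlib.GroupTheory.Perm.Fin

/-!
# The normaliser of `Q` in the centraliser of `z`
-/

set_option autoImplicit false
set_option linter.unusedSectionVars false

namespace CfsgLib.Recog.M12Eight

open Subgroup

universe u

variable {G : Type u} [Group G] [Finite G] {P : Sylow 2 G} {f x y q : G}

/-- `E`. -/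
def elemE (C : Coords 0 0 0 (P : Subgroup G) f x y q) : Subgroup G where
  carrier := {g | ∃ n < 64, inE n = true ∧ el f x y q n = g}
  one_mem' := ⟨0, by norm_num, rfl, by simp [el]⟩
  mul_mem' := by
    rintro _ _ ⟨u, hu, pu, rfl⟩ ⟨v, hv, pv, rfl⟩
    exact ⟨mul0 u v, mul_lt hu, inE_facts.1 u hu v hv pu pv, (C.toRel.el_mul u v).symm⟩
  inv_mem' := by
    rintro _ ⟨u, hu, pu, rfl⟩
    exact ⟨u, hu, pu, (inv_eq_of_mul_eq_one_right
      ((C.sq_eq_one_iff hu).2 (inE_facts.2 u hu pu).2)).symm⟩

/-- Representatives of the three cosets. -/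
def rep : Fin 3 → ℕ := ![8, 32, 40]

theorem rep_lt : ∀ k : Fin 3, rep k < 64 := by decide

theorem rep_facts : ∀ k : Fin 3, inE (rep k) = true ∧ inQ (rep k) = true ∧
    mul0 (rep k) 4 = rep k + 4 ∧ rep k + 4 < 64 ∧
    (∀ n < 64, co k.val n = true ↔ n = rep k ∨ n = rep k + 4) := by decide +kernel

variable (C : Coords 0 0 0 (P : Subgroup G) f x y q)
include C

/-- `g` carries coset `k` to coset `l`. -/
def Mv (_C : Coords 0 0 0 (P : Subgroup G) f x y q) (g : G) (k l : Fin 3) : Prop :=
  g * el f x y q (rep k) * g⁻¹ = el f x y q (rep l) ∨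
    g * el f x y q (rep k) * g⁻¹ = el f x y q (rep l) * el f x y q 4

theorem mem_NQ_iff {g : G} : g ∈ NQ C ↔ g * el f x y q 4 = el f x y q 4 * g ∧
    g ∈ normalizer (parSub C true true false : Set G) := by
  rw [NQ, mem_inf, mem_centralizer_singleton_iff]

theorem mem_Q {n : ℕ} (hn : n < 64) (h : inQ n = true) :
    el f x y q n ∈ parSub C true true false := by
  rw [mem_parSub C hn]; simpa [inQ] using h

theorem z_mul_z : el f x y q 4 * el f x y q 4 = 1 :=
  (C.sq_eq_one_iff (by norm_num)).2 (by decide +kernel)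

theorem Mv.mul {g h : G} {k l j : Fin 3} (hh : h * el f x y q 4 * h⁻¹ = el f x y q 4)
    (h1 : Mv C g k l) (h2 : Mv C h l j) : Mv C (h * g) k j := by
  have hz := z_mul_z C
  unfold Mv at *
  rw [show h * g * el f x y q (rep k) * (h * g)⁻¹ = h * (g * el f x y q (rep k) * g⁻¹) * h⁻¹ by
    group]
  rcases h1 with h1 | h1 <;> rw [h1]
  · exact h2
  · rw [show h * (el f x y q (rep l) * el f x y q 4) * h⁻¹ =
      (h * el f x y q (rep l) * h⁻¹) * (h * el f x y q 4 * h⁻¹) by group, hh]
    rcases h2 with h2 | h2 <;> rw [h2]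
    · exact Or.inr rfl
    · exact Or.inl (by rw [mul_assoc, hz, mul_one])

theorem Mv.unique {g : G} {k l l' : Fin 3} (h1 : Mv C g k l) (h2 : Mv C g k l') : l = l' := by
  have key : ∀ l l' : Fin 3, (rep l = rep l' ∨ rep l = rep l' + 4 ∨ rep l + 4 = rep l') → l = l' := by
    decide +kernel
  have e : ∀ l : Fin 3, el f x y q (rep l) * el f x y q 4 = el f x y q (rep l + 4) := fun l =>
    (C.toRel.el_mul _ _).trans (congrArg _ (rep_facts l).2.2.1)
  unfold Mv at h1 h2
  rw [e] at h1 h2
  rcases h1 with h1 | h1 <;> rcases h2 with h2 | h2 <;> rw [h1] at h2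
  · exact key l l' (Or.inl (C.inj _ (rep_lt l) _ (rep_lt l') h2))
  · exact key l l' (Or.inr (Or.inl (C.inj _ (rep_lt l) _ (rep_facts l').2.2.2.1 h2)))
  · exact key l l' (Or.inr (Or.inr (C.inj _ (rep_facts l).2.2.2.1 _ (rep_lt l') h2)))
  · exact key l l' (Or.inl (Nat.add_right_cancel
      (C.inj _ (rep_facts l).2.2.2.1 _ (rep_facts l').2.2.2.1 h2)))

variable {C}

theorem isConj_z_of_inE (K : Classes C) {n : ℕ} (hn : n < 64) (h : inE n = true) (h0 : n ≠ 0) :
    IsConj (el f x y q n) (el f x y q 4) := by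
  have key : ∀ n < 64, inE n = true → n ≠ 0 →
      ([4, 8, 32].any fun r => cj 0 0 0 n r) = true := by decide +kernel
  obtain ⟨r, hr, hc⟩ := List.any_eq_true.1 (key n hn h h0)
  refine (C.isConj_of_cj hc).trans ?_
  simp only [List.mem_cons, List.not_mem_nil, or_false] at hr
  rcases hr with rfl | rfl | rfl
  exacts [IsConj.refl _, K.hx.symm, K.hq]

theorem inE_of_isConj (K : Classes C) {n : ℕ} (hn : n < 64) (hq : inQ n = true)
    (h : IsConj (el f x y q n) (el f x y q 4)) : inE n = true := by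
  have hno : orderOf (el f x y q n) = 2 := by
    obtain ⟨g, hg⟩ := isConj_iff.1 h
    have := congrArg orderOf hg
    rw [← MulAut.conj_apply, MulEquiv.orderOf_eq] at this
    rw [this, C.orderOf_two (show 4 < 64 by norm_num) (by norm_num) (by decide +kernel)]
  have h0 : n ≠ 0 := fun h0 => by
    rw [h0, (C.eq_one_iff (by norm_num)).2 rfl] at hno
    simp at hno
  have h2 : mul 0 0 0 n n = 0 := by rw [← C.sq_eq_one_iff hn, ← pow_two, ← hno, pow_orderOf_eq_one]
  have key : ∀ n < 64, cj 0 0 0 n 32 = true → inE n = true := by decide +kernel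
  have := q_class n hn hq (by simp [isInv, h0, h2])
  simp only [Bool.or_eq_true, List.contains_iff_mem, List.mem_cons, List.not_mem_nil,
    or_false] at this
  rcases this with (((h' | h') | h') | h') | h'
  · rcases h' with rfl | rfl | rfl <;> rfl
  · exact absurd ((C.isConj_of_cj h').symm.trans h) K.ha
  · exact key n hn h'
  · exact absurd (K.hb.symm.trans ((C.isConj_of_cj h').symm.trans h)) K.ha
  · exact absurd (K.hd.symm.trans ((C.isConj_of_cj h').symm.trans h)) K.ha

theorem NQ_fix_z {g : G} (hg : g ∈ NQ C) : g * el f x y q 4 * g⁻¹ = el f x y q 4 := by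
  rw [((mem_NQ_iff C).1 hg).1, mul_inv_cancel_right]

theorem NQ_conj_E (K : Classes C) {g : G} (hg : g ∈ NQ C) {n : ℕ} (hn : n < 64)
    (h : inE n = true) : ∃ m < 64, inE m = true ∧ g * el f x y q n * g⁻¹ = el f x y q m := by
  obtain ⟨m, hm, hp, hm'⟩ := (mem_normalizer_iff.1 ((mem_NQ_iff C).1 hg).2 _).1
    (mem_Q C hn (inE_facts.2 n hn h).1)
  have hm' : el f x y q m = g * el f x y q n * g⁻¹ := hm'
  refine ⟨m, hm, ?_, hm'.symm⟩
  rcases eq_or_ne n 0 with rfl | h0
  · rw [(C.eq_one_iff (by norm_num)).2 rfl, mul_one, mul_inv_cancel, C.eq_one_iff hm] at hm'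
    subst hm'
    rfl
  · exact inE_of_isConj K hm (by simpa [inQ] using hp)
      ((isConj_iff.2 ⟨g, hm'.symm⟩ : IsConj _ (el f x y q m)).symm.trans
        (isConj_z_of_inE K hn h h0))

theorem exists_mv (K : Classes C) {g : G} (hg : g ∈ NQ C) (k : Fin 3) : ∃ l, Mv C g k l := by
  obtain ⟨m, hm, hmE, hgm⟩ := NQ_conj_E K hg (rep_lt k) (rep_facts k).1
  have hmE' := hmE
  rw [inE_iff m hm] at hmE'
  simp only [Bool.or_eq_true, beq_iff_eq] at hmE'
  have e : ∀ l : Fin 3, el f x y q (rep l) * el f x y q 4 = el f x y q (rep l + 4) := fun l =>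
    (C.toRel.el_mul _ _).trans (congrArg _ (rep_facts l).2.2.1)
  have hl : ∀ l : Fin 3, co l.val m = true → ∃ l, Mv C g k l := fun l h => by
    rcases ((rep_facts l).2.2.2.2 m hm).1 h with rfl | rfl
    · exact ⟨l, Or.inl hgm⟩
    · exact ⟨l, Or.inr (hgm.trans (e l).symm)⟩
  rcases hmE' with (((rfl | rfl) | h) | h) | h
  · exfalso
    rw [(C.eq_one_iff (by norm_num)).2 rfl, mul_inv_eq_one] at hgm
    have h1 : el f x y q (rep k) = 1 := mul_left_cancel (hgm.trans (mul_one g).symm)
    have := (C.eq_one_iff (rep_lt k)).1 h1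
    fin_cases k <;> simp [rep] at this
  · exfalso
    have h1 : el f x y q (rep k) = el f x y q 4 :=
      mul_left_cancel (mul_right_cancel (hgm.trans (NQ_fix_z hg).symm))
    have := C.inj _ (rep_lt k) 4 (by norm_num) h1
    fin_cases k <;> simp [rep] at this
  · exact hl 0 h
  · exact hl 1 h
  · exact hl 2 h

/-- The image of a coset. -/
noncomputable def sig (K : Classes C) (g : NQ C) (k : Fin 3) : Fin 3 := (exists_mv K g.2 k).choose

theorem sig_spec (K : Classes C) (g : NQ C) (k : Fin 3) : Mv C (g : G) k (sig K g k) :=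
  (exists_mv K g.2 k).choose_spec

theorem sig_mul (K : Classes C) (g h : NQ C) (k : Fin 3) :
    sig K (g * h) k = sig K g (sig K h k) :=
  (sig_spec K (g * h) k).unique C ((sig_spec K h k).mul C (NQ_fix_z g.2) (sig_spec K g _))

theorem sig_one (K : Classes C) (k : Fin 3) : sig K (1 : NQ C) k = k :=
  (sig_spec K 1 k).unique C (Or.inl (by simp))

/-- The action on the three cosets. -/
noncomputable def cosetHom (K : Classes C) : NQ C →* Equiv.Perm (Fin 3) where
  toFun g :=
    { toFun := sig K g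
      invFun := sig K g⁻¹
      left_inv := fun k => by rw [← sig_mul, inv_mul_cancel, sig_one]
      right_inv := fun k => by rw [← sig_mul, mul_inv_cancel, sig_one] }
  map_one' := Equiv.ext (sig_one K)
  map_mul' g h := Equiv.ext (sig_mul K g h)

theorem cosetHom_apply (K : Classes C) (g : NQ C) (k : Fin 3) :
    Mv C (g : G) k (cosetHom K g k) := sig_spec K g k

theorem P_le_NQ : (P : Subgroup G) ≤ NQ C := fun g hg =>
  mem_NQ_of_forall C (C.le_centralizer_four (by norm_num) (by norm_num) (by norm_num) hg)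
    fun n _ _ => (P : Subgroup G).mul_mem ((P : Subgroup G).mul_mem hg (C.mem n))
      ((P : Subgroup G).inv_mem hg)

theorem cosetHom_P (K : Classes C) {n : ℕ} (hn : n < 64) :
    cosetHom K ⟨el f x y q n, P_le_NQ (C.mem n)⟩ = if inQ n then 1 else Equiv.swap 1 2 := by
  have e4 : ∀ a, el f x y q a * el f x y q 4 = el f x y q (mul0 a 4) := fun a => C.toRel.el_mul a 4
  have conj : ∀ a b, mul0 n a = mul0 b n →
      el f x y q n * el f x y q a * (el f x y q n)⁻¹ = el f x y q b := fun a b h => by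
    rw [mul_inv_eq_iff_eq_mul, C.toRel.el_mul, C.toRel.el_mul]; exact congrArg _ h
  refine Equiv.ext fun k => ?_
  refine (cosetHom_apply K _ k).unique C ?_
  cases hq : inQ n
  · obtain ⟨h32, h8⟩ := outer_swap n hn hq
    simp only [Bool.false_eq_true, if_false]
    fin_cases k
    · rcases h8 with h | h
      · exact Or.inl (conj _ _ h)
      · exact Or.inr ((conj _ _ h).trans (e4 8).symm)
    · rcases h32 with h | h
      · exact Or.inl (conj _ _ h)
      · exact Or.inr ((conj _ _ h).trans (e4 40).symm)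
    · have key : ∀ n < 64, inQ n = false → mul0 n 40 = mul0 32 n ∨ mul0 n 40 = mul0 36 n := by
        decide +kernel
      rcases key n hn hq with h | h
      · exact Or.inl (conj _ _ h)
      · exact Or.inr ((conj _ _ h).trans (e4 32).symm)
  · simp only [if_true, Equiv.Perm.coe_one, id_eq]
    rcases inner_fix n hn hq (rep k) (rep_lt k) (rep_facts k).1 with h | h
    · exact Or.inl (conj _ _ h)
    · exact Or.inr ((conj _ _ h).trans (e4 _).symm)

/-- An element of the centraliser of `z` carries `q` to `x`. -/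
theorem exists_moving (K : Classes C) : ∃ c : NQ C, cosetHom K c 1 = 0 := by
  have hq0 := K.hq
  obtain ⟨g, hg, himg, w, hw, hw4, hw0, hww, hgw⟩ := C.image_of_extremal (show 32 < 64 by norm_num)
    (by norm_num) (by decide +kernel) (by norm_num) (by norm_num) (by norm_num) (by norm_num) hq0
  have sqs : ∀ a < 64, ∀ t < 64, isInv 0 0 0 t = true → mul0 a a = t → t = 4 ∨ t = 8 ∨ t = 12 := by
    decide +kernel
  have roots : ∀ t, (t = 32 ∨ t = 8 ∨ t = 12) →
      ((List.range 64).any fun a => cm 0 0 0 a t && mul0 a a == 4) = true := by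
    rintro t (rfl | rfl | rfl) <;> decide +kernel
  have img : ∀ {g : G} {t w : ℕ}, t = 32 ∨ t = 8 ∨ t = 12 → w < 64 → isInv 0 0 0 w = true →
      (∀ a < 64, cm 0 0 0 a t = true → ∃ b < 64, g * el f x y q a * g⁻¹ = el f x y q b) →
      g * el f x y q 4 * g⁻¹ = el f x y q w → w = 4 ∨ w = 8 ∨ w = 12 := by
    intro g t w ht hw hwi himg hgw
    obtain ⟨a, ha, hac⟩ := List.any_eq_true.1 (roots t ht)
    simp only [Bool.and_eq_true, beq_iff_eq, List.mem_range] at ha hac
    obtain ⟨b, hb, hb'⟩ := himg a ha hac.1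
    refine sqs b hb w hw hwi ((C.mul_eq_iff hb hw).1 ?_)
    rw [← hb', ← hgw]
    calc g * el f x y q a * g⁻¹ * (g * el f x y q a * g⁻¹)
        = g * (el f x y q a * el f x y q a) * g⁻¹ := by group
      _ = _ := by rw [C.toRel.el_mul, show mul 0 0 0 a a = 4 from hac.2]
  have hwi : isInv 0 0 0 w = true := by simp [isInv, hw0, hww]
  have hw812 := (img (Or.inl rfl) hw hwi himg hgw).resolve_left hw4
  obtain ⟨g', hg', himg', w', hw', hw'4, hw'0, hw'w, hgw'⟩ := C.image_of_extremal hw hw4 hww hw0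
    (by norm_num) (by norm_num) (by norm_num) ((isConj_iff.2 ⟨g, hgw⟩).symm)
  have hw'812 := (img (Or.inr hw812) hw' (by simp [isInv, hw'0, hw'w]) himg' hgw').resolve_left hw'4
  have hz : g' * g * el f x y q 4 * (g' * g)⁻¹ = el f x y q 4 := by
    rw [show g' * g * el f x y q 4 * (g' * g)⁻¹ = g' * (g * el f x y q 4 * g⁻¹) * g'⁻¹ by group,
      hgw, hg']
  have ht : g' * g * el f x y q 32 * (g' * g)⁻¹ = el f x y q w' := by
    rw [show g' * g * el f x y q 32 * (g' * g)⁻¹ = g' * (g * el f x y q 32 * g⁻¹) * g'⁻¹ by group,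
      hg, hgw']
  obtain ⟨c, hc, hc'⟩ := conj_in_NQ C (mem_Q C hw' (by rcases hw'812 with rfl | rfl <;> decide +kernel))
    (mem_Q C (show 32 < 64 by norm_num) (by decide +kernel))
    (mem_centralizer_singleton_iff.2 (mul_inv_eq_iff_eq_mul.1 hz)) ht
  refine ⟨⟨c, hc⟩, (cosetHom_apply K ⟨c, hc⟩ 1).unique C ?_⟩
  have e12 : el f x y q 8 * el f x y q 4 = el f x y q 12 := C.toRel.el_mul 8 4
  have e8 : el f x y q 12 * el f x y q 4 = el f x y q 8 := C.toRel.el_mul 12 4
  rcases hw'812 with rfl | rfl <;> rcases hc' with h | h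
  · exact Or.inl h
  · exact Or.inr h
  · exact Or.inr (h.trans e12.symm)
  · exact Or.inl (h.trans e8)

theorem cosetHom_surjective (K : Classes C) : Function.Surjective (cosetHom K) := by
  obtain ⟨c, hc⟩ := exists_moving K
  have hs : Equiv.swap (1 : Fin 3) 2 ∈ (cosetHom K).range :=
    ⟨⟨el f x y q 1, P_le_NQ (C.mem 1)⟩, by
      rw [cosetHom_P K (show 1 < 64 by norm_num)]; rfl⟩
  have key : ∀ p : Equiv.Perm (Fin 3), p 1 = 0 → ∀ r : Equiv.Perm (Fin 3),
      r = 1 ∨ r = Equiv.swap 1 2 ∨ r = p ∨ r = p * Equiv.swap 1 2 ∨ r = Equiv.swap 1 2 * p ∨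
      r = Equiv.swap 1 2 * p * Equiv.swap 1 2 ∨ r = p * p ∨ r = p * Equiv.swap 1 2 * p ∨
      r = p * p * Equiv.swap 1 2 := by decide +kernel
  intro r
  have hp : cosetHom K c ∈ (cosetHom K).range := ⟨c, rfl⟩
  have : r ∈ (cosetHom K).range := by
    rcases key _ hc r with rfl | rfl | rfl | rfl | rfl | rfl | rfl | rfl | rfl
    exacts [one_mem _, hs, hp, mul_mem hp hs, mul_mem hs hp, mul_mem (mul_mem hs hp) hs,
      mul_mem hp hp, mul_mem (mul_mem hp hs) hp, mul_mem (mul_mem hp hp) hs]
  exact this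

/-- A 2-element of `NQ` is carried into `P` there. -/
theorem two_elem_conj {u : G} (hu : u ∈ NQ C) {k : ℕ} (hk : u ^ 2 ^ k = 1) :
    ∃ h ∈ NQ C, h * u * h⁻¹ ∈ (P : Subgroup G) := by
  have hup : IsPGroup 2 (zpowers u) := by
    obtain ⟨j, -, hj⟩ := (Nat.dvd_prime_pow Nat.prime_two).1 (orderOf_dvd_of_pow_eq_one hk)
    exact IsPGroup.of_card (n := j) (by rw [Nat.card_zpowers, hj])
  have hle : zpowers u ≤ normalizer (parSub C true true false : Set G) :=
    zpowers_le.2 ((mem_NQ_iff C).1 hu).2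
  have hH : IsPGroup 2 (zpowers u ⊔ parSub C true true false : Subgroup G) :=
    hup.to_sup_of_normal_right' (P.2.to_le (parSub_le C _ _ _)) hle
  have hPC := C.le_centralizer_four (show (0 : ℕ) < 2 by norm_num) (show (0 : ℕ) < 2 by norm_num)
    (show (0 : ℕ) < 2 by norm_num)
  obtain ⟨h, hh, hhH⟩ := CfsgLib.Comp.exists_conj_le_sylow P hPC
    (sup_le (zpowers_le.2 (mem_centralizer_singleton_iff.2 ((mem_NQ_iff C).1 hu).1))
      ((parSub_le C _ _ _).trans hPC)) hH
  exact ⟨h, mem_NQ_of_forall C hh fun n hn hq => hhH _ (le_sup_right (a := zpowers u) (mem_Q C hn hq)),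
    hhH u (le_sup_left (b := parSub C true true false) (mem_zpowers u))⟩

theorem two_elem_ker (K : Classes C) {u : NQ C} (hu : cosetHom K u = 1) {k : ℕ}
    (hk : (u : G) ^ 2 ^ k = 1) : (u : G) ∈ parSub C true true false := by
  obtain ⟨h, hh, hhu⟩ := two_elem_conj u.2 hk
  obtain ⟨n, hn, hn'⟩ := C.surj _ hhu
  have e : (⟨el f x y q n, P_le_NQ (C.mem n)⟩ : NQ C) = ⟨h, hh⟩ * u * ⟨h, hh⟩⁻¹ :=
    Subtype.ext (by simp [hn'])
  have h1 : cosetHom K ⟨el f x y q n, P_le_NQ (C.mem n)⟩ = 1 := by
    rw [e, map_mul, map_mul, hu, mul_one, ← map_mul, mul_inv_cancel, map_one]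
  rw [cosetHom_P K hn] at h1
  have hq : inQ n = true := by
    by_contra hq
    simp only [hq] at h1
    exact absurd (congrArg (fun p : Equiv.Perm (Fin 3) => p 1) h1) (by decide)
  have hnQ := mem_Q C hn hq
  rw [hn'] at hnQ
  exact (mem_normalizer_iff.1 ((mem_NQ_iff C).1 hh).2 _).2 hnQ

/-- An element of odd order in the kernel centralises `Q`. -/
theorem odd_ker (K : Classes C) {o : NQ C} (ho : cosetHom K o = 1)
    (hodd : Odd (orderOf (o : G))) :
    ∀ v ∈ parSub C true true false, (o : G) * v = v * o := by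
  have hz := NQ_fix_z o.2
  have hzc : (o : G) * el f x y q 4 = el f x y q 4 * o := ((mem_NQ_iff C).1 o.2).1
  have hfix : ∀ k : Fin 3, (o : G) * el f x y q (rep k) = el f x y q (rep k) * o := by
    intro k
    have h := cosetHom_apply K o k
    rw [ho] at h
    rcases h with h | h
    · exact mul_inv_eq_iff_eq_mul.1 h
    · exfalso
      -- an element of odd order would have even order
      have hj : ∀ j, (o : G) ^ j * el f x y q (rep k) * ((o : G) ^ j)⁻¹ =
          el f x y q (rep k) * el f x y q 4 ^ j := by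
        intro j
        induction j with
        | zero => simp
        | succ i ih =>
          rw [pow_succ', show (o : G) * (o : G) ^ i * el f x y q (rep k) * ((o : G) * (o : G) ^ i)⁻¹ =
            (o : G) * ((o : G) ^ i * el f x y q (rep k) * ((o : G) ^ i)⁻¹) * (o : G)⁻¹ by group, ih,
            show (o : G) * (el f x y q (rep k) * el f x y q 4 ^ i) * (o : G)⁻¹ =
              ((o : G) * el f x y q (rep k) * (o : G)⁻¹) * ((o : G) * el f x y q 4 * (o : G)⁻¹) ^ i by
                rw [conj_pow]; group,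
            hz, h, mul_assoc, ← pow_succ']
          rfl
      have h1 := hj (orderOf (o : G))
      rw [pow_orderOf_eq_one] at h1
      obtain ⟨m, hm⟩ := hodd
      rw [hm, pow_succ, pow_mul, pow_two, z_mul_z C, one_pow, one_mul] at h1
      simp only [one_mul, inv_one, mul_one] at h1
      have h4 : el f x y q 4 = 1 := mul_left_cancel (h1.symm.trans (mul_one _).symm)
      exact absurd ((C.eq_one_iff (by norm_num)).1 h4) (by norm_num)
  have hE : ∀ n < 64, inE n = true → (o : G) * el f x y q n = el f x y q n * o := by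
    intro n hn h
    have e4 : ∀ k : Fin 3, el f x y q (rep k + 4) = el f x y q (rep k) * el f x y q 4 := fun k =>
      ((C.toRel.el_mul _ _).trans (congrArg _ (rep_facts k).2.2.1)).symm
    have hk : ∀ k : Fin 3, co k.val n = true → (o : G) * el f x y q n = el f x y q n * o := by
      intro k hk
      rcases ((rep_facts k).2.2.2.2 n hn).1 hk with rfl | rfl
      · exact hfix k
      · rw [e4, ← mul_assoc, hfix k, mul_assoc, hzc, mul_assoc]
    rw [inE_iff n hn] at h
    simp only [Bool.or_eq_true, beq_iff_eq] at h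
    rcases h with (((rfl | rfl) | h) | h) | h
    · rw [(C.eq_one_iff (by norm_num)).2 rfl, mul_one, one_mul]
    · exact hzc
    · exact hk 0 h
    · exact hk 1 h
    · exact hk 2 h
  rintro _ ⟨v, hv, hp, rfl⟩
  obtain ⟨w, hw, hwp, hw'⟩ := (mem_normalizer_iff.1 ((mem_NQ_iff C).1 o.2).2 _).1
    ⟨v, hv, hp, rfl⟩
  have hw' : el f x y q w = (o : G) * el f x y q v * (o : G)⁻¹ := hw'
  have hd : el f x y q w * (el f x y q v)⁻¹ ∈ parSub C true true false :=
    (parSub C true true false).mul_mem ⟨w, hw, hwp, rfl⟩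
      ((parSub C true true false).inv_mem ⟨v, hv, hp, rfl⟩)
  obtain ⟨d, hd64, hdp, hd'⟩ := hd
  have hdE : inE d = true := cent_E d hd64 (by simpa [inQ] using hdp) fun e he hee => by
    have hqe : inQ e = true := (inE_facts.2 e he hee).1
    refine beq_iff_eq.2 ((C.comm_iff he hd64).1 ?_)
    rw [hd']
    have key : ∀ a < 64, ∀ b < 64, mul0 (mul0 a b) 4 = mul0 4 (mul0 a b) := by decide +kernel
    have hoe := hE e he hee
    have hev := comm_z e he v hv hqe (by simpa [inQ] using hp)
    have hew : el f x y q e * el f x y q w = el f x y q w * el f x y q e ∧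
          el f x y q e * el f x y q v = el f x y q v * el f x y q e ∨
        el f x y q e * el f x y q w = el f x y q w * el f x y q e * el f x y q 4 ∧
          el f x y q e * el f x y q v = el f x y q v * el f x y q e * el f x y q 4 := by
      have conjw : ∀ t, el f x y q e * el f x y q v = el f x y q v * el f x y q e * t →
          (o : G) * t = t * o → el f x y q e * el f x y q w = el f x y q w * el f x y q e * t := by
        intro t h ht
        have e1 : (o : G) * el f x y q e * (o : G)⁻¹ = el f x y q e := by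
          rw [hoe, mul_inv_cancel_right]
        have e2 : (o : G) * t * (o : G)⁻¹ = t := by rw [ht, mul_inv_cancel_right]
        rw [hw']
        calc el f x y q e * ((o : G) * el f x y q v * (o : G)⁻¹)
            = ((o : G) * el f x y q e * (o : G)⁻¹) * ((o : G) * el f x y q v * (o : G)⁻¹) := by
              rw [e1]
          _ = (o : G) * (el f x y q e * el f x y q v) * (o : G)⁻¹ := by group
          _ = (o : G) * (el f x y q v * el f x y q e * t) * (o : G)⁻¹ := by rw [h]
          _ = ((o : G) * el f x y q v * (o : G)⁻¹) * ((o : G) * el f x y q e * (o : G)⁻¹) *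
              ((o : G) * t * (o : G)⁻¹) := by group
          _ = _ := by rw [e1, e2]
      rcases hev with h | h
      · have h' := (C.comm_iff he hv).2 h
        exact Or.inl ⟨by simpa using conjw 1 (by simpa using h') (by simp), h'⟩
      · have h' : el f x y q e * el f x y q v = el f x y q v * el f x y q e * el f x y q 4 := by
          rw [C.toRel.el_mul, C.toRel.el_mul, C.toRel.el_mul]; exact congrArg _ h
        exact Or.inr ⟨conjw _ h' hzc, h'⟩
    rcases hew with ⟨h1, h2⟩ | ⟨h1, h2⟩
    · exact (Commute.mul_right (show Commute _ _ from h1)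
        (Commute.inv_right (show Commute _ _ from h2))).eq
    · have hzv : el f x y q v * el f x y q 4 = el f x y q 4 * el f x y q v :=
        (C.comm_iff hv (by norm_num)).2 (central_four 0 (by norm_num) 0 (by norm_num) 0
          (by norm_num) v hv)
      have hze : el f x y q e * el f x y q 4 = el f x y q 4 * el f x y q e :=
        (C.comm_iff he (by norm_num)).2 (central_four 0 (by norm_num) 0 (by norm_num) 0
          (by norm_num) e he)
      have h3 : el f x y q e * (el f x y q v)⁻¹ =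
          el f x y q 4 * (el f x y q v)⁻¹ * el f x y q e := by
        rw [mul_inv_eq_iff_eq_mul]
        simp only [mul_assoc]
        rw [h2, ← mul_assoc (el f x y q v)⁻¹, ← mul_assoc (el f x y q v)⁻¹, inv_mul_cancel, one_mul,
          hze, ← mul_assoc, z_mul_z C, one_mul]
      calc el f x y q e * (el f x y q w * (el f x y q v)⁻¹)
          = el f x y q w * el f x y q e * el f x y q 4 * (el f x y q v)⁻¹ := by rw [← mul_assoc, h1]
        _ = el f x y q w * el f x y q 4 * (el f x y q e * (el f x y q v)⁻¹) := by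
            rw [mul_assoc (el f x y q w) (el f x y q e), hze]; simp only [mul_assoc]
        _ = el f x y q w * (el f x y q 4 * el f x y q 4) * (el f x y q v)⁻¹ * el f x y q e := by
            rw [h3]; simp only [mul_assoc]
        _ = _ := by rw [z_mul_z C, mul_one]
  have hod : (o : G) * el f x y q d = el f x y q d * o := hE d hd64 hdE
  have hov : (o : G) * el f x y q v = el f x y q d * el f x y q v * o := by
    rw [hd', hw']; group
  have hpow : ∀ j, (o : G) ^ j * el f x y q v = el f x y q d ^ j * el f x y q v * (o : G) ^ j := by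
    intro j
    induction j with
    | zero => simp
    | succ i ih =>
      calc (o : G) ^ (i + 1) * el f x y q v = (o : G) * ((o : G) ^ i * el f x y q v) := by
            rw [pow_succ', mul_assoc]
        _ = (o : G) * el f x y q d ^ i * el f x y q v * (o : G) ^ i := by rw [ih]; simp only [mul_assoc]
        _ = el f x y q d ^ i * ((o : G) * el f x y q v) * (o : G) ^ i := by
            rw [(show Commute (o : G) (el f x y q d) from hod).pow_right i |>.eq]
            simp only [mul_assoc]
        _ = _ := by rw [hov, pow_succ, pow_succ']; simp only [mul_assoc]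
  have h1 := hpow (orderOf (o : G))
  rw [pow_orderOf_eq_one, one_mul, mul_one] at h1
  have h2 : el f x y q d ^ orderOf (o : G) = 1 :=
    mul_right_cancel (h1.symm.trans (one_mul _).symm)
  obtain ⟨m, hm⟩ := hodd
  rw [hm, pow_succ, pow_mul, pow_two, (C.sq_eq_one_iff hd64).2 (inE_facts.2 d hd64 hdE).2,
    one_pow, one_mul] at h2
  rw [hov, h2, one_mul]

/-- An element of the kernel moves each element of `Q` at most by `z`. -/
theorem ker_fix (K : Classes C) {n : NQ C} (hn : cosetHom K n = 1) {v : G}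
    (hv : v ∈ parSub C true true false) :
    (n : G) * v * (n : G)⁻¹ = v ∨ (n : G) * v * (n : G)⁻¹ = v * el f x y q 4 := by
  obtain ⟨e, o, ho, he⟩ := Nat.exists_eq_two_pow_mul_odd (orderOf_pos (n : G)).ne'
  obtain ⟨a, b, hab⟩ : ∃ a b : ℤ, a * (2 : ℤ) ^ e + b * o = 1 := by
    have h : IsCoprime ((2 ^ e : ℕ) : ℤ) (o : ℤ) :=
      Int.isCoprime_iff_nat_coprime.2 (by
        simpa using (Nat.coprime_two_left.2 ho).pow_left e)
    obtain ⟨a, b, h⟩ := h
    exact ⟨a, b, by exact_mod_cast h⟩
  have hsplit : (n : G) = ((n : G) ^ (b * o)) * ((n : G) ^ (a * (2 : ℤ) ^ e)) := by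
    rw [← zpow_add, add_comm, hab, zpow_one]
  have h1 : cosetHom K (n ^ (b * (o : ℤ))) = 1 := by rw [map_zpow, hn, one_zpow]
  have h2 : cosetHom K (n ^ (a * (2 : ℤ) ^ e)) = 1 := by rw [map_zpow, hn, one_zpow]
  have hu : (((n ^ (b * (o : ℤ))) : NQ C) : G) ^ 2 ^ e = 1 := by
    rw [SubgroupClass.coe_zpow, ← zpow_natCast, ← zpow_mul,
      show b * (o : ℤ) * ((2 ^ e : ℕ) : ℤ) = ((orderOf (n : G) : ℕ) : ℤ) * b by
        rw [he]; push_cast; ring,
      zpow_mul, zpow_natCast, pow_orderOf_eq_one, one_zpow]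
  have hodd : Odd (orderOf (((n ^ (a * (2 : ℤ) ^ e)) : NQ C) : G)) := by
    refine ho.of_dvd_nat (orderOf_dvd_of_pow_eq_one ?_)
    rw [SubgroupClass.coe_zpow, ← zpow_natCast, ← zpow_mul,
      show a * (2 : ℤ) ^ e * (o : ℤ) = ((orderOf (n : G) : ℕ) : ℤ) * a by
        rw [he]; push_cast; ring,
      zpow_mul, zpow_natCast, pow_orderOf_eq_one, one_zpow]
  have hoc := odd_ker K h2 hodd v hv
  have huQ := two_elem_ker K h1 hu
  simp only [SubgroupClass.coe_zpow] at hoc huQ
  rw [hsplit, show (n : G) ^ (b * (o : ℤ)) * (n : G) ^ (a * (2 : ℤ) ^ e) * v *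
      ((n : G) ^ (b * (o : ℤ)) * (n : G) ^ (a * (2 : ℤ) ^ e))⁻¹ =
      (n : G) ^ (b * (o : ℤ)) * ((n : G) ^ (a * (2 : ℤ) ^ e) * v * ((n : G) ^ (a * (2 : ℤ) ^ e))⁻¹) *
        ((n : G) ^ (b * (o : ℤ)))⁻¹ by group, hoc, mul_inv_cancel_right]
  obtain ⟨i, hi, hip, hi'⟩ := huQ
  obtain ⟨j, hj, hjp, rfl⟩ := hv
  rw [← hi']
  rcases comm_z i hi j hj (by simpa [inQ] using hip) (by simpa [inQ] using hjp) with h | h
  · exact Or.inl (by rw [(C.comm_iff hi hj).2 h, mul_inv_cancel_right])
  · refine Or.inr ?_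
    have hzi : el f x y q i * el f x y q 4 = el f x y q 4 * el f x y q i :=
      (C.comm_iff hi (by norm_num)).2 (central_four 0 (by norm_num) 0 (by norm_num) 0
        (by norm_num) i hi)
    have e1 : el f x y q i * el f x y q j = el f x y q j * el f x y q i * el f x y q 4 := by
      rw [C.toRel.el_mul, C.toRel.el_mul, C.toRel.el_mul]; exact congrArg _ h
    rw [e1, mul_assoc (el f x y q j), hzi, ← mul_assoc, mul_inv_cancel_right]

end CfsgLib.Recog.M12Eight
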