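import Cfsg.Agent.Lib.Recog.M12Eight.Control
import Mathlib.GroupTheory.Transfer

/-!
# Two parities on the centraliser of the outer involution
-/

set_option autoImplicit false
set_option linter.unusedSectionVars false
set_option linter.style.haveILetI false
set_option maxRecDepth 100000

namespace CfsgLib.Recog.M12Eight

open Subgroup

universe u

/-- Transfer of a fusion-stable homomorphism. -/
theorem transfer_of_stable {X A : Type*} [Group X] [CommGroup A] [Finite X] {H : Subgroup X}
    (φ : H →* A) (hst : ∀ (g : X) (b c : H), (c : X) = g⁻¹ * b * g → φ c = φ b) (a : H) :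
    MonoidHom.transfer φ (a : X) = φ a ^ H.index := by
  classical
  letI := H.fintypeQuotientOfFiniteIndex
  letI : Fintype (Quotient (MulAction.orbitRel (zpowers (a : X)) (X ⧸ H))) := Fintype.ofFinite _
  rw [MonoidHom.transfer_eq_prod_quotient_orbitRel_zpowers_quot]
  have h1 : ∀ q : Quotient (MulAction.orbitRel (zpowers (a : X)) (X ⧸ H)),
      φ ⟨q.out.out⁻¹ * (a : X) ^ Function.minimalPeriod ((a : X) • ·) q.out * q.out.out,
        QuotientGroup.out_conj_pow_minimalPeriod_mem H (a : X) q.out⟩ =
      φ a ^ Function.minimalPeriod ((a : X) • ·) q.out := fun q => by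
    rw [← map_pow]
    exact hst q.out.out _ _ (by rw [Subgroup.coe_pow])
  rw [Finset.prod_congr rfl fun q _ => h1 q, Finset.prod_pow_eq_pow_sum]
  congr 1
  rw [Subgroup.index, Nat.card_eq_fintype_card,
    Fintype.card_congr (quotientEquivSigmaZMod H (a : X)), Fintype.card_sigma]
  exact Finset.sum_congr rfl fun q _ => (ZMod.card _).symm

theorem two_values {v : Multiplicative (ZMod 2)} {k : ℕ} (hk : Odd k) : v ^ k = v := by
  obtain ⟨j, rfl⟩ := hk
  have h : ∀ w : Multiplicative (ZMod 2), w * w = 1 := by decide
  rw [pow_succ, pow_mul, pow_two, h, one_pow, one_mul]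

theorem centraliser_invol : ∀ n < 64, cm 0 0 0 n 34 = true → isInv 0 0 0 n = true →
    inU n = true ∨ cj 0 0 0 n 17 = true ∨ cj 0 0 0 n 34 = true ∨ cj 0 0 0 n 49 = true := by
  decide +kernel

theorem parity_UT : ∀ n < 64, cm 0 0 0 n 34 = true →
    (par true false false n = false ↔ (inU n = true ∨ inU (mul0 n 34) = true)) := by decide +kernel

theorem parity_U : ∀ n < 64, cm 0 0 0 n 34 = true → par true false false n = false →
    par false false true n = false → inU n = true := by decide +kernel

theorem outer_facts : mul0 34 34 = 0 ∧ cm 0 0 0 4 34 = true ∧ cm 0 0 0 8 34 = true ∧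
    cm 0 0 0 12 34 = true ∧ cm 0 0 0 19 34 = true ∧ mul0 19 12 = mul0 8 19 ∧
    par true false false 19 = true ∧ par false false true 19 = false ∧
    par true false false 34 = false ∧ par false false true 34 = true ∧
    mul0 19 8 = mul0 (mul0 4 8) 19 ∧
    ((List.range 64).filter fun a => cm 0 0 0 a 34).length = 16 := by decide +kernel

variable {G : Type u} [Group G] [Finite G] {P : Sylow 2 G} {f x y q : G}

/-- The centraliser of the outer involution. -/
abbrev outC (_C : Coords 0 0 0 (P : Subgroup G) f x y q) : Subgroup G :=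
  centralizer ({el f x y q 34} : Set G)

theorem t_orderOf (C : Coords 0 0 0 (P : Subgroup G) f x y q) : orderOf (el f x y q 34) = 2 :=
  C.orderOf_two (by norm_num) (by norm_num) outer_facts.1

theorem t_not_isConj {C : Coords 0 0 0 (P : Subgroup G) f x y q} (K : Classes C) :
    ¬ IsConj (el f x y q 34) (el f x y q 4) := fun h => K.ha (K.hb.symm.trans h)

theorem mem_outC (C : Coords 0 0 0 (P : Subgroup G) f x y q) {n : ℕ} (hn : n < 64)
    (h : cm 0 0 0 n 34 = true) : el f x y q n ∈ outC C :=
  mem_centralizer_singleton_iff.2 ((C.comm_iff hn (by norm_num)).2 (beq_iff_eq.1 h))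

/-- A conjugate of `z` among the numbers centralising `34` is in `U`. -/
theorem inU_of_isConj {C : Coords 0 0 0 (P : Subgroup G) f x y q} (K : Classes C) {n : ℕ}
    (hn : n < 64) (hc : cm 0 0 0 n 34 = true)
    (h : el f x y q n = 1 ∨ IsConj (el f x y q 4) (el f x y q n)) : inU n = true := by
  rcases h with h | h
  · rw [(C.eq_one_iff hn).1 h]; rfl
  have ho : orderOf (el f x y q n) = 2 := by
    obtain ⟨g, hg⟩ := isConj_iff.1 h
    rw [← hg, ← MulAut.conj_apply, MulEquiv.orderOf_eq,
      C.orderOf_two (show 4 < 64 by norm_num) (by norm_num) (by decide +kernel)]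
  have hn2 : mul 0 0 0 n n = 0 := by rw [← C.sq_eq_one_iff hn, ← pow_two, ← ho, pow_orderOf_eq_one]
  have hn0 : n ≠ 0 := fun e => by
    rw [e, (C.eq_one_iff (by norm_num)).2 rfl] at ho; simp at ho
  rcases centraliser_invol n hn hc (by simp [isInv, hn0, hn2]) with e | e | e | e
  · exact e
  · exact absurd ((C.isConj_of_cj e).symm.trans h.symm) K.ha
  · exact absurd (K.hb.symm.trans ((C.isConj_of_cj e).symm.trans h.symm)) K.ha
  · exact absurd (K.hd.symm.trans ((C.isConj_of_cj e).symm.trans h.symm)) K.ha

/-- Elements of `U` are trivial or conjugates of `z`. -/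
theorem isConj_of_inU {C : Coords 0 0 0 (P : Subgroup G) f x y q} (K : Classes C) {n : ℕ}
    (hn : n < 64) (h : inU n = true) :
    el f x y q n = 1 ∨ IsConj (el f x y q 4) (el f x y q n) := by
  rcases eq_or_ne n 0 with rfl | h0
  · exact Or.inl ((C.eq_one_iff hn).2 rfl)
  · exact Or.inr (isConj_z_of_inE K hn (inU_facts.2 n hn h) h0).symm

/-- The Sylow subgroup of the centraliser. -/
noncomputable def outS {C : Coords 0 0 0 (P : Subgroup G) f x y q} (K : Classes C) :
    Sylow 2 (outC C) where
  toSubgroup := (P : Subgroup G).subgroupOf (outC C)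
  isPGroup' := P.2.comap_of_injective _ (outC C).subtype_injective
  is_maximal' := by
    intro R hR hle
    obtain ⟨k, -, hk⟩ := centraliser_extremal C (show 34 < 64 by norm_num) (by norm_num)
      outer_facts.1 outer_facts.2.2.2.2.2.2.2.2.2.2.2 (t_not_isConj K) K.hx
      (hR.map (outC C).subtype) (map_subtype_le R)
    refine (eq_of_le_of_card_ge hle ?_).symm
    have hmap : (R.map (outC C).subtype).map (MulAut.conj k).toMonoidHom ≤
        (P : Subgroup G) ⊓ outC C := by
      rintro _ ⟨a, ha, rfl⟩
      exact hk a ha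
    have := Subgroup.card_le_of_le hmap
    rw [card_map_of_injective (MulAut.conj k).injective,
      card_map_of_injective (outC C).subtype_injective, ← subgroupOf_map_subtype,
      card_map_of_injective (outC C).subtype_injective] at this
    exact this

theorem outS_el {C : Coords 0 0 0 (P : Subgroup G) f x y q} (K : Classes C) {a : outC C}
    (ha : a ∈ (outS K : Subgroup (outC C))) :
    ∃ n < 64, cm 0 0 0 n 34 = true ∧ el f x y q n = (a : G) := by
  obtain ⟨n, hn, hn'⟩ := C.surj (a : G) ha
  refine ⟨n, hn, beq_iff_eq.2 ((C.comm_iff hn (by norm_num)).1 ?_), hn'⟩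
  rw [hn']; exact mem_centralizer_singleton_iff.1 a.2

open scoped _root_.Classical in
/-- A parity on the Sylow subgroup. -/
noncomputable def outPar {C : Coords 0 0 0 (P : Subgroup G) f x y q} (K : Classes C) (a c : Bool) :
    (outS K : Subgroup (outC C)) →* Multiplicative (ZMod 2) where
  toFun g := if ((g : outC C) : G) ∈ parSub C a false c then 1 else Multiplicative.ofAdd 1
  map_one' := by simp [one_mem]
  map_mul' g h := by
    obtain ⟨u, hu, -, hu'⟩ := outS_el K g.2
    obtain ⟨v, hv, -, hv'⟩ := outS_el K h.2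
    simp only [Subgroup.coe_mul, ← hu', ← hv', C.toRel.el_mul,
      mem_parSub C hu, mem_parSub C hv, mem_parSub C (show mul 0 0 0 u v < 64 from mul_lt hu)]
    rw [show par a false c (mul 0 0 0 u v) = _ from par_mul a false c u hu v hv]
    cases par a false c u <;> cases par a false c v <;> decide

theorem outPar_eq_one {C : Coords 0 0 0 (P : Subgroup G) f x y q} (K : Classes C) {a c : Bool}
    (g : (outS K : Subgroup (outC C))) {n : ℕ} (hn : n < 64)
    (h : el f x y q n = ((g : outC C) : G)) : outPar K a c g = 1 ↔ par a false c n = false := by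
  have hne : (Multiplicative.ofAdd 1 : Multiplicative (ZMod 2)) ≠ 1 := by decide
  simp only [outPar, MonoidHom.coe_mk, OneHom.coe_mk, ← h, mem_parSub C hn]
  cases par a false c n <;> simp [hne]

/-- The first parity is stable under fusion. -/
theorem outPar_stable {C : Coords 0 0 0 (P : Subgroup G) f x y q} (K : Classes C) (g : outC C)
    (b c : (outS K : Subgroup (outC C))) (h : (c : outC C) = g⁻¹ * b * g) :
    outPar K true false c = outPar K true false b := by
  set t := el f x y q 34 with ht
  have step : ∀ (g : outC C) (b c : (outS K : Subgroup (outC C))),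
      (c : outC C) = g⁻¹ * b * g → outPar K true false b = 1 → outPar K true false c = 1 := by
    intro g b c h hb
    obtain ⟨n, hn, hnc, hn'⟩ := outS_el K b.2
    obtain ⟨m, hm, hmc, hm'⟩ := outS_el K c.2
    rw [outPar_eq_one K b hn hn', parity_UT n hn hnc] at hb
    rw [outPar_eq_one K c hm hm', parity_UT m hm hmc]
    have hcon : el f x y q m = (g : G)⁻¹ * el f x y q n * (g : G) := by
      rw [hm', hn', h, Subgroup.coe_mul, Subgroup.coe_mul, Subgroup.coe_inv]
    have hgt : (g : G) * t = t * g := mem_centralizer_singleton_iff.1 g.2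
    have tr : ∀ {u v : G}, v = (g : G)⁻¹ * u * g → (u = 1 ∨ IsConj (el f x y q 4) u) →
        (v = 1 ∨ IsConj (el f x y q 4) v) := by
      rintro u v rfl (rfl | hu)
      · exact Or.inl (by simp)
      · exact Or.inr (hu.trans (isConj_iff.2 ⟨(g : G)⁻¹, by group⟩))
    rcases hb with hb | hb
    · exact Or.inl (inU_of_isConj K hm hmc (tr hcon (isConj_of_inU K hn hb)))
    · refine Or.inr ?_
      have key : ∀ m < 64, cm 0 0 0 m 34 = true → cm 0 0 0 (mul0 m 34) 34 = true := by decide +kernel
      refine inU_of_isConj K (mul_lt hm) (key m hm hmc) ?_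
      rw [show el f x y q (mul0 m 34) = el f x y q m * t from (C.toRel.el_mul m 34).symm]
      refine tr (u := el f x y q n * t) ?_ ?_
      · rw [hcon]
        calc (g : G)⁻¹ * el f x y q n * g * t = (g : G)⁻¹ * el f x y q n * (g * t) := by group
          _ = _ := by rw [hgt]; group
      · rw [show el f x y q n * t = el f x y q (mul0 n 34) from C.toRel.el_mul n 34]
        exact isConj_of_inU K (mul_lt hn) hb
  have htwo : ∀ v w : Multiplicative (ZMod 2), (v = 1 ↔ w = 1) → v = w := by decide
  exact htwo _ _ ⟨step g⁻¹ c b (by rw [h]; group), step g b c h⟩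

/-- The first transferred parity. -/
noncomputable def tr1 {C : Coords 0 0 0 (P : Subgroup G) f x y q} (K : Classes C) :
    outC C →* Multiplicative (ZMod 2) := MonoidHom.transfer (outPar K true false)

/-- The second transferred parity. -/
noncomputable def tr2 {C : Coords 0 0 0 (P : Subgroup G) f x y q} (K : Classes C) :
    outC C →* Multiplicative (ZMod 2) := MonoidHom.transfer (outPar K false true)

theorem tr1_el {C : Coords 0 0 0 (P : Subgroup G) f x y q} (K : Classes C) {n : ℕ} (hn : n < 64)
    (h : cm 0 0 0 n 34 = true) :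
    tr1 K ⟨el f x y q n, mem_outC C hn h⟩ = 1 ↔ par true false false n = false := by
  have hS : (⟨el f x y q n, mem_outC C hn h⟩ : outC C) ∈ (outS K : Subgroup (outC C)) := C.mem n
  have hodd : Odd (outS K : Subgroup (outC C)).index :=
    Nat.not_even_iff_odd.1 fun he => (outS K).not_dvd_index (even_iff_two_dvd.1 he)
  have := transfer_of_stable (outPar K true false) (outPar_stable K) ⟨_, hS⟩
  rw [tr1, this, two_values hodd]
  exact outPar_eq_one K _ hn rfl

theorem tr2_t {C : Coords 0 0 0 (P : Subgroup G) f x y q} (K : Classes C) :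
    tr2 K ⟨el f x y q 34, mem_centralizer_singleton_iff.2 rfl⟩ ≠ 1 := by
  set t : outC C := ⟨el f x y q 34, mem_centralizer_singleton_iff.2 rfl⟩
  have hodd : Odd (outS K : Subgroup (outC C)).index :=
    Nat.not_even_iff_odd.1 fun he => (outS K).not_dvd_index (even_iff_two_dvd.1 he)
  have hc : ∀ g : outC C, g * t = t * g := fun g =>
    Subtype.ext (mem_centralizer_singleton_iff.1 g.2)
  have key : ∀ (k : ℕ) (g₀ : outC C), g₀⁻¹ * t ^ k * g₀ ∈ (outS K : Subgroup (outC C)) →
      g₀⁻¹ * t ^ k * g₀ = t ^ k := fun k g₀ _ => by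
    rw [mul_assoc, ← ((show Commute g₀ t from hc g₀).pow_right k).eq, inv_mul_cancel_left]
  rw [tr2, MonoidHom.transfer_eq_pow _ t key]
  have hmem : t ∈ (outS K : Subgroup (outC C)) := C.mem 34
  rw [show (⟨t ^ _, MonoidHom.transfer_eq_pow_aux t key⟩ : (outS K : Subgroup (outC C))) =
    ⟨t, hmem⟩ ^ (outS K : Subgroup (outC C)).index from Subtype.ext rfl, map_pow, two_values hodd]
  intro h
  have := (outPar_eq_one K ⟨t, hmem⟩ (show 34 < 64 by norm_num) rfl).1 h
  rw [outer_facts.2.2.2.2.2.2.2.2.2.1] at this
  simp at this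

end CfsgLib.Recog.M12Eight
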