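import Cfsg.Agent.Lib.Recog.M12Eight.SemiregularProof
import Cfsg.Agent.Lib.Coprime.SymplecticType
import Cfsg.Agent.Lib.InvChar.M12C.CentAOrder
import Cfsg.Agent.Lib.InvChar.M12C.Transport
import Cfsg.Agent.Lib.Classical.SLGen
import Cfsg.Agent.S3344
import Mathlib.GroupTheory.Perm.Cycle.Type

/-!
# Odd quotients of a subgroup containing the centraliser of `z`
-/

set_option autoImplicit false
set_option linter.unusedSectionVars false
set_option linter.style.haveILetI false
set_option Elab.async false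

namespace CfsgLib.Recog.M12Eight

open Subgroup

universe u

section General

variable {G : Type u} [Group G] [Finite G]

/-- An odd-order subgroup normalised modulo the core by the centraliser lies in the core. -/
theorem le_cenCore_of_decomp {a : G} {D : Subgroup G} {N : Subgroup G}
    (hD : D ≤ centralizer ({a} : Set G)) (hodd : Odd (Nat.card D))
    (hdec : ∀ g ∈ centralizer ({a} : Set G), ∃ o ∈ cenCore a, ∃ n ∈ N, g = o * n)
    (hn : ∀ n ∈ N, ∀ d ∈ D, n * d * n⁻¹ ∈ D) : D ≤ cenCore a := by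
  haveI hO : (Cfsg.oddCore (centralizer ({a} : Set G))).Normal :=
    CfsgLib.Solvable.pPrimeCore_normal 2 _
  generalize hOeq : Cfsg.oddCore (centralizer ({a} : Set G)) = O at hO
  have hOodd : Odd (Nat.card O) := hOeq ▸ CfsgLib.Invol.odd_card_oddCore _
  have hN : (O ⊔ D.subgroupOf (centralizer ({a} : Set G))).Normal := by
    refine ⟨fun w hw g => ?_⟩
    have hle : O ⊔ D.subgroupOf (centralizer ({a} : Set G)) ≤
        (O ⊔ D.subgroupOf (centralizer ({a} : Set G))).comap (MulAut.conj g).toMonoidHom := by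
      refine sup_le (fun o ho => ?_) fun d hd => ?_
      · show g * o * g⁻¹ ∈ O ⊔ _
        exact mem_sup_left (hO.conj_mem o ho g)
      show g * d * g⁻¹ ∈ O ⊔ D.subgroupOf _
      obtain ⟨o, ho, n, hnN, hg⟩ := hdec g g.2
      obtain ⟨o', ho', rfl⟩ := ho
      rw [hOeq] at ho'
      have hd' : ((o'⁻¹ * g * d * g⁻¹ * o' : centralizer ({a} : Set G)) : G) ∈ D := by
        have e := hn n hnN d hd
        have hn' : n = ((o' : G))⁻¹ * g := by
          rw [hg]; simp
        rw [hn'] at e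
        simpa [mul_assoc] using e
      have e : g * d * g⁻¹ = o' * (o'⁻¹ * g * d * g⁻¹ * o') * o'⁻¹ := by group
      rw [e]
      exact mul_mem (mul_mem (mem_sup_left ho') (mem_sup_right hd'))
        (inv_mem (mem_sup_left ho'))
    exact hle hw
  have hcard : Odd (Nat.card (O ⊔ D.subgroupOf (centralizer ({a} : Set G)) : Subgroup _)) := by
    have h1 := relIndex_mul_relIndex ⊥ O (O ⊔ D.subgroupOf (centralizer ({a} : Set G))) bot_le
      le_sup_left
    rw [relIndex_bot_left, relIndex_bot_left, sup_comm, relIndex_sup_right] at h1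
    rw [sup_comm, ← h1]
    refine hOodd.mul (Odd.of_dvd_nat ?_ (relIndex_dvd_card _ _))
    rwa [Nat.card_congr (subgroupOfEquivOfLe hD).toEquiv]
  have h := CfsgLib.Invol.le_oddCore hN hcard
  intro d hd
  exact ⟨⟨d, hD hd⟩, h (mem_sup_right hd), rfl⟩

/-- A permutation of order 8 on at most nine points is odd. -/
theorem sign_of_orderOf_eight {n : ℕ} (hn : n ≤ 9) (σ : Equiv.Perm (Fin n)) (h : orderOf σ = 8) :
    Equiv.Perm.sign σ = -1 := by
  classical
  have hlcm := σ.lcm_cycleType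
  rw [h] at hlcm
  have hsum : σ.cycleType.sum ≤ 9 := by
    rw [σ.sum_cycleType]
    exact le_trans (le_trans (Finset.card_le_univ _) (le_of_eq (Fintype.card_fin n))) hn
  have h8 : 8 ∈ σ.cycleType := by
    by_contra hc
    have : σ.cycleType.lcm ∣ 4 := Multiset.lcm_dvd.2 fun b hb => by
      have hb8 : b ∣ 8 := hlcm ▸ Multiset.dvd_lcm hb
      have := Nat.le_of_dvd (by norm_num) hb8
      interval_cases b <;> first | exact absurd hb hc | (revert hb8; decide)
    rw [hlcm] at this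
    norm_num at this
  obtain ⟨m, hm⟩ := Multiset.exists_cons_of_mem h8
  have hm0 : m = 0 := Multiset.eq_zero_of_forall_notMem fun b hb => by
    have h2 := Equiv.Perm.two_le_of_mem_cycleType (σ := σ) (by rw [hm]; exact Multiset.mem_cons_of_mem hb)
    have := Multiset.le_sum_of_mem hb
    rw [hm, Multiset.sum_cons] at hsum
    omega
  rw [Equiv.Perm.sign_of_cycleType, hm, hm0]
  decide

/-- An alternating group of degree at most nine has no element of order 8. -/
theorem not_alternating {Y : Type u} [Group Y] {n : ℕ} (hn : n ≤ 9) (e : Y ≃* alternatingGroup (Fin n))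
    {a : Y} (ha : orderOf a = 8) : False := by
  have h : orderOf ((e a : alternatingGroup (Fin n)) : Equiv.Perm (Fin n)) = 8 := by
    rw [orderOf_coe, MulEquiv.orderOf_eq, ha]
  have h1 := sign_of_orderOf_eight hn _ h
  rw [Equiv.Perm.mem_alternatingGroup.1 (e a).2] at h1
  exact absurd h1 (by decide)

theorem map_centralizer_equiv {Y Z : Type*} [Group Y] [Group Z] (e : Y ≃* Z) (a : Y) :
    Nat.card (centralizer ({a} : Set Y)) = Nat.card (centralizer ({e a} : Set Z)) := by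
  refine Nat.card_congr (e.toEquiv.subtypeEquiv fun g => ?_)
  simp only [mem_centralizer_singleton_iff, MulEquiv.toEquiv_eq_coe, EquivLike.coe_coe, ← map_mul,
    e.apply_eq_iff_eq]

open CfsgLib.InvChar.M12C in
/-- Of two non-conjugate involutions of `M12` one has centraliser order divisible by five. -/
theorem five_dvd_of_isoM12 {Y : Type u} [Group Y] (e : Y ≃* Cfsg.Spor.M12) {a b : Y}
    (ha : orderOf a = 2) (hb : orderOf b = 2) (hab : ¬ IsConj a b)
    (h5 : ¬ 5 ∣ Nat.card (centralizer ({a} : Set Y))) :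
    5 ∣ Nat.card (centralizer ({b} : Set Y)) := by
  haveI : IsSimpleGroup ↥Cfsg.Spor.M12 := CfsgLib.Golay.isSimple_sporM12
  haveI : Fact (Nat.Prime 2) := ⟨Nat.prime_two⟩
  have hz2 : orderOf zM = 2 := by
    refine orderOf_eq_prime ?_ ?_
    · rw [pow_two, zM, Pm_mul zi_lt zi_lt, idx_chk.2.2.2.2, Pm_zero]
    · rw [zM, ← Pm_zero]
      exact fun h => idx_chk.2.2.2.1 (Pm_inj zi_lt (by norm_num) h)
  have hw : Cfsg.IsTwoCentralInvolution zM := by
    refine ⟨hz2, Sylow.ofCard sylP card_sylP_pow, ⟨zi, syl_facts.2.2.2, rfl⟩, ?_⟩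
    rintro _ ⟨i, hi, rfl⟩
    exact mem_centralizer_singleton_iff.1 (mem_cent_zM (syl_lt hi))
  obtain ⟨D⟩ := exists_data zM hw zM hz2 (MulEquiv.refl _)
  have hna : ¬ IsMulCommutative ↥Cfsg.Spor.M12 := fun hc => D.not_isConj_a <| by
    exfalso
    have h := hc.is_comm.comm (D.el 144) (D.el 16)
    have e := (D.el_commute (show 144 < 192 by norm_num) (show 16 < 192 by norm_num)).1 h
    revert e
    decide +kernel
  haveI := D.centTwo.normal
  obtain ⟨e5⟩ := D.exists_quot_five hna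
  have hA : 5 ∣ Nat.card (centralizer ({D.el ai} : Set ↥Cfsg.Spor.M12)) := by
    refine dvd_trans ?_ (card_quotient_dvd_card (zpowers D.aX))
    rw [Nat.card_congr e5.toEquiv, Nat.card_perm, Nat.card_fin]
    decide
  have hor : ∀ v : ↥Cfsg.Spor.M12, orderOf v = 2 → IsConj zM v ∨ IsConj (D.el ai) v := by
    intro v hv
    obtain ⟨i, hi, hiv, hl⟩ := D.exists_conj_el hv
    rcases hl with h | h | h | h
    · left; rw [← D.eq_t_of_lab_one hi h]; exact hiv
    · exact Or.inl ((D.isConj_t_of_six hna hi h).trans hiv)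
    · exact Or.inr ((D.isConj_twelve hi h).trans hiv)
    · rcases D.isConj_w_cases hna with hw' | hw'
      · exact Or.inl ((hw'.trans (D.isConj_w hi h)).trans hiv)
      · exact Or.inr ((hw'.trans (D.isConj_w hi h)).trans hiv)
  have hfive : ∀ v : Y, IsConj (D.el ai) (e v) → 5 ∣ Nat.card (centralizer ({v} : Set Y)) := by
    intro v hv
    obtain ⟨g, hg⟩ := isConj_iff.1 hv
    rw [map_centralizer_equiv e v, ← hg, ← MulAut.conj_apply,
      ← map_centralizer_equiv (MulAut.conj g) (D.el ai)]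
    exact hA
  rcases hor (e b) (by rw [MulEquiv.orderOf_eq, hb]) with h | h
  · rcases hor (e a) (by rw [MulEquiv.orderOf_eq, ha]) with h' | h'
    · exact absurd (by simpa using MonoidHom.map_isConj e.symm.toMonoidHom (h'.symm.trans h)) hab
    · exact absurd (hfive a h') h5
  · exact hfive b h

/-- A normal 2-subgroup of the symmetric group on three letters is trivial. -/
theorem perm_three_two {R : Subgroup (Equiv.Perm (Fin 3))} (hR : R.Normal) (h2 : IsPGroup 2 R) :
    R = ⊥ := by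
  refine (eq_bot_iff_forall _).2 fun a ha => ?_
  by_contra ha1
  have key : ∀ a : Equiv.Perm (Fin 3), a ≠ 1 → ∃ g : Equiv.Perm (Fin 3),
      g * a * g⁻¹ * a⁻¹ ≠ 1 ∧ (g * a * g⁻¹ * a⁻¹) * (g * a * g⁻¹ * a⁻¹) * (g * a * g⁻¹ * a⁻¹) = 1 := by
    decide +kernel
  obtain ⟨g, hg1, hg3⟩ := key a ha1
  obtain ⟨k, hk⟩ := h2 ⟨_, mul_mem (hR.conj_mem a ha g) (inv_mem ha)⟩
  refine hg1 (orderOf_eq_one_iff.1 (Nat.eq_one_of_dvd_coprimes (a := 3) (b := 2 ^ k)
    (Nat.Coprime.pow_right k (by norm_num)) ?_ ?_))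
  · exact orderOf_dvd_of_pow_eq_one (by rw [pow_succ, pow_succ, pow_one, hg3])
  · exact orderOf_dvd_of_pow_eq_one (congrArg Subtype.val hk)

end General

theorem table_center : ∀ a < 64, (∀ b < 64, mul0 a b = mul0 b a) → a = 0 ∨ a = 4 := by
  decide +kernel

theorem table_centerQ : ∀ a < 64, inQ a = true → (∀ b < 64, inQ b = true → mul0 a b = mul0 b a) →
    a = 0 ∨ a = 4 := by decide +kernel

theorem table_J : ∀ a < 64, ([0, 4, 8, 12, 32, 34, 36, 38, 40, 42, 44, 46].contains a ||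
    mul0 a a != 0 || (List.range 64).any fun k => (List.range 64).any fun b =>
      mul0 k a == mul0 b k && !(mul0 a b == mul0 b a)) = true := by decide +kernel

theorem table_comm34 : ∀ a ∈ [0, 4, 8, 12, 32, 34, 36, 38, 40, 42, 44, 46],
    mul0 a 34 = mul0 34 a ∨ mul0 a 34 = mul0 (mul0 34 a) 4 := by decide +kernel

theorem table_34 : mul0 3 34 = mul0 42 3 ∧ mul0 34 42 = 8 ∧ mul0 32 34 ≠ mul0 34 32 ∧
    mul0 36 34 ≠ mul0 34 36 ∧ inQ 4 = true ∧ inQ 8 = true ∧ mul0 34 34 = 0 ∧ mul0 1 1 = 2 ∧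
    mul0 2 2 = 4 ∧ mul0 4 4 = 0 := by decide +kernel

variable {G : Type u} [Group G] [Finite G] {P : Sylow 2 G} {f x y q : G}
  {C : Coords 0 0 0 (P : Subgroup G) f x y q}

variable {M : Subgroup G} {Y : Type u} [Group Y] [Finite Y]

/-- The hypotheses on the quotient. -/
structure QuotHyp (C : Coords 0 0 0 (P : Subgroup G) f x y q) (M : Subgroup G) (φ : M →* Y) : Prop where
  cent : centralizer ({el f x y q 4} : Set G) ≤ M
  sur : Function.Surjective φ
  odd : Odd (Nat.card φ.ker)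
  core : ∀ g : M, (g : G) ∈ cenCore (el f x y q 4) → φ g = 1
  fus : ∃ g ∈ M, g * el f x y q 4 * g⁻¹ = el f x y q 8

/-- The elements of `P` as elements of `NQ`. -/
def pe (C : Coords 0 0 0 (P : Subgroup G) f x y q) (n : ℕ) : NQ C :=
  ⟨el f x y q n, P_le_NQ (C.mem n)⟩

theorem pe_mul (a b : ℕ) : pe C a * pe C b = pe C (mul0 a b) :=
  Subtype.ext (C.toRel.el_mul a b)

namespace QuotHyp

variable {φ : M →* Y} (H : QuotHyp C M φ) (K : Classes C)
include H

theorem NQ_le : NQ C ≤ M := inf_le_left.trans H.cent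

theorem P_le : (P : Subgroup G) ≤ M := (P_le_NQ (C := C)).trans H.NQ_le

/-- The restriction to `NQ`. -/
noncomputable def nu : NQ C →* Y := φ.comp (inclusion H.NQ_le)

theorem nu_apply (n : NQ C) : H.nu n = φ ⟨n, H.NQ_le n.2⟩ := rfl

theorem nu_mul (a b : ℕ) : H.nu (pe C a) * H.nu (pe C b) = H.nu (pe C (mul0 a b)) := by
  rw [← map_mul, pe_mul]

theorem odd_of_one {g : M} (h : φ g = 1) : Odd (orderOf (g : G)) := by
  rw [orderOf_coe]
  refine H.odd.of_dvd_nat ?_
  rw [← orderOf_mk g (MonoidHom.mem_ker.2 h)]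
  exact orderOf_dvd_natCard _

theorem eq_one_of_mem {n : NQ C} (hn : (n : G) ∈ (P : Subgroup G)) (h : H.nu n = 1) : n = 1 := by
  refine Subtype.ext (orderOf_eq_one_iff.1 ?_)
  obtain ⟨k, hk⟩ := P.2 ⟨n, hn⟩
  have hk' : (n : G) ^ 2 ^ k = 1 := congrArg Subtype.val hk
  exact Nat.eq_one_of_dvd_coprimes
    (Nat.Coprime.pow_right k (Nat.coprime_two_right.2 (H.odd_of_one h))) dvd_rfl
    (orderOf_dvd_of_pow_eq_one hk')

theorem inj_P {m n : NQ C} (hm : (m : G) ∈ (P : Subgroup G)) (hn : (n : G) ∈ (P : Subgroup G))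
    (h : H.nu m = H.nu n) : m = n := by
  refine mul_inv_eq_one.1 (H.eq_one_of_mem (mul_mem hm (inv_mem hn)) ?_)
  rw [map_mul, map_inv, h, mul_inv_cancel]

theorem inj_pe {a b : ℕ} (ha : a < 64) (hb : b < 64) (h : H.nu (pe C a) = H.nu (pe C b)) : a = b :=
  C.inj a ha b hb (congrArg Subtype.val (H.inj_P (C.mem a) (C.mem b) h))

theorem comm_pe {a b : ℕ} (ha : a < 64) (hb : b < 64)
    (h : H.nu (pe C a) * H.nu (pe C b) = H.nu (pe C b) * H.nu (pe C a)) : mul0 a b = mul0 b a := by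
  rw [H.nu_mul, H.nu_mul] at h
  exact H.inj_pe (mul_lt ha) (mul_lt hb) h

theorem nu_pe_one : H.nu (pe C 0) = 1 := by
  rw [show pe C 0 = 1 from Subtype.ext ((C.eq_one_iff (by norm_num)).2 rfl), map_one]

theorem orderOf_pe {a : ℕ} (ha : a < 64) (h0 : a ≠ 0) (h2 : mul0 a a = 0) :
    orderOf (H.nu (pe C a)) = 2 := by
  haveI : Fact (Nat.Prime 2) := ⟨Nat.prime_two⟩
  refine orderOf_eq_prime ?_ fun h => h0 ?_
  · rw [pow_two, H.nu_mul, h2, H.nu_pe_one]
  · exact H.inj_pe ha (by norm_num) (h.trans H.nu_pe_one.symm)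

theorem orderOf_one_eight : orderOf (H.nu (pe C 1)) = 8 := by
  haveI : Fact (Nat.Prime 2) := ⟨Nat.prime_two⟩
  obtain ⟨-, -, -, -, -, -, -, h11, h22, h44⟩ := table_34
  have e4 : H.nu (pe C 1) ^ 2 ^ 2 = H.nu (pe C 4) := by
    rw [show (2 : ℕ) ^ 2 = 2 * 2 from rfl, pow_mul, pow_two, pow_two, H.nu_mul, h11, H.nu_mul, h22]
  refine orderOf_eq_prime_pow (p := 2) (n := 2) ?_ ?_
  · rw [e4]
    intro h
    exact absurd (H.inj_pe (by norm_num) (by norm_num) (h.trans H.nu_pe_one.symm)) (by norm_num)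
  · rw [pow_succ 2 2, pow_mul, e4, pow_two, H.nu_mul, h44, H.nu_pe_one]

/-- An involution of the image is lifted. -/
theorem conj_lift {a : NQ C} {g : M} (ha : orderOf (a : G) = 2)
    (h : φ g * H.nu a * (φ g)⁻¹ = H.nu (pe C 4)) :
    ∃ d : M, φ d = 1 ∧ (d * g : M).1 * (a : G) * ((d * g : M).1)⁻¹ = el f x y q 4 := by
  have hz2 := C.orderOf_two (show 4 < 64 by norm_num) (by norm_num) (by decide +kernel)
  obtain ⟨u, hu⟩ : ∃ u : M, u = g * ⟨(a : G), H.NQ_le a.2⟩ * g⁻¹ := ⟨_, rfl⟩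
  obtain ⟨z1, hz1⟩ : ∃ z1 : M, z1 = ⟨el f x y q 4, H.NQ_le (pe C 4).2⟩ := ⟨_, rfl⟩
  have hzo : orderOf z1 = 2 := by rw [← orderOf_coe, hz1]; exact hz2
  have huo : orderOf u = 2 := by
    rw [hu, ← MulAut.conj_apply, MulEquiv.orderOf_eq, ← orderOf_coe]; exact ha
  have hφu : φ u = φ z1 := by rw [hu, hz1, map_mul, map_mul, map_inv]; exact h
  have hker : φ (u * z1) = 1 := by
    rw [map_mul, hφu, ← map_mul, ← pow_two, ← hzo, pow_orderOf_eq_one, map_one]
  obtain ⟨d, hd, hde⟩ := CfsgLib.Invol.exists_conj_of_odd huo hzo (by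
    rw [← orderOf_coe]; exact H.odd_of_one hker)
  refine ⟨d, MonoidHom.mem_ker.1 ((zpowers_le.2 (MonoidHom.mem_ker.2 hker)) hd), ?_⟩
  have h2 := congrArg Subtype.val hde
  rw [hu, hz1] at h2
  simpa [mul_assoc] using h2

/-- The centraliser of the image of `z` is the image of `NQ`. -/
theorem exists_of_comm (K : Classes C) {v : Y} (h : v * H.nu (pe C 4) = H.nu (pe C 4) * v) :
    ∃ n : NQ C, H.nu n = v := by
  obtain ⟨g, rfl⟩ := H.sur v
  obtain ⟨d, hd, hdg⟩ := H.conj_lift (a := pe C 4) (g := g)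
    (C.orderOf_two (show 4 < 64 by norm_num) (by norm_num) (by decide +kernel))
    (by rw [h, mul_inv_cancel_right])
  obtain ⟨o, ho, n, hn, he⟩ := decomp semiregularStmt K _
    (mem_centralizer_singleton_iff.2 (mul_inv_eq_iff_eq_mul.1 hdg))
  refine ⟨⟨n, hn⟩, ?_⟩
  have ho1 := H.core ⟨o, H.cent (cenCore_le _ ho)⟩ ho
  have e : d * g = ⟨o, H.cent (cenCore_le _ ho)⟩ * ⟨n, H.NQ_le hn⟩ := Subtype.ext he
  have e' := congrArg φ e
  rw [map_mul, map_mul, hd, ho1, one_mul, one_mul] at e'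
  exact e'.symm

/-- The kernel lies in the kernel of the action on the cosets. -/
theorem ker_le {n : NQ C} (h : H.nu n = 1) : cosetHom K n = 1 := by
  refine centQ_ker K ⟨n.2, mem_centralizer_iff.2 fun v hv => ?_⟩
  have hv' : (n : G) * v * (n : G)⁻¹ ∈ parSub C true true false :=
    (mem_normalizer_iff.1 ((mem_NQ_iff C).1 n.2).2 v).1 hv
  have hvN : v ∈ NQ C := P_le_NQ (parSub_le C _ _ _ hv)
  have e := H.inj_P (m := n * ⟨v, hvN⟩ * n⁻¹) (n := ⟨v, hvN⟩) (parSub_le C _ _ _ hv')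
    (parSub_le C _ _ _ hv) (by rw [map_mul, map_mul, map_inv, h, one_mul, inv_one, mul_one])
  exact (mul_inv_eq_iff_eq_mul.1 (congrArg Subtype.val e)).symm

/-- The kernel of the action on the cosets goes into the image of `Q`. -/
theorem exists_of_ker {n : NQ C} (h : cosetHom K n = 1) :
    ∃ a < 64, inQ a = true ∧ H.nu (pe C a) = H.nu n := by
  obtain ⟨D, hD, hDodd, hDn, hDor⟩ := exists_centQ_odd K
  have hDcore : D ≤ cenCore (el f x y q 4) :=
    le_cenCore_of_decomp (hD.trans (inf_le_left.trans inf_le_left)) hDodd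
      (decomp semiregularStmt K) hDn
  obtain ⟨e, o, ho, he⟩ := Nat.exists_eq_two_pow_mul_odd (orderOf_pos (n : G)).ne'
  obtain ⟨i, j, hij⟩ : ∃ i j : ℤ, i * (2 : ℤ) ^ e + j * o = 1 := by
    obtain ⟨i, j, h⟩ : IsCoprime ((2 ^ e : ℕ) : ℤ) (o : ℤ) :=
      Int.isCoprime_iff_nat_coprime.2 (by simpa using (Nat.coprime_two_left.2 ho).pow_left e)
    exact ⟨i, j, by exact_mod_cast h⟩
  have hpow : ∀ k : ℤ, (n : G) ^ (((orderOf (n : G) : ℕ) : ℤ) * k) = 1 := fun k => by
    rw [zpow_mul, zpow_natCast, pow_orderOf_eq_one, one_zpow]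
  have h1 : cosetHom K (n ^ (j * (o : ℤ))) = 1 := by rw [map_zpow, h, one_zpow]
  have h2 : cosetHom K (n ^ (i * (2 : ℤ) ^ e)) = 1 := by rw [map_zpow, h, one_zpow]
  obtain ⟨a, ha, hap, ha'⟩ := two_elem_ker K h1 (k := e) (by
    rw [SubgroupClass.coe_zpow, ← zpow_natCast, ← zpow_mul,
      show j * (o : ℤ) * ((2 ^ e : ℕ) : ℤ) = ((orderOf (n : G) : ℕ) : ℤ) * j by
        rw [he]; push_cast; ring, hpow])
  have ha' : el f x y q a = ((n ^ (j * (o : ℤ)) : NQ C) : G) := ha'
  obtain ⟨b, hb⟩ : ∃ b : NQ C, b = n ^ (i * (2 : ℤ) ^ e) := ⟨_, rfl⟩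
  have hbo : (b : G) ^ o = 1 := by
    rw [hb, SubgroupClass.coe_zpow, ← zpow_natCast, ← zpow_mul,
      show i * (2 : ℤ) ^ e * (o : ℤ) = ((orderOf (n : G) : ℕ) : ℤ) * i by
        rw [he]; push_cast; ring, hpow]
  have hbD : (b : G) ∈ D := by
    refine (hDor _ ⟨b.2, mem_centralizer_iff.2 fun v hv =>
      (odd_ker K (hb ▸ h2) (ho.of_dvd_nat (orderOf_dvd_of_pow_eq_one hbo)) v hv).symm⟩).resolve_right
      fun hbz => ?_
    have hc : Commute (b : G) (el f x y q 4) := ((mem_NQ_iff C).1 b.2).1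
    have hz := pow_mem hbz o
    rw [hc.mul_pow, hbo, one_mul] at hz
    obtain ⟨m, rfl⟩ := ho
    rw [pow_succ, pow_mul, pow_two, z_mul_z C, one_pow, one_mul] at hz
    have := orderOf_dvd_natCard (⟨_, hz⟩ : D)
    rw [orderOf_mk, C.orderOf_two (show 4 < 64 by norm_num) (by norm_num) (by decide +kernel)] at this
    exact (Nat.not_even_iff_odd.2 hDodd) (even_iff_two_dvd.2 this)
  refine ⟨a, ha, by simpa [inQ] using hap, ?_⟩
  have hn' : n = n ^ (j * (o : ℤ)) * b := by rw [hb, ← zpow_add, add_comm, hij, zpow_one]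
  have hb1 : H.nu b = 1 := H.core ⟨b, H.NQ_le b.2⟩ (hDcore hbD)
  conv_rhs => rw [hn', map_mul, hb1, mul_one]
  exact congrArg H.nu (Subtype.ext ha')

/-- The action of the centraliser of the image of `z` on the three cosets. -/
theorem exists_theta : ∃ θ : centralizer ({H.nu (pe C 4)} : Set Y) →* Equiv.Perm (Fin 3),
    Function.Surjective θ ∧ ∀ (n : NQ C) h, θ ⟨H.nu n, h⟩ = cosetHom K n := by
  have hmem : ∀ n : NQ C, H.nu n ∈ centralizer ({H.nu (pe C 4)} : Set Y) := fun n => by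
    rw [mem_centralizer_singleton_iff, ← map_mul, ← map_mul]
    exact congrArg H.nu (Subtype.ext ((mem_NQ_iff C).1 n.2).1)
  obtain ⟨ν, hν⟩ : ∃ ν : NQ C →* centralizer ({H.nu (pe C 4)} : Set Y),
      ν = H.nu.codRestrict _ hmem := ⟨_, rfl⟩
  have hs : Function.Surjective ν := fun v => by
    obtain ⟨n, hn⟩ := H.exists_of_comm K (mem_centralizer_singleton_iff.1 v.2)
    exact ⟨n, Subtype.ext (by rw [hν]; exact hn)⟩
  have hk : ν.ker ≤ (cosetHom K).ker := fun n hn => MonoidHom.mem_ker.2 (H.ker_le K (by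
    have := congrArg Subtype.val (MonoidHom.mem_ker.1 hn)
    rwa [hν] at this))
  refine ⟨ν.liftOfSurjective hs ⟨cosetHom K, hk⟩, fun p => ?_, fun n h => ?_⟩
  · obtain ⟨n, rfl⟩ := cosetHom_surjective K p
    exact ⟨ν n, MonoidHom.liftOfRightInverse_comp_apply _ _ _ _ _⟩
  · rw [show (⟨H.nu n, h⟩ : centralizer ({H.nu (pe C 4)} : Set Y)) = ν n from
      Subtype.ext (by rw [hν]; rfl)]
    exact MonoidHom.liftOfRightInverse_comp_apply _ _ _ _ _

/-- The image of `Q`. -/
noncomputable def qbar : Subgroup Y := ((parSub C true true false).subgroupOf (NQ C)).map H.nu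

theorem mem_qbar {v : Y} : v ∈ H.qbar ↔ ∃ a < 64, inQ a = true ∧ H.nu (pe C a) = v := by
  constructor
  · rintro ⟨n, ⟨a, ha, hp, ha'⟩, rfl⟩
    exact ⟨a, ha, by simpa [inQ] using hp, congrArg H.nu (Subtype.ext ha')⟩
  · rintro ⟨a, ha, hq, rfl⟩
    exact ⟨pe C a, mem_Q C ha hq, rfl⟩

theorem card_qbar : Nat.card H.qbar = 32 := by
  classical
  let S : Finset ℕ := (Finset.range 64).filter fun a => inQ a = true
  have hS : S.card = 32 := by decide +kernel
  rw [← hS, ← Nat.card_eq_finsetCard]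
  refine (Nat.card_congr (Equiv.ofBijective (fun a : S => (⟨H.nu (pe C a), H.mem_qbar.2
    ⟨a, Finset.mem_range.1 (Finset.mem_filter.1 a.2).1, (Finset.mem_filter.1 a.2).2, rfl⟩⟩ :
      H.qbar)) ⟨fun a b h => ?_, fun v => ?_⟩)).symm
  · exact Subtype.ext (H.inj_pe (Finset.mem_range.1 (Finset.mem_filter.1 a.2).1)
      (Finset.mem_range.1 (Finset.mem_filter.1 b.2).1) (congrArg Subtype.val h))
  · obtain ⟨a, ha, hq, e⟩ := H.mem_qbar.1 v.2
    exact ⟨⟨a, Finset.mem_filter.2 ⟨Finset.mem_range.2 ha, hq⟩⟩, Subtype.ext e⟩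

theorem isExtraspecial_qbar : Cfsg.IsExtraspecial 2 H.qbar := by
  haveI : Fact (Nat.Prime 2) := ⟨Nat.prime_two⟩
  obtain ⟨-, -, -, -, h4q, h8q, -, -, -, h44⟩ := table_34
  have hsq := H.orderOf_pe (show 4 < 64 by norm_num) (by norm_num) h44
  have hsm : H.nu (pe C 4) ∈ H.qbar := H.mem_qbar.2 ⟨4, by norm_num, h4q, rfl⟩
  have hZ : ∀ w : H.qbar, w ∈ (zpowers (H.nu (pe C 4))).subgroupOf H.qbar ↔
      (w : Y) = 1 ∨ (w : Y) = H.nu (pe C 4) := fun w => by
    rw [mem_subgroupOf]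
    refine ⟨fun hw => CfsgLib.InvChar.M12C.eq_one_or_of_mem_zpowers
      (by rw [← pow_two, ← hsq, pow_orderOf_eq_one]) hw, ?_⟩
    rintro (h | h) <;> rw [h]
    · exact one_mem _
    · exact mem_zpowers _
  refine CfsgLib.Coprime.isExtraspecial_of_central (IsPGroup.of_card (n := 5)
    (by rw [H.card_qbar]; norm_num)) ((zpowers (H.nu (pe C 4))).subgroupOf H.qbar) ?_ ?_ ?_ ?_ ?_
  · rw [Nat.card_congr (subgroupOfEquivOfLe (zpowers_le.2 hsm)).toEquiv, Nat.card_zpowers, hsq]
  · ext w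
    obtain ⟨a, ha, hq, e⟩ := H.mem_qbar.1 w.2
    rw [hZ, mem_center_iff]
    constructor
    · intro h
      rcases table_centerQ a ha hq (fun b hb hbq => H.comm_pe ha hb (by
        rw [e]
        exact (congrArg Subtype.val (h ⟨_, H.mem_qbar.2 ⟨b, hb, hbq, rfl⟩⟩)).symm)) with rfl | rfl
      · exact Or.inl (e.symm.trans H.nu_pe_one)
      · exact Or.inr e.symm
    · intro h v
      obtain ⟨b, hb, -, e'⟩ := H.mem_qbar.1 v.2
      refine Subtype.ext ?_
      rw [Subgroup.coe_mul, Subgroup.coe_mul, ← e']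
      rcases h with h | h <;> rw [h]
      · simp
      · rw [H.nu_mul, H.nu_mul]
        exact congrArg (fun k => H.nu (pe C k))
          (central_four 0 (by norm_num) 0 (by norm_num) 0 (by norm_num) b hb)
  · intro v w
    obtain ⟨a, ha, hq, e⟩ := H.mem_qbar.1 v.2
    obtain ⟨b, hb, hbq, e'⟩ := H.mem_qbar.1 w.2
    rw [hZ]
    simp only [commutatorElement_def, Subgroup.coe_mul, Subgroup.coe_inv, ← e, ← e']
    rcases comm_z a ha b hb hq hbq with h | h
    · left
      rw [H.nu_mul a b, show mul0 a b = mul0 b a from h, ← H.nu_mul b a]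
      group
    · right
      have hc : H.nu (pe C (mul0 b a)) * H.nu (pe C 4) = H.nu (pe C 4) * H.nu (pe C (mul0 b a)) := by
        rw [H.nu_mul, H.nu_mul]
        exact congrArg (fun k => H.nu (pe C k))
          (central_four 0 (by norm_num) 0 (by norm_num) 0 (by norm_num) _ (mul_lt hb))
      rw [H.nu_mul a b, show mul0 a b = mul0 (mul0 b a) 4 from h, ← H.nu_mul (mul0 b a) 4, hc,
        ← H.nu_mul b a]
      group
  · intro w
    obtain ⟨a, ha, hq, e⟩ := H.mem_qbar.1 w.2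
    rw [hZ, Subgroup.coe_pow, ← e, pow_two, H.nu_mul]
    rcases q_sq a ha hq with h | h <;> rw [h]
    · exact Or.inl H.nu_pe_one
    · exact Or.inr rfl
  · intro h
    have h8 := (hZ ⟨_, H.mem_qbar.2 ⟨8, by norm_num, h8q, rfl⟩⟩).1 (by rw [h]; exact mem_top _)
    rcases h8 with h | h
    · exact absurd (H.inj_pe (by norm_num) (by norm_num) (h.trans H.nu_pe_one.symm)) (by norm_num)
    · exact absurd (H.inj_pe (by norm_num) (by norm_num) h) (by norm_num)

set_option linter.unusedVariables false in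
/-- The order of the centraliser and the conclusion of the recognition theorem. -/
theorem recognise (K : Classes C) : Nat.card (centralizer ({H.nu (pe C 4)} : Set Y)) = 192 ∧
    ((∃ (N : Subgroup Y) (hN : N.Normal), IsMulCommutative N ∧ (∀ n ∈ N, n ^ 2 = 1) ∧
        Nat.card N = 8 ∧
        Nonempty (Y ⧸ N ≃* Matrix.ProjectiveSpecialLinearGroup (Fin 3) (ZMod 2))) ∨
      Cfsg.Spor.IsoM12 Y) := by
  classical
  haveI : Fact (Nat.Prime 2) := ⟨Nat.prime_two⟩
  haveI : Fact (Nat.Prime 3) := ⟨Nat.prime_three⟩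
  obtain ⟨-, -, -, -, h4q, h8q, -, -, -, h44⟩ := table_34
  obtain ⟨s, hs⟩ : ∃ s, s = H.nu (pe C 4) := ⟨_, rfl⟩
  obtain ⟨θ, hθ, hθn⟩ := H.exists_theta K
  have hQL : H.qbar ≤ centralizer ({H.nu (pe C 4)} : Set Y) := fun v hv => by
    obtain ⟨a, ha, -, rfl⟩ := H.mem_qbar.1 hv
    rw [mem_centralizer_singleton_iff, H.nu_mul, H.nu_mul]
    exact congrArg (fun k => H.nu (pe C k))
      (central_four 0 (by norm_num) 0 (by norm_num) 0 (by norm_num) a ha)
  have hker : θ.ker = H.qbar.subgroupOf (centralizer ({H.nu (pe C 4)} : Set Y)) := by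
    ext v
    obtain ⟨v, hv⟩ := v
    rw [MonoidHom.mem_ker, mem_subgroupOf]
    obtain ⟨n, hn⟩ := H.exists_of_comm K (mem_centralizer_singleton_iff.1 hv)
    subst hn
    rw [hθn n hv, H.mem_qbar]
    constructor
    · exact fun h => H.exists_of_ker K h
    · rintro ⟨a, ha, hq, e⟩
      have h1 := H.ker_le K (n := (pe C a)⁻¹ * n) (by rw [map_mul, map_inv, e, inv_mul_cancel])
      rw [map_mul, map_inv, show cosetHom K (pe C a) = 1 from (cosetHom_P K ha).trans (if_pos hq),
        inv_one, one_mul] at h1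
      exact h1
  have hker2 : IsPGroup 2 θ.ker := by
    rw [hker]
    exact IsPGroup.of_card (n := 5) (by
      rw [Nat.card_congr (subgroupOfEquivOfLe hQL).toEquiv, H.card_qbar]; norm_num)
  have hcore : Cfsg.pCore 2 (centralizer ({H.nu (pe C 4)} : Set Y)) = θ.ker := by
    refine le_antisymm (fun v hv => ?_) (CfsgLib.Solvable.le_pCore θ.normal_ker hker2)
    have hn : (Cfsg.pCore 2 (centralizer ({H.nu (pe C 4)} : Set Y))).Normal := inferInstance
    have h := perm_three_two (hn.map θ hθ) ((CfsgLib.Solvable.pCore_isPGroup 2).map θ)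
    rw [MonoidHom.mem_ker, ← mem_bot, ← h]
    exact mem_map_of_mem θ hv
  have hcard : Nat.card (centralizer ({H.nu (pe C 4)} : Set Y)) = 192 := by
    rw [← θ.ker.card_mul_index, index_ker, MonoidHom.range_eq_top.2 hθ, card_top, hker,
      Nat.card_congr (subgroupOfEquivOfLe hQL).toEquiv, H.card_qbar, Nat.card_perm, Nat.card_fin]
    rfl
  refine ⟨hcard, ?_⟩
  obtain ⟨e⟩ : Nonempty (centralizer ({H.nu (pe C 4)} : Set Y) ⧸
      Cfsg.pCore 2 (centralizer ({H.nu (pe C 4)} : Set Y)) ≃* Equiv.Perm (Fin 3)) :=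
    ⟨(QuotientGroup.quotientMulEquivOfEq hcore).trans
      (QuotientGroup.quotientKerEquivOfSurjective θ hθ)⟩
  obtain ⟨X⟩ : Nonempty (Sylow 3 (centralizer ({H.nu (pe C 4)} : Set Y))) := inferInstance
  have hX : H.qbar ⊓ centralizer (((X : Subgroup (centralizer ({H.nu (pe C 4)} : Set Y))).map
      (centralizer ({H.nu (pe C 4)} : Set Y)).subtype : Subgroup Y) : Set Y) =
      zpowers (H.nu (pe C 4)) := by
    refine le_antisymm ?_ (zpowers_le.2 ⟨H.mem_qbar.2 ⟨4, by norm_num, h4q, rfl⟩, ?_⟩)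
    · rintro v ⟨hvQ, hvX⟩
      obtain ⟨a, ha, hq, rfl⟩ := H.mem_qbar.1 hvQ
      have hXc : 1 < Nat.card (X : Subgroup (centralizer ({H.nu (pe C 4)} : Set Y))) := by
        rw [X.card_eq_multiplicity, hcard,
          show (192 : ℕ).factorization 3 = 1 by
            rw [Nat.factorization_def _ Nat.prime_three, show (192 : ℕ) = 3 ^ 1 * 64 by norm_num,
              padicValNat.mul (by norm_num) (by norm_num), padicValNat.prime_pow,
              padicValNat.eq_zero_of_not_dvd (by norm_num)]]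
        norm_num
      haveI := Finite.one_lt_card_iff_nontrivial.1 hXc
      obtain ⟨w, hw⟩ := exists_ne (1 : (X : Subgroup (centralizer ({H.nu (pe C 4)} : Set Y))))
      obtain ⟨n, hn⟩ := H.exists_of_comm K (mem_centralizer_singleton_iff.1 w.1.2)
      obtain ⟨k, hk⟩ := X.2 w
      have hk' : (w : centralizer ({H.nu (pe C 4)} : Set Y)) ^ 3 ^ k = 1 := congrArg Subtype.val hk
      have hθw : θ w = cosetHom K n := by
        rw [← hθn n (by rw [hn]; exact w.1.2)]
        exact congrArg θ (Subtype.ext hn.symm)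
      have hne : cosetHom K n ≠ 1 := fun h => hw (by
        obtain ⟨j, hj⟩ := hker2 ⟨w, MonoidHom.mem_ker.2 (hθw.trans h)⟩
        refine Subtype.ext (orderOf_eq_one_iff.1 (Nat.eq_one_of_dvd_coprimes
          (Nat.coprime_pow_primes k j Nat.prime_three Nat.prime_two (by norm_num))
          (orderOf_dvd_of_pow_eq_one hk') (orderOf_dvd_of_pow_eq_one (congrArg Subtype.val hj)))))
      have hsign : Equiv.Perm.sign (cosetHom K n) = 1 := by
        have h1 : Equiv.Perm.sign (cosetHom K n) ^ 3 ^ k = 1 := by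
          rw [← map_pow, ← hθw, ← map_pow θ, hk', map_one, map_one]
        rwa [Int.units_pow_eq_pow_mod_two, Nat.pow_mod, show 3 % 2 = 1 from rfl, one_pow,
          show 1 % 2 = 1 from rfl, pow_one] at h1
      have hc : H.nu n * H.nu (pe C a) = H.nu (pe C a) * H.nu n := by
        rw [hn]
        exact mem_centralizer_iff.1 hvX _ ⟨_, w.2, rfl⟩
      have hna' : (n : G) * el f x y q a * (n : G)⁻¹ ∈ parSub C true true false :=
        (mem_normalizer_iff.1 ((mem_NQ_iff C).1 n.2).2 _).1 (mem_Q C ha hq)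
      have hfix := H.inj_P (m := n * pe C a * n⁻¹) (n := pe C a) (parSub_le C _ _ _ hna') (C.mem a)
        (by rw [map_mul, map_mul, map_inv, hc, mul_inv_cancel_right])
      by_cases h0 : a = 0
      · rw [h0, H.nu_pe_one]; exact one_mem _
      by_cases h4 : a = 4
      · rw [h4]; exact mem_zpowers _
      exact absurd (ker_of_fix K hsign ha hq h0 h4 (Or.inl (congrArg Subtype.val hfix))) hne
    · refine mem_centralizer_iff.2 ?_
      rintro _ ⟨w, -, rfl⟩
      exact mem_centralizer_singleton_iff.1 w.2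
  obtain ⟨g, hgM, hg⟩ := H.fus
  have hnwc : ∃ v : Y, v * H.nu (pe C 4) * v⁻¹ ∈ H.qbar ∧ v * H.nu (pe C 4) * v⁻¹ ≠ H.nu (pe C 4) := by
    have e : φ ⟨g, hgM⟩ * H.nu (pe C 4) * (φ ⟨g, hgM⟩)⁻¹ = H.nu (pe C 8) := by
      rw [H.nu_apply, H.nu_apply, ← map_inv, ← map_mul, ← map_mul]
      exact congrArg φ (Subtype.ext hg)
    refine ⟨φ ⟨g, hgM⟩, ?_, ?_⟩ <;> rw [e]
    · exact H.mem_qbar.2 ⟨8, by norm_num, h8q, rfl⟩
    · exact fun h => absurd (H.inj_pe (by norm_num) (by norm_num) h) (by norm_num)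
  rcases Cfsg.Agent.S3344.result (H.nu (pe C 4)) (H.orderOf_pe (by norm_num) (by norm_num) h44)
    (centralizer ({H.nu (pe C 4)} : Set Y)) rfl H.qbar
    (by rw [hcore, hker, subgroupOf_map_subtype, inf_eq_left.2 hQL])
    H.isExtraspecial_qbar H.card_qbar e X hX hnwc with h | ⟨⟨e8⟩⟩ | ⟨⟨e9⟩⟩ | h
  · exact Or.inl h
  · exact (not_alternating (by norm_num) e8 H.orderOf_one_eight).elim
  · exact (not_alternating (by norm_num) e9 H.orderOf_one_eight).elim
  · exact Or.inr h

/-- A normal 2-subgroup lies in the image of `P`. -/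
theorem normal_le_image {N : Subgroup Y} (hN : N.Normal) (hN2 : IsPGroup 2 N) {v : Y} (hv : v ∈ N) :
    ∃ a < 64, H.nu (pe C a) = v := by
  haveI : Fact (Nat.Prime 2) := ⟨Nat.prime_two⟩
  obtain ⟨S, hS⟩ : ∃ S : Sylow 2 Y, (S : Subgroup Y) = ((P : Subgroup G).subgroupOf M).map φ :=
    ⟨(P.subtype H.P_le).mapSurjective H.sur, rfl⟩
  haveI := hN
  have h := S.3 (S.2.to_sup_of_normal_right hN2) le_sup_left
  have hvS : v ∈ (S : Subgroup Y) := by rw [← h]; exact mem_sup_right hv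
  rw [hS] at hvS
  obtain ⟨⟨w, hw⟩, hwP, rfl⟩ := hvS
  obtain ⟨a, ha, rfl⟩ := C.surj w hwP
  exact ⟨a, ha, rfl⟩

/-- No elementary normal subgroup of order 8 in the presence of the second fusion. -/
theorem not_normal_eight (n : M) (hn : (n : G) * el f x y q 34 = el f x y q 34 * (n : G))
    (hnz : (n : G) * el f x y q 4 * (n : G)⁻¹ = el f x y q 8) {N : Subgroup Y} (hN : N.Normal)
    (hNc : IsMulCommutative N) (hN2 : ∀ v ∈ N, v ^ 2 = 1) (hN8 : Nat.card N = 8)
    (e : Y ⧸ N ≃* Matrix.ProjectiveSpecialLinearGroup (Fin 3) (ZMod 2)) (K : Classes C) : False := by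
  classical
  haveI : Fact (Nat.Prime 2) := ⟨Nat.prime_two⟩
  haveI := hN
  obtain ⟨e3, e42, hne32, hne36, -⟩ := table_34
  have hN' : IsPGroup 2 N := IsPGroup.of_card (n := 3) (by rw [hN8]; norm_num)
  have hcom : ∀ v ∈ N, ∀ w ∈ N, v * w = w * v := fun v hv w hw =>
    congrArg Subtype.val (hNc.is_comm.comm (⟨v, hv⟩ : N) ⟨w, hw⟩)
  obtain ⟨t, ht⟩ : ∃ t, t = H.nu (pe C 34) := ⟨_, rfl⟩
  obtain ⟨s, hs⟩ : ∃ s, s = H.nu (pe C 4) := ⟨_, rfl⟩
  obtain ⟨x8, hx8⟩ : ∃ x8, x8 = H.nu (pe C 8) := ⟨_, rfl⟩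
  obtain ⟨m, hm⟩ : ∃ m, m = φ n := ⟨_, rfl⟩
  have hmt : m * t * m⁻¹ = t := by
    rw [hm, ht, H.nu_apply, ← map_inv, ← map_mul, ← map_mul]
    exact congrArg φ (Subtype.ext (mul_inv_eq_iff_eq_mul.2 hn))
  have hms : m * s * m⁻¹ = x8 := by
    rw [hm, hs, hx8, H.nu_apply, H.nu_apply, ← map_inv, ← map_mul, ← map_mul]
    exact congrArg φ (Subtype.ext hnz)
  have hJ : ∀ v ∈ N, v * t = t * v ∨ v * t = t * v * s := by
    intro v hv
    obtain ⟨a, ha, rfl⟩ := H.normal_le_image hN hN' hv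
    have h2 : mul0 a a = 0 := H.inj_pe (mul_lt ha) (by norm_num) (by
      rw [← H.nu_mul, H.nu_pe_one, ← pow_two, hN2 _ hv])
    have hJ := table_J a ha
    simp only [Bool.or_eq_true, List.any_eq_true, List.mem_range, Bool.and_eq_true, beq_iff_eq,
      bne_iff_ne, ne_eq, Bool.not_eq_true', beq_eq_false_iff_ne, h2, not_true, or_false] at hJ
    rcases hJ with hJ | ⟨k, hk, b, hb, hkab, hab⟩
    · rw [ht, hs]
      rcases table_comm34 a (List.contains_iff_mem.1 hJ) with h | h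
      · exact Or.inl (by rw [H.nu_mul, H.nu_mul, h])
      · exact Or.inr (by rw [H.nu_mul, H.nu_mul, H.nu_mul, h])
    · exfalso
      have hb' : H.nu (pe C b) ∈ N := by
        have := hN.conj_mem _ hv (H.nu (pe C k))
        rwa [H.nu_mul, hkab, ← H.nu_mul, mul_inv_cancel_right] at this
      exact hab (H.comm_pe ha hb (hcom _ hv _ hb'))
  -- `t` centralises `N`
  have htN : t ∈ centralizer (N : Set Y) := by
    refine mem_centralizer_iff.2 fun v hv => ?_
    have hv' : m⁻¹ * v * m ∈ N := by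
      have := hN.conj_mem v hv m⁻¹
      rwa [inv_inv] at this
    rcases hJ _ hv' with h | h
    · have h1 : m * (m⁻¹ * v * m * t) * m⁻¹ = m * (t * (m⁻¹ * v * m)) * m⁻¹ := by rw [h]
      rw [show m * (m⁻¹ * v * m * t) * m⁻¹ = v * (m * t * m⁻¹) by group,
        show m * (t * (m⁻¹ * v * m)) * m⁻¹ = (m * t * m⁻¹) * v by group, hmt] at h1
      exact h1
    · exfalso
      have h1 : m * (m⁻¹ * v * m * t) * m⁻¹ = m * (t * (m⁻¹ * v * m) * s) * m⁻¹ := by rw [h]
      rw [show m * (m⁻¹ * v * m * t) * m⁻¹ = v * (m * t * m⁻¹) by group,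
        show m * (t * (m⁻¹ * v * m) * s) * m⁻¹ = (m * t * m⁻¹) * v * (m * s * m⁻¹) by group, hmt,
        hms] at h1
      rcases hJ v hv with h2 | h2 <;> rw [h2] at h1
      · have h3 := mul_eq_left.1 h1.symm
        rw [hx8, ← H.nu_pe_one] at h3
        exact absurd (H.inj_pe (by norm_num) (by norm_num) h3) (by norm_num)
      · have h3 := mul_left_cancel h1
        rw [hx8, hs] at h3
        exact absurd (H.inj_pe (by norm_num) (by norm_num) h3) (by norm_num)
  haveI := CfsgLib.Classical.isSimpleGroup_psl (ι := Fin 3) (F := ZMod 2) (by simp)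
  haveI : IsSimpleGroup (Y ⧸ N) := e.isSimpleGroup
  have hR : (centralizer (N : Set Y)).Normal := inferInstance
  rcases (hR.map (QuotientGroup.mk' N) (QuotientGroup.mk'_surjective N)).eq_bot_or_eq_top with h | h
  · have htN' : t ∈ N := by
      rw [← QuotientGroup.eq_one_iff, ← mem_bot, ← h]
      exact mem_map_of_mem (QuotientGroup.mk' N) htN
    have h8 : x8 ∈ N := by
      have h42 : H.nu (pe C 42) ∈ N := by
        rw [ht] at htN'
        have := hN.conj_mem _ htN' (H.nu (pe C 3))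
        rwa [H.nu_mul, e3, ← H.nu_mul, mul_inv_cancel_right] at this
      rw [hx8, ← e42, ← H.nu_mul, ← ht]
      exact mul_mem htN' h42
    obtain ⟨c, hc⟩ := cosetHom_surjective K (Equiv.swap 0 1)
    have hmv := cosetHom_apply K c 0
    rw [hc] at hmv
    have hw : ∀ w, (c : G) * el f x y q 8 * (c : G)⁻¹ = el f x y q w →
        w < 64 → mul0 w 34 ≠ mul0 34 w → False := by
      intro w hw hw64 hne
      have hwN : H.nu (pe C w) ∈ N := by
        have := hN.conj_mem _ (hx8 ▸ h8) (H.nu c)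
        rw [← map_mul, ← map_inv, ← map_mul] at this
        rwa [show pe C w = c * pe C 8 * c⁻¹ from Subtype.ext hw.symm]
      exact hne (H.comm_pe hw64 (by norm_num) (hcom _ hwN _ (ht ▸ htN')))
    rcases hmv with h' | h'
    · exact hw 32 h' (by norm_num) hne32
    · exact hw 36 (h'.trans (C.toRel.el_mul 32 4)) (by norm_num) hne36
  · have htop : centralizer (N : Set Y) = ⊤ := by
      have h1 : N ≤ centralizer (N : Set Y) := fun v hv =>
        mem_centralizer_iff.2 fun w hw => hcom w hw v hv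
      have h2 := congrArg (Subgroup.comap (QuotientGroup.mk' N)) h
      rwa [comap_map_eq, QuotientGroup.ker_mk', sup_eq_left.2 h1, comap_top] at h2
    have hsub : ∀ v ∈ N, v = 1 ∨ v = s := by
      intro v hv
      obtain ⟨a, ha, rfl⟩ := H.normal_le_image hN hN' hv
      rcases table_center a ha fun b hb => H.comm_pe ha hb (mem_centralizer_iff.1
        (show H.nu (pe C b) ∈ centralizer (N : Set Y) by rw [htop]; exact mem_top _) _ hv) with
        rfl | rfl
      · exact Or.inl H.nu_pe_one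
      · exact Or.inr hs.symm
    have : Nat.card N ≤ Nat.card Bool := Nat.card_le_card_of_injective
      (fun v : N => decide ((v : Y) = 1)) fun v w hvw => by
        simp only [decide_eq_decide] at hvw
        rcases hsub _ v.2 with hv | hv <;> rcases hsub _ w.2 with hw | hw
        · exact Subtype.ext (hv.trans hw.symm)
        · exact Subtype.ext (hv.trans (hvw.1 hv).symm)
        · exact Subtype.ext ((hvw.2 hw).trans hw.symm)
        · exact Subtype.ext (hv.trans hw.symm)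
    rw [hN8, Nat.card_eq_fintype_card, Fintype.card_bool] at this
    omega

end QuotHyp

variable (K : Classes C)

include K in
/-- A simple odd quotient of a subgroup containing the centraliser of `z` is `M12`. -/
theorem isoM12_of_simple (M : Subgroup G) (hC : centralizer ({el f x y q 4} : Set G) ≤ M)
    {Y : Type u} [Group Y] [Finite Y] (φ : M →* Y) (hsur : Function.Surjective φ)
    (hker : Odd (Nat.card φ.ker)) (hcore : ∀ g : M, (g : G) ∈ cenCore (el f x y q 4) → φ g = 1)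
    (hfus : ∃ g ∈ M, g * el f x y q 4 * g⁻¹ = el f x y q 8) [IsSimpleGroup Y] :
    Cfsg.Spor.IsoM12 Y := by
  have H : QuotHyp C M φ := ⟨hC, hsur, hker, hcore, hfus⟩
  refine (H.recognise K).2.resolve_left ?_
  rintro ⟨N, hN, -, -, hN8, -⟩
  rcases hN.eq_bot_or_eq_top with rfl | rfl
  · rw [card_bot] at hN8; omega
  · rw [card_top] at hN8
    have h := Nat.card_le_card_of_injective (fun a : Fin 64 => H.nu (pe C a))
      fun a b hab => Fin.ext (H.inj_pe a.2 b.2 hab)
    rw [Nat.card_fin, hN8] at h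
    omega

include K in
/-- With the second fusion, five divides the order of the centraliser of the image of `t`. -/
theorem five_dvd_of_fusion (M : Subgroup G) (hC : centralizer ({el f x y q 4} : Set G) ≤ M)
    {Y : Type u} [Group Y] [Finite Y] (φ : M →* Y) (hsur : Function.Surjective φ)
    (hker : Odd (Nat.card φ.ker)) (hcore : ∀ g : M, (g : G) ∈ cenCore (el f x y q 4) → φ g = 1)
    (hfus : ∃ g ∈ M, g * el f x y q 4 * g⁻¹ = el f x y q 8)
    (n : M) (hn : (n : G) * el f x y q 34 = el f x y q 34 * (n : G))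
    (hnz : (n : G) * el f x y q 4 * (n : G)⁻¹ = el f x y q 8) (h34 : el f x y q 34 ∈ M) :
    5 ∣ Nat.card (centralizer ({φ ⟨el f x y q 34, h34⟩} : Set Y)) := by
  have H : QuotHyp C M φ := ⟨hC, hsur, hker, hcore, hfus⟩
  obtain ⟨-, -, -, -, -, -, h34sq, -, -, h44⟩ := table_34
  obtain ⟨hcard, h | ⟨⟨e⟩⟩⟩ := H.recognise K
  · obtain ⟨N, hN, hNc, hN2, hN8, ⟨e⟩⟩ := h
    exact (H.not_normal_eight n hn hnz hN hNc hN2 hN8 e K).elim
  · refine five_dvd_of_isoM12 e (H.orderOf_pe (a := 4) (by norm_num) (by norm_num) h44)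
      (H.orderOf_pe (a := 34) (by norm_num) (by norm_num) h34sq) (fun hc => ?_)
      (by rw [hcard]; norm_num)
    obtain ⟨v, hv⟩ := isConj_iff.1 hc.symm
    obtain ⟨g, rfl⟩ := H.sur v
    obtain ⟨d, -, hd⟩ := H.conj_lift (a := pe C 34) (g := g)
      (C.orderOf_two (show 34 < 64 by norm_num) (by norm_num) h34sq) hv
    exact K.ha (K.hb.symm.trans (isConj_iff.2 ⟨_, hd⟩))

end CfsgLib.Recog.M12Eight
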