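import Cfsg.Agent.Lib.SylAltEight.Criterion

/-!
An elementary abelian Sylow `2`-subgroup of rank at least three on which the normaliser acts semiregularly and
not transitively is normal modulo the odd core.
-/

set_option autoImplicit false

namespace CfsgLib.Recog.M12Eight

open Subgroup CfsgLib.SylAltEight

universe u

variable {X : Type u} [Group X] [Finite X]

/-- The centralizer of a nontrivial element of the Sylow subgroup is the core times the Sylow subgroup. -/
theorem semireg_centralizer (S : Sylow 2 X) (hcom : ∀ a ∈ (S : Subgroup X), ∀ b ∈ (S : Subgroup X), a * b = b * a)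
    (hsemi : ∀ n ∈ normalizer ((S : Subgroup X) : Set X), ∀ s ∈ (S : Subgroup X), s ≠ 1 → n * s = s * n →
      ∀ t ∈ (S : Subgroup X), n * t = t * n)
    {v : X} (hv : v ∈ (S : Subgroup X)) (hv1 : v ≠ 1) :
    (∀ x ∈ centralizer ({v} : Set X), ∃ o ∈ Cfsg.centralizerPPrimeCore 2 v, ∃ s ∈ (S : Subgroup X), x = o * s) ∧
      ∀ x ∈ centralizer ({v} : Set X), Odd (orderOf x) → x ∈ Cfsg.centralizerPPrimeCore 2 v := by
  haveI : Fact (Nat.Prime 2) := ⟨Nat.prime_two⟩
  let C := centralizer ({v} : Set X)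
  have hle : (S : Subgroup X) ≤ C := fun s hs => mem_centralizer_singleton_iff.2 (hcom s hs v hv)
  obtain ⟨P, hPS⟩ : ∃ P : Sylow 2 C, (P : Subgroup C) = (S : Subgroup X).subgroupOf C := ⟨S.subtype hle, rfl⟩
  have hPmem : ∀ c : C, c ∈ (P : Subgroup C) ↔ (c : X) ∈ (S : Subgroup X) := fun c => by
    rw [hPS, mem_subgroupOf]
  have hP : normalizer ((P : Subgroup C) : Set C) ≤ centralizer ((P : Subgroup C) : Set C) := by
    intro n hn
    rw [mem_centralizer_iff]
    intro t ht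
    refine Subtype.ext ?_
    have hn' : (n : X) ∈ normalizer ((S : Subgroup X) : Set X) :=
      Invol.mem_normalizer_iff_of_finite fun s hs => (hPmem _).1 ((mem_normalizer_iff.1 hn ⟨s, hle hs⟩).1 ((hPmem _).2 hs))
    exact (hsemi n hn' v hv hv1 (mem_centralizer_singleton_iff.1 n.2) t ((hPmem t).1 ht)).symm
  obtain ⟨K, hKn, hKo, hKP⟩ : ∃ K : Subgroup C, K.Normal ∧ ¬ 2 ∣ Nat.card K ∧
      Subgroup.IsComplement' K (P : Subgroup C) :=
    ⟨_, MonoidHom.normal_ker _, MonoidHom.not_dvd_card_ker_transferSylow P hP,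
      MonoidHom.ker_transferSylow_isComplement' P hP⟩
  have hKc : K.map C.subtype ≤ Cfsg.centralizerPPrimeCore 2 v := by
    refine le_core (map_subtype_le K) ?_ ?_
    · intro c hc
      refine Invol.mem_normalizer_iff_of_finite ?_
      rintro _ ⟨k, hk, rfl⟩
      exact ⟨⟨c, hc⟩ * k * ⟨c, hc⟩⁻¹, hKn.conj_mem k hk _, rfl⟩
    · rw [card_map_of_injective C.subtype_injective]
      exact not_two_dvd_iff.1 hKo
  refine ⟨fun x hx => ?_, fun x hx hodd => hKc ⟨⟨x, hx⟩, ?_, rfl⟩⟩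
  · obtain ⟨⟨k, p⟩, hkp⟩ := hKP.2 ⟨x, hx⟩
    exact ⟨(k : C), hKc ⟨_, k.2, rfl⟩, (p : C), (hPmem _).1 p.2, (congrArg Subtype.val hkp).symm⟩
  · haveI := hKn
    rw [SetLike.mem_coe, ← QuotientGroup.eq_one_iff, ← orderOf_eq_one_iff]
    obtain ⟨k, hk⟩ := IsPGroup.iff_card.1 P.isPGroup'
    have h1 : orderOf ((⟨x, hx⟩ : C) : C ⧸ K) ∣ orderOf x := by
      refine (orderOf_map_dvd (QuotientGroup.mk' K) _).trans ?_
      rw [Subgroup.orderOf_mk]
    have h2 : orderOf ((⟨x, hx⟩ : C) : C ⧸ K) ∣ 2 ^ k := by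
      rw [← hk, ← hKP.symm.index_eq_card, index_eq_card]
      exact orderOf_dvd_natCard _
    exact Nat.eq_one_of_dvd_coprimes (Nat.Coprime.pow_right k (Nat.coprime_two_right.2 hodd)) h1 h2

/-- **A semiregular, intransitive automiser gives a normal Sylow subgroup modulo the odd core.** -/
theorem semireg_frattini (S : Sylow 2 X) (hexp : ∀ a ∈ (S : Subgroup X), a ^ 2 = 1)
    (h8 : 8 ≤ Nat.card (S : Subgroup X))
    (hsemi : ∀ n ∈ normalizer ((S : Subgroup X) : Set X), ∀ s ∈ (S : Subgroup X), s ≠ 1 → n * s = s * n →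
      ∀ t ∈ (S : Subgroup X), n * t = t * n)
    {s t : X} (hs : s ∈ (S : Subgroup X)) (ht : t ∈ (S : Subgroup X)) (hs1 : s ≠ 1) (ht1 : t ≠ 1)
    (hne : ∀ n ∈ normalizer ((S : Subgroup X) : Set X), n * s * n⁻¹ ≠ t) (g : X) :
    ∃ o ∈ Cfsg.oddCore X, ∃ n ∈ normalizer ((S : Subgroup X) : Set X), g = o * n := by
  haveI : Fact (Nat.Prime 2) := ⟨Nat.prime_two⟩
  have hinv : ∀ a ∈ (S : Subgroup X), a⁻¹ = a := fun a ha =>
    inv_eq_of_mul_eq_one_left (by rw [← sq, hexp a ha])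
  have hcom : ∀ a ∈ (S : Subgroup X), ∀ b ∈ (S : Subgroup X), a * b = b * a := fun a ha b hb => by
    have h := hinv _ (mul_mem ha hb)
    rw [mul_inv_rev, hinv a ha, hinv b hb] at h
    exact h.symm
  have hord : ∀ a ∈ (S : Subgroup X), a ≠ 1 → orderOf a = 2 := fun a ha ha1 =>
    orderOf_eq_prime (hexp a ha) ha1
  have hnc : ¬ IsConj s t := fun h => by
    obtain ⟨c, hc⟩ := isConj_iff.1 h
    haveI : IsMulCommutative (S : Subgroup X) := ⟨⟨fun a b => Subtype.ext (hcom a a.2 b b.2)⟩⟩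
    obtain ⟨n, hn, he⟩ := S.conj_eq_normalizer_conj_of_mem s c⁻¹ hs (by rw [inv_inv, hc]; exact ht)
    rw [inv_inv, hc] at he
    exact hne n⁻¹ (inv_mem hn) (by rw [inv_inv, ← he])
  have hC := fun v (hv : v ∈ (S : Subgroup X)) (hv1 : v ≠ 1) => semireg_centralizer S hcom hsemi hv hv1
  have hbal : Balanced (S : Subgroup X) := fun a ha ha1 b hb hb1 x hx =>
    (hC b hb hb1).2 x hx.2 (odd_orderOf_of_mem (odd_core a) hx.1)
  let W := coreClosure (S : Subgroup X)
  have hWodd : Odd (Nat.card W) := odd_coreClosure hcom hexp (by norm_num; exact h8) hbal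
  let M := normalizer (W : Set X)
  have hNM : normalizer ((S : Subgroup X) : Set X) ≤ M := normalizer_le_normalizer_coreClosure _
  have hM : M = ⊤ := by
    refine eq_top_of_centralizers S (le_normalizer.trans hNM) hNM (fun v hv hvo x hx => ?_)
      (hord s hs hs1) (hord t ht ht1) hnc
    have hv1 : v ≠ 1 := fun e => by rw [e, orderOf_one] at hvo; omega
    obtain ⟨o, ho, y, hy, rfl⟩ := (hC v hv hv1).1 x hx
    exact mul_mem (le_normalizer (core_le_closure hv hv1 ho)) (hNM (le_normalizer hy))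
  have hW : W.Normal := normalizer_eq_top_iff.1 hM
  have hWO : W ≤ Cfsg.oddCore X := Invol.le_oddCore hW hWodd
  haveI : (Cfsg.oddCore X).Normal := CfsgLib.Solvable.pPrimeCore_normal 2 X
  have htop : Cfsg.oddCore X ⊔ normalizer ((S : Subgroup X) : Set X) = ⊤ := by
    refine eq_top_of_centralizers S (le_normalizer.trans le_sup_right) le_sup_right (fun v hv hvo x hx => ?_)
      (hord s hs hs1) (hord t ht ht1) hnc
    have hv1 : v ≠ 1 := fun e => by rw [e, orderOf_one] at hvo; omega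
    obtain ⟨o, ho, y, hy, rfl⟩ := (hC v hv hv1).1 x hx
    exact mul_mem (mem_sup_left (hWO (core_le_closure hv hv1 ho))) (mem_sup_right (le_normalizer hy))
  have hg : g ∈ Cfsg.oddCore X ⊔ normalizer ((S : Subgroup X) : Set X) := by rw [htop]; exact mem_top g
  rw [← SetLike.mem_coe, Subgroup.normal_mul] at hg
  obtain ⟨o, ho, n, hn, rfl⟩ := hg
  exact ⟨o, ho, n, hn, rfl⟩

end CfsgLib.Recog.M12Eight
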