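import Cfsg.Agent.Lib.Recog.M12Eight.Core
import Cfsg.Agent.Lib.Recog.M12Eight.Semiregular

/-!
The statement used by the core argument holds.
-/

set_option autoImplicit false

namespace CfsgLib.Recog.M12Eight

universe u

/-- `SemiregularStmt` holds. -/
theorem semiregularStmt : SemiregularStmt.{u} := by
  intro X _ _ S hexp h8 hsemi hst g
  obtain ⟨s, hs, t, ht, hs1, ht1, hne⟩ := hst
  exact semireg_frattini S (fun a ha => by rw [sq, hexp a ha]) h8 hsemi hs ht hs1 ht1 hne g

end CfsgLib.Recog.M12Eight
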