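import Cfsg.Agent.Lib.Recog.M12Eight.Coord
import Mathlib.GroupTheory.IndexNormal
import Mathlib.Tactic.IntervalCases
import Mathlib.Tactic.Linarith

/-!
# A group of order 64 with a self-centralising element of order 8 normalised by its automorphisms
-/

set_option autoImplicit false

namespace CfsgLib.Recog.M12Eight

open Subgroup

universe u

variable {G : Type u} [Group G] {f : G}

theorem pow_eq_pow_iff8 (hf : orderOf f = 8) {i j : ℕ} : f ^ i = f ^ j ↔ i % 8 = j % 8 := by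
  rw [pow_inj_mod, hf]

theorem mem_zpowers_iff8 (hf : orderOf f = 8) {g : G} :
    g ∈ Subgroup.zpowers f ↔ ∃ i < 8, f ^ i = g := by
  classical
  have hfin : IsOfFinOrder f := orderOf_pos_iff.1 (by omega)
  rw [hfin.mem_zpowers_iff_mem_range_orderOf, Finset.mem_image, hf]
  simp

theorem conj_pow_of {n : G} {k : ℕ} (h : n * f = f ^ k * n) (j : ℕ) :
    n * f ^ j = f ^ (k * j) * n := by
  induction j with
  | zero => simp
  | succ i ih =>
    rw [pow_succ, ← mul_assoc, ih, mul_assoc, h, ← mul_assoc, ← pow_add,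
      show k * i + k = k * (i + 1) by ring]

theorem odd_of_conj (hf : orderOf f = 8) {g : G} {k : ℕ} (hk : g * f = f ^ k * g) :
    k % 2 = 1 := by
  by_contra hcon
  have h := conj_pow_of hk 4
  rw [(pow_eq_pow_iff8 hf).2 (show (k * 4) % 8 = 0 % 8 by omega), pow_zero, one_mul] at h
  have h' : f ^ 4 = f ^ 0 := by rw [pow_zero]; exact mul_left_cancel (h.trans (mul_one g).symm)
  exact absurd ((pow_eq_pow_iff8 hf).1 h') (by norm_num)

theorem sq_mod_eight {k : ℕ} (hk : k % 2 = 1) : (k * k) % 8 = 1 % 8 := by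
  rw [Nat.mul_mod]
  rcases (show k % 8 = 1 ∨ k % 8 = 3 ∨ k % 8 = 5 ∨ k % 8 = 7 by omega) with h | h | h | h <;>
    rw [h]

/-- The elements mapping `f` to a power of itself. -/
def powConj (hf : orderOf f = 8) : Subgroup G where
  carrier := {g | ∃ k, g * f = f ^ k * g}
  one_mem' := ⟨1, by simp⟩
  mul_mem' := by
    rintro g h ⟨k, hk⟩ ⟨l, hl⟩
    exact ⟨k * l, by rw [mul_assoc, hl, ← mul_assoc, conj_pow_of hk, mul_assoc]⟩
  inv_mem' := by
    rintro g ⟨k, hk⟩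
    refine ⟨k, ?_⟩
    have hk2 : g * f ^ k = f * g := by
      rw [conj_pow_of hk, (pow_eq_pow_iff8 hf).2 (sq_mod_eight (odd_of_conj hf hk)), pow_one]
    rw [inv_mul_eq_iff_eq_mul, ← mul_assoc, hk2, mul_inv_cancel_right]

theorem mem_powConj (hf : orderOf f = 8) {g : G} :
    g ∈ powConj hf ↔ ∃ k, g * f = f ^ k * g := Iff.rfl

section Basic

variable {x y : G}

theorem act (xf : x * f = f ^ 5 * x) (yf : y * f = f ^ 7 * y) (i a b : ℕ) (ha : a < 2)
    (hb : b < 2) : f ^ i * x ^ a * y ^ b * f =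
      f ^ ((if a = 0 then 1 else 5) * (if b = 0 then 1 else 7)) * (f ^ i * x ^ a * y ^ b) := by
  interval_cases a <;> interval_cases b <;>
    simp only [pow_zero, pow_one, mul_one, one_mul, if_true, if_false, one_ne_zero]
  · exact ((Commute.self_pow f i).symm).eq
  · rw [mul_assoc, yf, ← mul_assoc, ← mul_assoc, ← pow_add, ← pow_add, Nat.add_comm]
  · rw [mul_assoc, xf, ← mul_assoc, ← mul_assoc, ← pow_add, ← pow_add, Nat.add_comm]
  · rw [mul_assoc _ y, yf, ← mul_assoc, mul_assoc (f ^ i) x, conj_pow_of xf]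
    simp only [← mul_assoc, ← pow_add]
    rw [Nat.add_comm]

theorem exps_eq (hf : orderOf f = 8) (xf : x * f = f ^ 5 * x) (yf : y * f = f ^ 7 * y)
    {i a b i' a' b' : ℕ} (ha : a < 2) (hb : b < 2) (ha' : a' < 2) (hb' : b' < 2)
    (h : f ^ i * x ^ a * y ^ b = f ^ i' * x ^ a' * y ^ b') :
    i % 8 = i' % 8 ∧ a = a' ∧ b = b' := by
  have h1 := act xf yf i a b ha hb
  have h2 := act xf yf i' a' b' ha' hb'
  rw [h] at h1
  have h3 := (pow_eq_pow_iff8 hf).1 (mul_right_cancel (h1.symm.trans h2))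
  have hab : a = a' ∧ b = b' := by
    interval_cases a <;> interval_cases b <;> interval_cases a' <;> interval_cases b' <;>
      simp_all
  obtain ⟨rfl, rfl⟩ := hab
  exact ⟨(pow_eq_pow_iff8 hf).1 (mul_right_cancel (mul_right_cancel h)), rfl, rfl⟩

theorem xfx (xf : x * f = f ^ 5 * x) (xx : x * x = 1) (i : ℕ) :
    x * f ^ i * x = f ^ (5 * i) := by
  rw [conj_pow_of xf, mul_assoc, xx, mul_one]

theorem sq_fix (xf : x * f = f ^ 5 * x) (xx : x * x = 1) (i : ℕ) :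
    (f ^ i * x) * (f ^ i * x) = f ^ (6 * i) := by
  rw [show (f ^ i * x) * (f ^ i * x) = f ^ i * (x * f ^ i * x) by simp only [mul_assoc],
    xfx xf xx, ← pow_add, show i + 5 * i = 6 * i by ring]

theorem pow_odd_fix (f8 : f ^ 8 = 1) (xf : x * f = f ^ 5 * x) (xx : x * x = 1) (i j : ℕ) :
    (f ^ i * x) ^ (2 * j + 1) = f ^ (6 * i * j + i) * x := by
  induction j with
  | zero => simp
  | succ t ih =>
    rw [show 2 * (t + 1) + 1 = (2 * t + 1) + 2 by ring, pow_add, ih, pow_two, sq_fix xf xx,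
      mul_assoc, conj_pow_of xf, ← mul_assoc, ← pow_add,
      show 6 * i * t + i + 5 * (6 * i) = 6 * i * (t + 1) + i + 8 * (3 * i) by ring, pow_add,
      pow_mul, f8, one_pow, mul_one]

theorem sq_fix_y (xf : x * f = f ^ 5 * x) (xx : x * x = 1) (yf : y * f = f ^ 7 * y)
    (yx : y * x = x * y) {e : ℕ} (yy : y * y = f ^ (4 * e)) (i a : ℕ) (ha : a < 2) :
    (f ^ i * x ^ a * y) * (f ^ i * x ^ a * y) =
      f ^ (i + (if a = 0 then 7 * i else 35 * i) + 4 * e) := by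
  interval_cases a <;> simp only [pow_zero, pow_one, mul_one, if_true, if_false, one_ne_zero]
  · rw [mul_assoc, ← mul_assoc y, conj_pow_of yf, mul_assoc, yy, ← pow_add, ← pow_add,
      Nat.add_assoc]
  · simp only [mul_assoc]
    rw [← mul_assoc y (f ^ i), conj_pow_of yf, mul_assoc, ← mul_assoc y x, yx, mul_assoc, yy,
      ← mul_assoc x (f ^ _), conj_pow_of xf, mul_assoc, ← mul_assoc x x, xx, one_mul,
      ← pow_add, ← pow_add, show i + (5 * (7 * i) + 4 * e) = i + 35 * i + 4 * e by ring]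

end Basic

variable (S : Subgroup G)

theorem exists_x (hf : orderOf f = 8) (hfS : f ∈ S)
    (cen : ∀ g ∈ S, g * f = f * g → ∃ i < 8, f ^ i = g) {x0 : G} (hx0 : x0 ∈ S)
    (h : x0 * f = f ^ 5 * x0) : ∃ x ∈ S, x * f = f ^ 5 * x ∧ x * x = 1 := by
  have hP := fun {i j : ℕ} => pow_eq_pow_iff8 hf (i := i) (j := j)
  obtain ⟨i, hi, hix⟩ := cen (x0 * x0) (S.mul_mem hx0 hx0) (by
    rw [mul_assoc, h, ← mul_assoc, conj_pow_of h, mul_assoc, hP.2 (show (5 * 5) % 8 = 1 % 8 by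
      norm_num), pow_one])
  have hie : (5 * i) % 8 = i % 8 := hP.1 (mul_right_cancel (b := x0) (by
    rw [← conj_pow_of h, hix, mul_assoc]))
  refine ⟨f ^ (i / 2) * x0, S.mul_mem (S.pow_mem hfS _) hx0, ?_, ?_⟩
  · rw [mul_assoc, h, ← mul_assoc, ← pow_add, ← mul_assoc, ← pow_add, Nat.add_comm]
  · rw [mul_assoc, ← mul_assoc x0, conj_pow_of h, mul_assoc, ← hix, ← pow_add, ← pow_add,
      ← pow_zero f, hP]
    omega

theorem exists_y (hf : orderOf f = 8) (hfS : f ∈ S)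
    (cen : ∀ g ∈ S, g * f = f * g → ∃ i < 8, f ^ i = g) {x y0 : G} (hx : x ∈ S)
    (xf : x * f = f ^ 5 * x) (xx : x * x = 1) (hy0 : y0 ∈ S) (h : y0 * f = f ^ 7 * y0) :
    ∃ e < 2, ∃ y ∈ S, y * f = f ^ 7 * y ∧ y * x = x * y ∧ y * y = f ^ (4 * e) := by
  have hP := fun {i j : ℕ} => pow_eq_pow_iff8 hf (i := i) (j := j)
  obtain ⟨i, hi, hiy⟩ := cen (y0 * y0) (S.mul_mem hy0 hy0) (by
    rw [mul_assoc, h, ← mul_assoc, conj_pow_of h, mul_assoc, hP.2 (show (7 * 7) % 8 = 1 % 8 by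
      norm_num), pow_one])
  have hie : (7 * i) % 8 = i % 8 := hP.1 (mul_right_cancel (b := y0) (by
    rw [← conj_pow_of h, hiy, mul_assoc]))
  obtain ⟨e, he, rfl⟩ : ∃ e < 2, i = 4 * e := ⟨i / 4, by omega, by omega⟩
  have hxi : x⁻¹ = x := inv_eq_of_mul_eq_one_right xx
  have h' : y0⁻¹ * f = f ^ 7 * y0⁻¹ := by
    rw [inv_mul_eq_iff_eq_mul, ← mul_assoc, conj_pow_of h, mul_assoc, mul_inv_cancel, mul_one,
      hP.2 (show (7 * 7) % 8 = 1 % 8 by norm_num), pow_one]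
  obtain ⟨k, -, hky⟩ := cen (y0 * x * y0⁻¹ * x⁻¹)
    (S.mul_mem (S.mul_mem (S.mul_mem hy0 hx) (S.inv_mem hy0)) (S.inv_mem hx)) (by
      rw [hxi, mul_assoc _ x f, xf, ← mul_assoc, mul_assoc (y0 * x) y0⁻¹, conj_pow_of h',
        ← mul_assoc, mul_assoc y0 x, conj_pow_of xf, ← mul_assoc, conj_pow_of h,
        hP.2 (show (7 * (5 * (7 * 5))) % 8 = 1 % 8 by norm_num), pow_one]
      simp only [mul_assoc])
  have e1 : y0 * x * y0⁻¹ = f ^ k * x := by rw [hky, mul_assoc _ x⁻¹, inv_mul_cancel, mul_one]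
  have e2 : (f ^ k * x) * (f ^ k * x) = 1 := by
    rw [← e1]
    calc y0 * x * y0⁻¹ * (y0 * x * y0⁻¹) = y0 * (x * x) * y0⁻¹ := by group
      _ = 1 := by rw [xx]; group
  rw [sq_fix xf xx, ← pow_zero f, hP] at e2
  refine ⟨e, he, ?_⟩
  have hk : y0 * x = f ^ k * x * y0 := mul_inv_eq_iff_eq_mul.1 e1
  rcases (show k % 8 = 0 ∨ k % 8 = 4 by omega) with hk' | hk'
  · rw [hP.2 (show k % 8 = 0 % 8 by omega), pow_zero, one_mul] at hk
    exact ⟨y0, hy0, h, hk, hiy.symm⟩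
  · rw [hP.2 (show k % 8 = 4 % 8 by omega)] at hk
    refine ⟨f * y0, S.mul_mem hfS hy0, ?_, ?_, ?_⟩
    · rw [mul_assoc, h, ← mul_assoc, ← mul_assoc, (Commute.self_pow f 7).eq]
    · rw [mul_assoc, hk, ← mul_assoc, ← mul_assoc, ← pow_succ', ← mul_assoc, xf]
    · rw [mul_assoc, ← mul_assoc y0, h, mul_assoc, ← hiy, ← mul_assoc, ← pow_succ', ← pow_add, hP]
      omega

/-- **The shape.** -/
theorem exists_coords (hS : Nat.card S = 64) (hfS : f ∈ S) (hf : orderOf f = 8)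
    (hself : ∀ g ∈ S, g * f = f * g → g ∈ Subgroup.zpowers f)
    (hodd : ∀ k ∈ ({3, 5, 7} : Set ℕ), ∃ g ∈ S, g * f * g⁻¹ = f ^ k) :
    ∃ e < 2, ∃ d < 2, ∃ m < 2, ∃ x y q : G, Coords e d m S f x y q := by
  classical
  have hSfin : Finite S := Nat.finite_of_card_ne_zero (by omega)
  have hP := fun {i j : ℕ} => pow_eq_pow_iff8 hf (i := i) (j := j)
  have f8 : f ^ 8 = 1 := by rw [← hf, pow_orderOf_eq_one]
  have cen : ∀ g ∈ S, g * f = f * g → ∃ i < 8, f ^ i = g := fun g hg h =>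
    (mem_zpowers_iff8 hf).1 (hself g hg h)
  obtain ⟨x0, hx0S, hx0⟩ := hodd 5 (by simp)
  obtain ⟨x, hxS, xf, xx⟩ := exists_x S hf hfS cen hx0S (mul_inv_eq_iff_eq_mul.1 hx0)
  obtain ⟨y0, hy0S, hy0⟩ := hodd 7 (by simp)
  obtain ⟨e, he, y, hyS, yf, yx, yy⟩ :=
    exists_y S hf hfS cen hxS xf xx hy0S (mul_inv_eq_iff_eq_mul.1 hy0)
  -- thirty-two elements
  let NS : Subgroup S := (powConj hf).subgroupOf S
  let N : ℕ → G := fun n => f ^ (n % 8) * x ^ (n / 8 % 2) * y ^ (n / 16 % 2)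
  have hNS : ∀ n, N n ∈ S := fun n =>
    S.mul_mem (S.mul_mem (S.pow_mem hfS _) (S.pow_mem hxS _)) (S.pow_mem hyS _)
  have hfN : f ∈ powConj hf := ⟨1, by simp⟩
  have hxN : x ∈ powConj hf := ⟨5, xf⟩
  have hyN : y ∈ powConj hf := ⟨7, yf⟩
  have hNmem : ∀ g ∈ S, g ∈ powConj hf → ∃ n < 32, N n = g := by
    rintro g hg ⟨k, hk⟩
    have hkodd := odd_of_conj hf hk
    obtain ⟨a, b, ha, hb, hab⟩ : ∃ a b : ℕ, a < 2 ∧ b < 2 ∧
        ((if a = 0 then 1 else 5) * (if b = 0 then 1 else 7)) % 8 = k % 8 := by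
      rcases (show k % 8 = 1 ∨ k % 8 = 3 ∨ k % 8 = 5 ∨ k % 8 = 7 by omega) with h | h | h | h
      · exact ⟨0, 0, by norm_num, by norm_num, by simp [h]⟩
      · exact ⟨1, 1, by norm_num, by norm_num, by simp [h]⟩
      · exact ⟨1, 0, by norm_num, by norm_num, by simp [h]⟩
      · exact ⟨0, 1, by norm_num, by norm_num, by simp [h]⟩
    have hw : x ^ a * y ^ b * f = f ^ k * (x ^ a * y ^ b) := by
      have := act xf yf 0 a b ha hb
      rwa [pow_zero, one_mul, hP.2 hab] at this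
    set w := x ^ a * y ^ b with hwdef
    obtain ⟨j, hj, hjg⟩ := cen (g * w⁻¹)
      (S.mul_mem hg (S.inv_mem (S.mul_mem (S.pow_mem hxS a) (S.pow_mem hyS b)))) (by
        have hfk : g * f ^ k = f * g := by
          rw [conj_pow_of hk, hP.2 (sq_mod_eight hkodd), pow_one]
        have hwk : w * f ^ k = f * w := by
          rw [conj_pow_of hw, hP.2 (sq_mod_eight hkodd), pow_one]
        have hwi : w⁻¹ * f = f ^ k * w⁻¹ := by
          rw [inv_mul_eq_iff_eq_mul, ← mul_assoc, hwk, mul_inv_cancel_right]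
        rw [mul_assoc, hwi, ← mul_assoc, hfk, mul_assoc])
    refine ⟨j + 8 * a + 16 * b, by omega, ?_⟩
    simp only [N, show (j + 8 * a + 16 * b) % 8 = j by omega,
      show (j + 8 * a + 16 * b) / 8 % 2 = a by omega,
      show (j + 8 * a + 16 * b) / 16 % 2 = b by omega]
    rw [mul_assoc, ← hwdef, hjg, inv_mul_cancel_right]
  have hNcard : Nat.card NS = 32 := by
    refine (Nat.card_congr (Equiv.ofBijective (fun n : Fin 32 => (⟨⟨N n, hNS n⟩,
      (powConj hf).mul_mem ((powConj hf).mul_mem ((powConj hf).pow_mem hfN _)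
        ((powConj hf).pow_mem hxN _)) ((powConj hf).pow_mem hyN _)⟩ : NS)) ⟨?_, ?_⟩)).symm.trans
      (Nat.card_fin 32)
    · intro u v huv
      replace huv := congrArg Subtype.val (congrArg Subtype.val huv)
      simp only [N] at huv
      have := exps_eq hf xf yf (Nat.mod_lt _ two_pos) (Nat.mod_lt _ two_pos)
        (Nat.mod_lt _ two_pos) (Nat.mod_lt _ two_pos) huv
      exact Fin.ext (by omega)
    · rintro ⟨⟨g, hg⟩, hgN⟩
      obtain ⟨n, hn, hng⟩ := hNmem g hg hgN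
      exact ⟨⟨n, hn⟩, by simp [hng]⟩
  have hidx : NS.index = 2 := by
    have := NS.card_mul_index
    rw [hNcard, hS] at this
    omega
  obtain ⟨q0, hq0⟩ : ∃ q0, q0 ∉ NS := by
    by_contra h
    push Not at h
    rw [(Subgroup.eq_top_iff' NS).2 h] at hidx
    simp at hidx
  have hNn : NS.Normal := Subgroup.normal_of_index_eq_two hidx
  have inNconj : ∀ (g : S) {w : G}, w ∈ S → w ∈ powConj hf →
      ∃ n < 32, N n = g * w * (g : G)⁻¹ := fun g w hw h =>
    hNmem _ (S.mul_mem (S.mul_mem g.2 hw) (S.inv_mem g.2)) (hNn.conj_mem ⟨w, hw⟩ h g)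
  obtain ⟨n, hn, hng⟩ := inNconj q0 hfS hfN
  have hgen : ∀ j, ((q0 : G) * f * (q0 : G)⁻¹) ^ j = q0 * f ^ j * (q0 : G)⁻¹ := fun j => conj_pow
  have h4ne : ((q0 : G) * f * (q0 : G)⁻¹) ^ 4 ≠ 1 := fun h => by
    rw [hgen, mul_inv_eq_iff_eq_mul, one_mul] at h
    have h' : f ^ 4 = f ^ 0 := by rw [pow_zero]; exact mul_left_cancel (h.trans (mul_one _).symm)
    exact absurd (hP.1 h') (by norm_num)
  obtain ⟨i3, hi3, hi3o, hq0f⟩ : ∃ i3 < 8, i3 % 2 = 1 ∧
      (q0 : G) * f * (q0 : G)⁻¹ = f ^ i3 * x := by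
    rw [← hng] at h4ne
    rcases Nat.mod_two_eq_zero_or_one (n / 16) with hb | hb
    · rcases Nat.mod_two_eq_zero_or_one (n / 8) with ha | ha
      · exfalso
        apply hq0
        refine ⟨n % 8, ?_⟩
        simp only [N, ha, hb, pow_zero, mul_one] at hng
        exact mul_inv_eq_iff_eq_mul.1 hng.symm
      · simp only [N, ha, hb, pow_zero, pow_one, mul_one] at hng h4ne
        refine ⟨n % 8, by omega, ?_, hng.symm⟩
        by_contra hev
        apply h4ne
        rw [show 4 = 2 * 2 from rfl, pow_mul, pow_two (f ^ (n % 8) * x), sq_fix xf xx, ← pow_mul, ← pow_zero f, hP]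
        omega
    · exfalso
      apply h4ne
      simp only [N, hb, pow_one]
      rw [show 4 = 2 * 2 from rfl, pow_mul, pow_two (_ * y),
        sq_fix_y xf xx yf yx yy _ _ (Nat.mod_lt _ two_pos), ← pow_mul, ← pow_zero f, hP]
      split <;> omega
  obtain ⟨q1, hq1S, hq1f⟩ : ∃ q1 ∈ S, q1 * f * q1⁻¹ = f * x := by
    have hk : ∀ j, 2 * j + 1 ∈ ({3, 5, 7} : Set ℕ) → (6 * i3 * j + i3) % 8 = 1 % 8 →
        ∃ q1 ∈ S, q1 * f * q1⁻¹ = f * x := by
      intro j hj hj'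
      obtain ⟨w, hw, hwf⟩ := hodd _ hj
      refine ⟨q0 * w, S.mul_mem q0.2 hw, ?_⟩
      have h1 : (f ^ i3 * x) ^ (2 * j + 1) = f * x := by
        rw [pow_odd_fix f8 xf xx, hP.2 hj', pow_one]
      rw [← h1, ← hq0f, hgen, ← hwf]
      group
    rcases (show i3 = 1 ∨ i3 = 3 ∨ i3 = 5 ∨ i3 = 7 by omega) with rfl | rfl | rfl | rfl
    · exact ⟨q0, q0.2, by rw [hq0f, pow_one]⟩
    · exact hk 3 (by simp) (by norm_num)
    · exact hk 2 (by simp) (by norm_num)
    · exact hk 1 (by simp) (by norm_num)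
  have hq1 : q1 * f = f * x * q1 := mul_inv_eq_iff_eq_mul.1 hq1f
  have xnf : ∀ k, x ≠ f ^ k := fun k hx => by
    have h2 : f * x = x * f := by rw [hx, (Commute.self_pow f _).eq]
    rw [xf] at h2
    have h3 : f ^ 1 = f ^ 5 := by rw [pow_one]; exact mul_right_cancel h2
    exact absurd (hP.1 h3) (by norm_num)
  have fxnf : ∀ k, f * x ≠ f ^ k := fun k hx => xnf (7 + k) (by
    rw [pow_add, ← hx, ← mul_assoc, ← pow_succ, f8, one_mul])
  have hsq2 : ∀ {g : G}, g * f = f * x * g → g * f ^ 2 = f ^ 6 * g := fun {g} hg => by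
    rw [pow_two, ← mul_assoc, hg, mul_assoc, hg, ← mul_assoc]
    have := sq_fix xf xx 1
    rw [pow_one] at this
    rw [this]
  have hnotN : ∀ {g : G}, g * f = f * x * g → g ∉ powConj hf := by
    rintro g hg ⟨k, hk⟩
    exact fxnf k (mul_right_cancel (hg.symm.trans hk))
  have hx2 : x * f ^ 2 = f ^ 2 * x := by
    rw [conj_pow_of xf, hP.2 (show (5 * 2) % 8 = 2 % 8 by norm_num)]
  -- `q1` on `x`
  obtain ⟨n1, hn1, hng1⟩ := inNconj ⟨q1, hq1S⟩ hxS hxN
  simp only at hng1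
  have hc6 : (q1 * x * q1⁻¹) * f ^ 6 = f ^ 6 * (q1 * x * q1⁻¹) := by
    have hq : q1⁻¹ * f ^ 6 = f ^ 2 * q1⁻¹ := by
      rw [inv_mul_eq_iff_eq_mul, ← mul_assoc, hsq2 hq1, mul_inv_cancel_right]
    rw [mul_assoc (q1 * x), hq, ← mul_assoc, mul_assoc q1 x, hx2, ← mul_assoc, hsq2 hq1]
    simp only [mul_assoc]
  have hx4 : q1 * f ^ 4 = f ^ 4 * q1 := by
    rw [show 4 = 2 + 2 from rfl, pow_add, ← mul_assoc, hsq2 hq1, mul_assoc, hsq2 hq1, ← mul_assoc,
      ← pow_add, hP.2 (show (6 + 6) % 8 = (2 + 2) % 8 by norm_num), ← pow_add]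
  have hxsq : (q1 * x * q1⁻¹) * (q1 * x * q1⁻¹) = 1 :=
    calc q1 * x * q1⁻¹ * (q1 * x * q1⁻¹) = q1 * (x * x) * q1⁻¹ := by group
      _ = 1 := by rw [xx]; group
  obtain ⟨i4, hi4, hq1x⟩ : ∃ i4, (i4 % 8 = 0 ∨ i4 % 8 = 4) ∧ q1 * x = f ^ i4 * x * q1 := by
    rw [← hng1] at hc6 hxsq
    rcases Nat.mod_two_eq_zero_or_one (n1 / 16) with hb | hb
    · rcases Nat.mod_two_eq_zero_or_one (n1 / 8) with ha | ha
      · exfalso
        simp only [N, ha, hb, pow_zero, mul_one] at hng1 hxsq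
        rw [← pow_add, ← pow_zero f, hP] at hxsq
        have hconj : q1 * x = f ^ (n1 % 8) * q1 := mul_inv_eq_iff_eq_mul.1 hng1.symm
        rcases (show n1 % 8 = 0 ∨ n1 % 8 = 4 by omega) with h | h <;> rw [h] at hconj
        · rw [pow_zero, one_mul] at hconj
          exact xnf 0 (by rw [pow_zero]; exact mul_left_cancel (hconj.trans (mul_one q1).symm))
        · exact xnf 4 (mul_left_cancel (hconj.trans hx4.symm))
      · simp only [N, ha, hb, pow_zero, pow_one, mul_one] at hng1 hxsq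
        refine ⟨n1 % 8, ?_, mul_inv_eq_iff_eq_mul.1 hng1.symm⟩
        rw [sq_fix xf xx, ← pow_zero f, hP] at hxsq
        omega
    · exfalso
      simp only [N, hb, pow_one] at hc6
      have h1 := conj_pow_of (act xf yf (n1 % 8) (n1 / 8 % 2) 1 (Nat.mod_lt _ two_pos)
        (by norm_num)) 6
      rw [pow_one] at h1
      rw [h1] at hc6
      have := hP.1 (mul_right_cancel hc6)
      split_ifs at this <;> omega
  obtain ⟨q, hqS, qf, qx⟩ : ∃ q ∈ S, q * f = f * x * q ∧ q * x = x * q := by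
    rcases hi4 with h | h
    · refine ⟨q1, hq1S, hq1, ?_⟩
      rwa [hP.2 (show i4 % 8 = 0 % 8 by omega), pow_zero, one_mul] at hq1x
    · rw [hP.2 (show i4 % 8 = 4 % 8 by omega)] at hq1x
      refine ⟨q1 * f, S.mul_mem hq1S hfS, by rw [← mul_assoc, ← hq1], ?_⟩
      have h1 : f * x = f ^ 4 * x * f := by
        rw [mul_assoc, xf, ← mul_assoc, ← pow_add, hP.2 (show (4 + 5) % 8 = 1 % 8 by norm_num),
          pow_one]
      rw [mul_assoc, h1, ← mul_assoc, ← mul_assoc, hx4, mul_assoc (f ^ 4), hq1x, ← mul_assoc,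
        ← mul_assoc, ← pow_add, f8, one_mul, mul_assoc]
  have qfev : ∀ j, q * f ^ (2 * j) = f ^ (6 * j) * q := fun j => by
    induction j with
    | zero => simp
    | succ t ih =>
      rw [show 2 * (t + 1) = 2 * t + 2 by ring, pow_add, ← mul_assoc, ih, mul_assoc, hsq2 qf,
        ← mul_assoc, ← pow_add, show 6 * t + 6 = 6 * (t + 1) by ring]
  -- the square of `q`
  obtain ⟨r, hr, hqq⟩ := cen (q * q) (S.mul_mem hqS hqS) (by
    rw [mul_assoc, qf, ← mul_assoc, ← mul_assoc, qf, mul_assoc (f * x) q, qx]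
    simp only [mul_assoc]
    rw [← mul_assoc x x, xx, one_mul])
  have hr' : r % 4 = 0 := by
    have h1 : q * f ^ r = f ^ r * q := by rw [hqq, mul_assoc]
    obtain ⟨s, rfl | rfl⟩ : ∃ s, r = 2 * s ∨ r = 2 * s + 1 := ⟨r / 2, by omega⟩
    · rw [qfev] at h1
      have := hP.1 (mul_right_cancel h1)
      omega
    · exfalso
      rw [pow_succ, ← mul_assoc, qfev, mul_assoc, qf, ← mul_assoc, ← mul_assoc, ← pow_succ,
        ← pow_succ] at h1
      refine xnf (7 * (6 * s + 1) + (2 * s + 1)) ?_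
      rw [pow_add, ← mul_right_cancel h1, ← mul_assoc, ← pow_add, hP.2 (show
        (7 * (6 * s + 1) + (6 * s + 1)) % 8 = 0 % 8 by omega), pow_zero, one_mul]
  obtain ⟨d, hd, rfl⟩ : ∃ d < 2, r = 4 * d := ⟨r / 4, by omega, by omega⟩
  -- `q` on `y`
  obtain ⟨n2, hn2, hng2⟩ := inNconj ⟨q, hqS⟩ hyS hyN
  simp only at hng2
  obtain ⟨i5, a, ha, b, hb, hi5, hqy⟩ : ∃ i5 a, a < 2 ∧ ∃ b, b < 2 ∧ i5 < 8 ∧
      q * y = f ^ i5 * x ^ a * y ^ b * q :=
    ⟨_, _, Nat.mod_lt _ two_pos, _, Nat.mod_lt _ two_pos, Nat.mod_lt _ (by norm_num),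
      mul_inv_eq_iff_eq_mul.1 hng2.symm⟩
  have hb1 : b = 1 := by
    have h6 : (f ^ i5 * x ^ a * y ^ b) * f ^ 6 = f ^ 2 * (f ^ i5 * x ^ a * y ^ b) := by
      apply mul_right_cancel (b := q)
      have e6 : f ^ 6 * q = q * f ^ 2 := (qfev 1).symm
      rw [mul_assoc _ (f ^ 6) q, e6, ← mul_assoc, ← hqy, mul_assoc q y, conj_pow_of yf,
        hP.2 (show (7 * 2) % 8 = 6 % 8 by norm_num), ← mul_assoc,
        show q * f ^ 6 = f ^ 18 * q from qfev 3, hP.2 (show 18 % 8 = 2 % 8 by norm_num),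
        mul_assoc, hqy]
      simp only [mul_assoc]
    rw [conj_pow_of (act xf yf i5 a b ha hb)] at h6
    have := hP.1 (mul_right_cancel h6)
    interval_cases b
    · split_ifs at this <;> omega
    · rfl
  subst hb1
  rw [pow_one] at hqy
  have hia : i5 % 2 = 0 ∧ a = 1 := by
    -- apply `q` to `y f = f^7 y`
    have hqf7 : q * f ^ 7 = f ^ 19 * x * q := by
      rw [pow_succ, ← mul_assoc, show q * f ^ 6 = f ^ 18 * q from qfev 3, mul_assoc, qf,
        pow_succ f 18]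
      simp only [mul_assoc]
    have hl : q * y * f = f ^ i5 * x ^ a * y * f * x * q := by
      rw [hqy, mul_assoc _ q f, qf]; simp only [mul_assoc]
    have hr7 : q * y * f = f ^ 19 * x * (f ^ i5 * x ^ a * y) * q := by
      rw [mul_assoc, yf, ← mul_assoc, hqf7, mul_assoc _ q y, hqy]; simp only [mul_assoc]
    have hsum : (i5 + a) % 2 = 1 := by
      have h2 := mul_right_cancel (hl.symm.trans hr7)
      have ha' := act xf yf i5 a 1 ha (by norm_num)
      rw [pow_one] at ha'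
      rw [ha'] at h2
      interval_cases a <;> simp only [pow_zero, pow_one, mul_one, if_true, if_false, one_ne_zero,
        one_mul] at h2
      · rw [mul_assoc _ (f ^ i5 * y) x, mul_assoc (f ^ i5) y x, yx, mul_assoc (f ^ 19) x,
          ← mul_assoc x (f ^ i5), conj_pow_of xf] at h2
        simp only [← mul_assoc, ← pow_add] at h2
        have := hP.1 (mul_right_cancel (mul_right_cancel h2))
        omega
      · rw [mul_assoc _ (f ^ i5 * x * y) x, mul_assoc (f ^ i5 * x) y x, yx,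
          mul_assoc (f ^ 19) x, ← mul_assoc x (f ^ i5 * x), ← mul_assoc x (f ^ i5),
          xfx xf xx] at h2
        simp only [← mul_assoc, ← pow_add] at h2
        rw [mul_assoc _ x x, xx, mul_one] at h2
        have := hP.1 (mul_right_cancel h2)
        omega
    rcases Nat.mod_two_eq_zero_or_one i5 with h | h
    · exact ⟨h, by omega⟩
    exfalso
    have ha0 : a = 0 := by omega
    subst ha0
    rw [pow_zero, mul_one] at hqy
    obtain ⟨s, rfl⟩ : ∃ s, i5 = 2 * s + 1 := ⟨i5 / 2, by omega⟩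
    have h1 : q * (q * y) = q * (f ^ (2 * s + 1) * y * q) := by rw [hqy]
    rw [← mul_assoc, ← hqq, pow_succ, ← mul_assoc q, ← mul_assoc q, ← mul_assoc q, qfev,
      mul_assoc _ q f, qf] at h1
    simp only [← mul_assoc, ← pow_succ] at h1
    rw [mul_assoc _ q y, hqy] at h1
    simp only [← mul_assoc] at h1
    rw [mul_assoc _ q q, ← hqq, mul_assoc _ y (f ^ _), conj_pow_of yf, mul_assoc (f ^ _) x,
      conj_pow_of xf] at h1
    simp only [← mul_assoc, ← pow_add] at h1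
    rw [mul_assoc _ x (f ^ _), conj_pow_of xf] at h1
    simp only [← mul_assoc, ← pow_add] at h1
    have h3 := mul_right_cancel h1
    set A := 6 * s + 1 + 5 * (2 * s + 1) + 5 * 7 * 4 * d with hA
    refine xnf (7 * A + 4 * d) ?_
    rw [pow_add, h3, ← mul_assoc, ← pow_add, hP.2 (show (7 * A + A) % 8 = 0 % 8 by omega),
      pow_zero, one_mul]
  obtain ⟨hi5e, rfl⟩ := hia
  rw [pow_one] at hqy
  obtain ⟨m, hm, y', hy'S, y'f, y'x, y'y, qy'⟩ : ∃ m < 2, ∃ y' ∈ S, y' * f = f ^ 7 * y' ∧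
      y' * x = x * y' ∧ y' * y' = f ^ (4 * e) ∧ q * y' = f ^ (2 * m) * x * y' * q := by
    by_cases h : i5 < 4
    · exact ⟨i5 / 2, by omega, y, hyS, yf, yx, yy, by rwa [show 2 * (i5 / 2) = i5 by omega]⟩
    · refine ⟨(i5 - 4) / 2, by omega, f ^ 2 * y, S.mul_mem (S.pow_mem hfS 2) hyS, ?_, ?_, ?_, ?_⟩
      · rw [mul_assoc, yf, ← mul_assoc, ← mul_assoc, ← pow_add, ← pow_add]
      · rw [mul_assoc, yx, ← mul_assoc, ← hx2, mul_assoc]
      · rw [mul_assoc, ← mul_assoc y, conj_pow_of yf, mul_assoc, yy, ← pow_add, ← pow_add, hP]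
        omega
      · rw [← mul_assoc, show q * f ^ 2 = f ^ 6 * q from qfev 1, mul_assoc (f ^ 6), hqy]
        simp only [← mul_assoc, ← pow_add]
        rw [mul_assoc _ x (f ^ 2), hx2]
        simp only [← mul_assoc, ← pow_add]
        rw [hP.2 (show (6 + i5) % 8 = (2 * ((i5 - 4) / 2) + 2) % 8 by omega)]
  have R : Rel e d m f x y' q := ⟨f8, xx, xf, y'f, y'x, y'y, qf, qx, hqq.symm, qy'⟩
  have hmem : ∀ n, el f x y' q n ∈ S := fun n => S.mul_mem (S.mul_mem (S.mul_mem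
    (S.pow_mem hfS _) (S.pow_mem hxS _)) (S.pow_mem hy'S _)) (S.pow_mem hqS _)
  have hy'N : y' ∈ powConj hf := ⟨7, y'f⟩
  have hinj : ∀ u < 64, ∀ v < 64, el f x y' q u = el f x y' q v → u = v := by
    intro u hu v hv huv
    have base : ∀ n, f ^ (n % 8) * x ^ (n / 8 % 2) * y' ^ (n / 16 % 2) ∈ powConj hf := fun n =>
      (powConj hf).mul_mem ((powConj hf).mul_mem ((powConj hf).pow_mem hfN _)
        ((powConj hf).pow_mem hxN _)) ((powConj hf).pow_mem hy'N _)
    simp only [el] at huv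
    have hc : u / 32 % 2 = v / 32 % 2 := by
      rcases Nat.mod_two_eq_zero_or_one (u / 32) with h1 | h1 <;>
        rcases Nat.mod_two_eq_zero_or_one (v / 32) with h2 | h2
      · omega
      · rw [h1, h2, pow_zero, mul_one, pow_one, ← inv_mul_eq_iff_eq_mul] at huv
        exact absurd (huv ▸ (powConj hf).mul_mem ((powConj hf).inv_mem (base v)) (base u))
          (hnotN qf)
      · rw [h1, h2, pow_zero, mul_one, pow_one, eq_comm, ← inv_mul_eq_iff_eq_mul] at huv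
        exact absurd (huv ▸ (powConj hf).mul_mem ((powConj hf).inv_mem (base u)) (base v))
          (hnotN qf)
      · omega
    rw [hc] at huv
    have := exps_eq hf xf y'f (Nat.mod_lt _ two_pos) (Nat.mod_lt _ two_pos)
      (Nat.mod_lt _ two_pos) (Nat.mod_lt _ two_pos) (mul_right_cancel huv)
    omega
  refine ⟨e, he, d, hd, m, hm, x, y', q, R, hmem, fun g hg => ?_, hinj⟩
  have hb : Function.Bijective (fun n : Fin 64 => (⟨el f x y' q n, hmem n⟩ : S)) :=
    (Nat.bijective_iff_injective_and_card _).2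
      ⟨fun u v huv => Fin.ext (hinj u u.2 v v.2 (by simpa using huv)), by rw [Nat.card_fin, hS]⟩
  obtain ⟨n, hn⟩ := hb.2 ⟨g, hg⟩
  exact ⟨n, n.2, congrArg Subtype.val hn⟩

end CfsgLib.Recog.M12Eight
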