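import Cfsg.Agent.Lib.Recog.M12Eight.SemiregularProof
import Cfsg.Agent.Lib.Comp.SFT.Main
import Cfsg.Agent.Lib.Coprime.Generation
import Cfsg.Agent.Lib.FT.OddOrder

/-!
# The odd cores of the centralisers of the class of `z` form a signalizer functor on `E`
-/

set_option autoImplicit false
set_option linter.unusedSectionVars false
set_option linter.style.haveILetI false

namespace CfsgLib.Recog.M12Eight

open Subgroup

universe u

variable {G : Type u} [Group G] [Finite G] {P : Sylow 2 G} {f x y q : G}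
  {C : Coords 0 0 0 (P : Subgroup G) f x y q}

/-- The odd core of a centraliser is normalised by it. -/
theorem cenCore_conj_mem {a g o : G} (hg : g ∈ centralizer ({a} : Set G)) (ho : o ∈ cenCore a) :
    g * o * g⁻¹ ∈ cenCore a := by
  obtain ⟨o', ho', rfl⟩ := ho
  haveI := CfsgLib.Solvable.pPrimeCore_normal 2 ↥(centralizer ({a} : Set G))
  exact ⟨⟨g, hg⟩ * o' * ⟨g, hg⟩⁻¹, Normal.conj_mem ‹_› _ ho' _, rfl⟩

/-- Odd cores of centralisers correspond under conjugation. -/
theorem cenCore_conj {a d : G} (g : G) (hd : d ∈ cenCore a) :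
    g * d * g⁻¹ ∈ cenCore (g * a * g⁻¹) := by
  refine le_cenCore (a := g * a * g⁻¹) (D := (cenCore a).map (MulAut.conj g).toMonoidHom) ?_ ?_ ?_
    ⟨d, hd, rfl⟩
  · rintro _ ⟨o, ho, rfl⟩
    have h := mem_centralizer_singleton_iff.1 (cenCore_le a ho)
    rw [mem_centralizer_singleton_iff]
    simp only [MulEquiv.coe_toMonoidHom, MulAut.conj_apply]
    calc g * o * g⁻¹ * (g * a * g⁻¹) = g * (o * a) * g⁻¹ := by group
      _ = _ := by rw [h]; group
  · rw [card_map_of_injective (MulAut.conj g).injective]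
    exact odd_card_cenCore a
  · rintro k hk _ ⟨o, ho, rfl⟩
    have hk' : g⁻¹ * k * g ∈ centralizer ({a} : Set G) := by
      have h := mem_centralizer_singleton_iff.1 hk
      rw [mem_centralizer_singleton_iff]
      calc g⁻¹ * k * g * a = g⁻¹ * (k * (g * a * g⁻¹)) * g := by group
        _ = _ := by rw [h]; group
    refine ⟨_, cenCore_conj_mem hk' ho, ?_⟩
    simp only [MulEquiv.coe_toMonoidHom, MulAut.conj_apply]
    group

/-- `Q` meets the odd core trivially. -/
theorem eq_one_of_Q_core {v : G} (hv : v ∈ (P : Subgroup G))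
    (hc : v ∈ cenCore (el f x y q 4)) : v = 1 := by
  obtain ⟨k, hk⟩ := P.2 ⟨v, hv⟩
  have h2 : orderOf v ∣ 2 ^ k := orderOf_dvd_of_pow_eq_one (congrArg Subtype.val hk)
  have hodd : Odd (orderOf v) :=
    (odd_card_cenCore _).of_dvd_nat ((cenCore _).orderOf_dvd_natCard hc)
  obtain ⟨j, -, hj⟩ := (Nat.dvd_prime_pow Nat.prime_two).1 h2
  rcases j with _ | j
  · exact orderOf_eq_one_iff.1 (by simpa using hj)
  · rw [hj, pow_succ] at hodd
    exact absurd hodd (Nat.not_odd_iff_even.2 ⟨2 ^ j, by ring⟩)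

/-- Elements of the core inside `NQ` centralise `Q`. -/
theorem core_NQ_centQ {o : G} (ho : o ∈ cenCore (el f x y q 4)) (hoN : o ∈ NQ C) :
    o ∈ centQ C := by
  refine ⟨hoN, mem_centralizer_iff.2 fun v hv => ?_⟩
  have h1 : o * v * o⁻¹ ∈ parSub C true true false :=
    (mem_normalizer_iff.1 ((mem_NQ_iff C).1 hoN).2 v).1 hv
  have hvz : v ∈ centralizer ({el f x y q 4} : Set G) :=
    C.le_centralizer_four (by norm_num) (by norm_num) (by norm_num) (parSub_le C _ _ _ hv)
  have h2 : o * v * o⁻¹ * v⁻¹ ∈ cenCore (el f x y q 4) := by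
    rw [show o * v * o⁻¹ * v⁻¹ = o * (v * o⁻¹ * v⁻¹) by group]
    exact mul_mem ho (cenCore_conj_mem hvz (inv_mem ho))
  have h := eq_one_of_Q_core
    (parSub_le C _ _ _ (mul_mem h1 (inv_mem hv))) h2
  rw [mul_inv_eq_one, mul_inv_eq_iff_eq_mul] at h
  exact h.symm

/-- Elements of odd order centralising `Q` are in the core. -/
theorem centQ_odd_mem (K : Classes C) {n : G} (hn : n ∈ centQ C) (hodd : Odd (orderOf n)) :
    n ∈ cenCore (el f x y q 4) := by
  obtain ⟨D, hD, hDodd, hDN, hor⟩ := exists_centQ_odd K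
  set z := el f x y q 4 with hz
  set Ca := centralizer ({z} : Set G) with hCa
  have hDC : D ≤ Ca := fun d hd => mem_centralizer_singleton_iff.2 ((mem_NQ_iff C).1 (hD hd).1).1
  have hnD : n ∈ D := by
    refine (hor n hn).resolve_right fun h => ?_
    have hz2 : orderOf z = 2 :=
      C.orderOf_two (show 4 < 64 by norm_num) (by norm_num) (by decide +kernel)
    have hnz : n * z = z * n := ((mem_NQ_iff C).1 hn.1).1
    have hodd' : Odd (orderOf (n * z)) := hDodd.of_dvd_nat (D.orderOf_dvd_natCard h)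
    have hc : Commute n⁻¹ (n * z) := by
      show n⁻¹ * (n * z) = n * z * n⁻¹
      rw [inv_mul_cancel_left, hnz, mul_inv_cancel_right]
    have := (hc.orderOf_mul_dvd_mul_orderOf)
    rw [inv_mul_cancel_left, hz2, orderOf_inv] at this
    exact Nat.not_even_iff_odd.2 (hodd.mul hodd') (even_iff_two_dvd.2 this)
  haveI := CfsgLib.Solvable.pPrimeCore_normal 2 ↥Ca
  let S : Subgroup Ca := D.subgroupOf Ca ⊔ Cfsg.oddCore Ca
  have hSodd : Odd (Nat.card S) := by
    refine Odd.of_dvd_nat ?_ (CfsgLib.Solvable.card_sup_dvd (D.subgroupOf Ca) (Cfsg.oddCore Ca))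
    refine Odd.mul ?_ (CfsgLib.Invol.odd_card_oddCore _)
    rwa [Nat.card_congr (subgroupOfEquivOfLe hDC).toEquiv]
  have hSn : S.Normal := by
    refine ⟨fun s hs g => ?_⟩
    have hle : S ≤ S.comap (MulAut.conj g).toMonoidHom := by
      refine sup_le (fun d hd => ?_) (fun o ho => ?_)
      · obtain ⟨o, ho, m, hm, he⟩ := decomp semiregularStmt K g g.2
        obtain ⟨o', ho', rfl⟩ := ho
        have hmC : m ∈ Ca := mem_centralizer_singleton_iff.2 ((mem_NQ_iff C).1 hm).1
        have he' : g = o' * ⟨m, hmC⟩ := Subtype.ext he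
        show g * d * g⁻¹ ∈ S
        rw [he', show o' * ⟨m, hmC⟩ * d * (o' * ⟨m, hmC⟩)⁻¹ =
          o' * (⟨m, hmC⟩ * d * (⟨m, hmC⟩ : Ca)⁻¹) * o'⁻¹ by group]
        have h1 : (⟨m, hmC⟩ * d * (⟨m, hmC⟩ : Ca)⁻¹ : Ca) ∈ S :=
          mem_sup_left (hDN m hm d hd)
        exact mul_mem (mul_mem (mem_sup_right ho') h1) (inv_mem (mem_sup_right ho'))
      · exact mem_sup_right (Normal.conj_mem ‹_› o ho g)
    exact hle hs
  exact ⟨⟨n, hDC hnD⟩, CfsgLib.Invol.le_oddCore hSn hSodd (mem_sup_left hnD), rfl⟩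

theorem perm_sign_of_odd (p : Equiv.Perm (Fin 3)) {m : ℕ} (hm : Odd m) (h : p ^ m = 1) :
    Equiv.Perm.sign p = 1 := by
  have := congrArg Equiv.Perm.sign h
  rw [map_pow, map_one] at this
  rcases Int.units_eq_one_or (Equiv.Perm.sign p) with e | e
  · exact e
  · rw [e, hm.neg_one_pow] at this
    exact absurd this (by decide)

theorem perm_comm_swap : ∀ p : Equiv.Perm (Fin 3), Equiv.Perm.sign p = 1 →
    p * Equiv.swap 1 2 * p⁻¹ * (Equiv.swap 1 2)⁻¹ = 1 → p = 1 := by decide +kernel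

/-- An element of odd order commuting with `z` and another involution of `P` is in the core. -/
theorem odd_mem_cenCore_el (K : Classes C) {d : G} {w : ℕ} (hw : w < 64)
    (hwo : orderOf (el f x y q w) = 2) (hw4 : w ≠ 4)
    (hd : d ∈ centralizer ({el f x y q 4} : Set G)) (hodd : Odd (orderOf d))
    (hcomm : d * el f x y q w = el f x y q w * d) : d ∈ cenCore (el f x y q 4) := by
  obtain ⟨o, ho, n, hn, rfl⟩ := decomp semiregularStmt K d hd
  set z := el f x y q 4 with hz
  set a := el f x y q w with ha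
  have hnC : n ∈ centralizer ({z} : Set G) := mem_centralizer_singleton_iff.2 ((mem_NQ_iff C).1 hn).1
  -- powers of `n`
  have hpow : ∀ j : ℕ, (o * n) ^ j * (n ^ j)⁻¹ ∈ cenCore z := by
    intro j
    induction j with
    | zero => simp
    | succ j ih =>
      have e : (o * n) ^ (j + 1) * (n ^ (j + 1))⁻¹ =
          ((o * n) ^ j * (n ^ j)⁻¹) * (n ^ j * o * (n ^ j)⁻¹) := by
        rw [pow_succ, pow_succ]; group
      rw [e]
      exact mul_mem ih (cenCore_conj_mem (pow_mem hnC j) ho)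
  set m := orderOf (o * n) with hm
  have hnm : n ^ m ∈ cenCore z := by
    have := hpow m
    rw [pow_orderOf_eq_one, one_mul] at this
    exact inv_mem_iff.1 this
  have hnodd : Odd (orderOf n) := by
    have h1 : Odd (orderOf (n ^ m)) :=
      (odd_card_cenCore z).of_dvd_nat ((cenCore z).orderOf_dvd_natCard hnm)
    refine (hodd.mul h1).of_dvd_nat (orderOf_dvd_of_pow_eq_one ?_)
    rw [pow_mul, pow_orderOf_eq_one]
  let nN : NQ C := ⟨n, hn⟩
  have hsign : Equiv.Perm.sign (cosetHom K nN) = 1 := by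
    refine perm_sign_of_odd _ hnodd ?_
    rw [← map_pow, show nN ^ orderOf n = 1 from Subtype.ext (pow_orderOf_eq_one n), map_one]
  have haC : a ∈ centralizer ({z} : Set G) :=
    C.le_centralizer_four (by norm_num) (by norm_num) (by norm_num) (C.mem w)
  have hcore : n * a * n⁻¹ * a⁻¹ ∈ cenCore z := by
    have e : n * a * n⁻¹ * a⁻¹ = o⁻¹ * (o * n * a * (o * n)⁻¹) * o * a⁻¹ := by group
    rw [e, hcomm, mul_inv_cancel_right, mul_assoc, mul_assoc]
    exact mul_mem (inv_mem ho) (by simpa only [mul_assoc] using cenCore_conj_mem haC ho)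
  have hker : cosetHom K nN = 1 := by
    by_cases hq : inQ w = true
    · have haQ : a ∈ parSub C true true false := mem_Q C hw hq
      have h1 : n * a * n⁻¹ ∈ parSub C true true false :=
        (mem_normalizer_iff.1 ((mem_NQ_iff C).1 hn).2 a).1 haQ
      have h := eq_one_of_Q_core
        (parSub_le C _ _ _ (mul_mem h1 (inv_mem haQ))) hcore
      refine ker_of_fix K hsign hw hq ?_ hw4 (Or.inl (mul_inv_eq_one.1 h))
      intro h0
      rw [ha, h0, (C.eq_one_iff (by norm_num)).2 rfl] at hwo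
      simp at hwo
    · let aN : NQ C := ⟨a, P_le_NQ (C.mem w)⟩
      have hmem : (nN * aN * nN⁻¹ * aN⁻¹ : NQ C).1 ∈ cenCore z := hcore
      have h := centQ_ker K (core_NQ_centQ hmem (nN * aN * nN⁻¹ * aN⁻¹ : NQ C).2)
      rw [map_mul, map_mul, map_mul, map_inv, map_inv, cosetHom_P K hw, if_neg hq] at h
      exact perm_comm_swap _ hsign h
  have hcq : n ∈ centQ C :=
    ⟨hn, mem_centralizer_iff.2 fun v hv => (odd_ker K (o := nN) hker hnodd v hv).symm⟩
  exact mul_mem ho (centQ_odd_mem K hcq hnodd)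

/-- **An element of odd order centralising `z` and a further involution is in the core.** -/
theorem odd_mem_cenCore (K : Classes C) {d a : G}
    (hd : d ∈ centralizer ({el f x y q 4} : Set G)) (hodd : Odd (orderOf d))
    (ha : orderOf a = 2) (hac : a ∈ centralizer ({el f x y q 4} : Set G))
    (hne : a ≠ el f x y q 4) (hcomm : d * a = a * d) : d ∈ cenCore (el f x y q 4) := by
  set z := el f x y q 4 with hz
  have hP := C.le_centralizer_four (show (0 : ℕ) < 2 by norm_num) (show (0 : ℕ) < 2 by norm_num)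
    (show (0 : ℕ) < 2 by norm_num)
  obtain ⟨h, hh, hhP⟩ := CfsgLib.Comp.exists_conj_le_sylow P hP (zpowers_le.2 hac)
    (IsPGroup.of_card (n := 1) (by rw [Nat.card_zpowers, ha, pow_one]))
  obtain ⟨w, hw, hw'⟩ := C.surj _ (hhP a (mem_zpowers a))
  have hhz : h * z * h⁻¹ = z := by rw [mem_centralizer_singleton_iff.1 hh, mul_inv_cancel_right]
  have hwo : orderOf (el f x y q w) = 2 := by
    rw [hw', ← MulAut.conj_apply, MulEquiv.orderOf_eq, ha]
  have hw4 : w ≠ 4 := fun h4 => hne (by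
    rw [h4, ← hz] at hw'
    exact mul_left_cancel (mul_right_cancel (hw'.symm.trans hhz.symm)))
  have hd' : h * d * h⁻¹ ∈ centralizer ({z} : Set G) :=
    mul_mem (mul_mem hh hd) (inv_mem hh)
  have key := odd_mem_cenCore_el K hw hwo hw4 hd'
    (by rwa [← MulAut.conj_apply, MulEquiv.orderOf_eq])
    (by rw [hw']; calc h * d * h⁻¹ * (h * a * h⁻¹) = h * (d * a) * h⁻¹ := by group
          _ = _ := by rw [hcomm]; group)
  have := cenCore_conj_mem (inv_mem hh) key
  simpa [mul_assoc] using this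

/-- The same at any conjugate of `z`. -/
theorem odd_mem_cenCore_conj (K : Classes C) {b d a : G} (hb : IsConj (el f x y q 4) b)
    (hd : d * b = b * d) (hodd : Odd (orderOf d)) (ha : orderOf a = 2) (hac : a * b = b * a)
    (hne : a ≠ b) (hcomm : d * a = a * d) : d ∈ cenCore b := by
  obtain ⟨g, rfl⟩ := isConj_iff.1 hb
  set z := el f x y q 4 with hz
  have tr : ∀ {u : G}, u * (g * z * g⁻¹) = g * z * g⁻¹ * u → g⁻¹ * u * g ∈ centralizer ({z} : Set G) := by
    intro u hu
    rw [mem_centralizer_singleton_iff]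
    calc g⁻¹ * u * g * z = g⁻¹ * (u * (g * z * g⁻¹)) * g := by group
      _ = _ := by rw [hu]; group
  have key := odd_mem_cenCore K (d := g⁻¹ * d * g) (a := g⁻¹ * a * g) (tr hd)
    (by rw [show g⁻¹ * d * g = MulAut.conj g⁻¹ d by simp, MulEquiv.orderOf_eq]; exact hodd)
    (by rw [show g⁻¹ * a * g = MulAut.conj g⁻¹ a by simp, MulEquiv.orderOf_eq]; exact ha) (tr hac)
    (fun h => hne (by
      calc a = g * (g⁻¹ * a * g) * g⁻¹ := by group
        _ = _ := by rw [h]))
    (by calc g⁻¹ * d * g * (g⁻¹ * a * g) = g⁻¹ * (d * a) * g := by group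
          _ = _ := by rw [hcomm]; group)
  have := cenCore_conj g key
  rwa [show g * (g⁻¹ * d * g) * g⁻¹ = d by group] at this

/-- The group generated by the odd cores over `E`. -/
def bigW (C : Coords 0 0 0 (P : Subgroup G) f x y q) : Subgroup G :=
  ⨆ a : {a : G // a ∈ elemE C ∧ a ≠ 1}, cenCore (a : G)

theorem elemE_sq {a : G} (ha : a ∈ elemE C) : a * a = 1 := by
  obtain ⟨n, hn, hnE, rfl⟩ := ha
  exact (C.sq_eq_one_iff hn).2 (inE_facts.2 n hn hnE).2

theorem elemE_comm {a b : G} (ha : a ∈ elemE C) (hb : b ∈ elemE C) : a * b = b * a := by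
  have h := elemE_sq (C := C) (mul_mem ha hb)
  have h1 := elemE_sq ha
  have h2 := elemE_sq hb
  calc a * b = a * b * (a * b * (a * b))⁻¹ := by rw [h, inv_one, mul_one]
    _ = b⁻¹ * a⁻¹ := by group
    _ = b * a := by rw [inv_eq_of_mul_eq_one_right h1, inv_eq_of_mul_eq_one_right h2]

theorem elemE_isConj (K : Classes C) {a : G} (ha : a ∈ elemE C) (h1 : a ≠ 1) :
    IsConj (el f x y q 4) a := by
  obtain ⟨n, hn, hnE, rfl⟩ := ha
  exact (isConj_z_of_inE K hn hnE fun h0 => h1 ((C.eq_one_iff hn).2 h0)).symm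

theorem elemE_orderOf {a : G} (ha : a ∈ elemE C) (h1 : a ≠ 1) : orderOf a = 2 :=
  orderOf_eq_prime (by rw [pow_two, elemE_sq ha]) h1

theorem card_elemE : 2 ^ 3 ≤ Nat.card (elemE C) := by
  have key : ∀ i : Fin 8, [0, 4, 8, 12, 32, 36, 40, 44].getD i.val 0 < 64 ∧
      inE ([0, 4, 8, 12, 32, 36, 40, 44].getD i.val 0) = true := by decide +kernel
  have hinj : ∀ i j : Fin 8, [0, 4, 8, 12, 32, 36, 40, 44].getD i.val 0 =
      [0, 4, 8, 12, 32, 36, 40, 44].getD j.val 0 → i = j := by decide +kernel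
  have := Nat.card_le_card_of_injective
    (fun i : Fin 8 => (⟨_, _, (key i).1, (key i).2, rfl⟩ : elemE C))
    fun i j h => hinj i j (C.inj _ (key i).1 _ (key j).1 (congrArg Subtype.val h))
  simpa using this

/-- **The signalizer functor gives a group of odd order.** -/
theorem bigW_spec (K : Classes C) :
    Odd (Nat.card (bigW C)) ∧
      ∀ a ∈ elemE C, a ≠ 1 → bigW C ⊓ centralizer ({a} : Set G) = cenCore a := by
  have h := CfsgLib.Comp.SFT.solvable_functor_two (elemE C)
    (fun a ha b hb => elemE_comm ha hb) (fun a ha => by rw [pow_two, elemE_sq ha]) card_elemE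
    cenCore (fun a _ _ => cenCore_le a)
    (fun a _ _ => fun hd => Nat.not_even_iff_odd.2 (odd_card_cenCore a) (even_iff_two_dvd.2 hd))
    (fun a ha _ b hb x hx => cenCore_conj_mem
      (mem_centralizer_singleton_iff.2 (elemE_comm hb ha)) hx)
    (fun a _ _ => CfsgLib.FT.odd_order_solvable (odd_card_cenCore a))
    (fun a ha ha1 b hb hb1 d hd => by
      obtain ⟨hd1, hd2⟩ := hd
      rcases eq_or_ne a b with rfl | hab
      · exact hd1
      · exact odd_mem_cenCore_conj K (elemE_isConj K hb hb1) (mem_centralizer_singleton_iff.1 hd2)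
          ((odd_card_cenCore a).of_dvd_nat ((cenCore a).orderOf_dvd_natCard hd1))
          (elemE_orderOf ha ha1) (elemE_comm ha hb) hab
          (mem_centralizer_singleton_iff.1 (cenCore_le a hd1)))
  exact ⟨Nat.not_even_iff_odd.1 fun he => h.1 (even_iff_two_dvd.1 he), h.2⟩

theorem cenCore_le_bigW {a : G} (ha : a ∈ elemE C) (h1 : a ≠ 1) : cenCore a ≤ bigW C :=
  le_iSup (fun a : {a : G // a ∈ elemE C ∧ a ≠ 1} => cenCore (a : G)) ⟨a, ha, h1⟩

theorem elemE_le_normalizer : elemE C ≤ normalizer (bigW C : Set G) := by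
  intro b hb
  refine Subgroup.mem_normalizer_fintype fun w hw => ?_
  have hle : bigW C ≤ (bigW C).comap (MulAut.conj b).toMonoidHom :=
    iSup_le fun ⟨a, ha, ha1⟩ d hd => cenCore_le_bigW ha ha1
      (cenCore_conj_mem (mem_centralizer_singleton_iff.2 (elemE_comm hb ha)) hd)
  exact hle hw

/-- It is generated by the cores over a noncyclic subgroup. -/
theorem bigW_le (K : Classes C) {U : Subgroup G} (hU : U ≤ elemE C) (hnc : ¬ IsCyclic U)
    {D : Subgroup G} (h : ∀ u ∈ U, u ≠ 1 → cenCore u ≤ D) : bigW C ≤ D := by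
  obtain ⟨hodd, hint⟩ := bigW_spec K
  have hab : IsMulCommutative U :=
    ⟨⟨fun a b => Subtype.ext (elemE_comm (hU a.2) (hU b.2))⟩⟩
  have hcop : (Nat.card U).Coprime (Nat.card (bigW C)) := by
    obtain ⟨j, hj⟩ := IsPGroup.iff_card.1 (fun a : U => (⟨1, Subtype.ext (by
      simp [pow_two, elemE_sq (hU a.2)])⟩ : ∃ k : ℕ, a ^ 2 ^ k = 1))
    rw [hj]
    exact Nat.Coprime.pow_left _ (Nat.coprime_two_left.2 hodd)
  rw [← CfsgLib.Coprime.iSup_centralizer_eq hab hnc (hU.trans elemE_le_normalizer) hcop]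
  exact iSup_le fun ⟨u, hu, hu1⟩ => by
    rw [hint u (hU hu) hu1]
    exact h u hu hu1

end CfsgLib.Recog.M12Eight
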