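import Cfsg.Agent.Lib.InvChar.M12C.Model

/-!
A Sylow `2`-subgroup of `M₁₂` contains a self-centralising element of order eight that is conjugate to all its
odd powers.
-/

set_option autoImplicit false
set_option maxRecDepth 100000
set_option Elab.async false

namespace CfsgLib.Recog.M12Eight

open Cfsg CfsgLib.InvChar.M12C

/-- The numbers of a Sylow `2`-subgroup. -/
def sylList : List ℕ := [0, 1, 2, 3, 4, 7, 8, 9, 12, 13, 16, 19, 30, 31, 46, 49, 75, 80, 85, 89, 91, 93, 110, 114,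
  116, 119, 127, 129, 132, 134, 136, 138, 144, 146, 148, 153, 158, 159, 161, 163, 165, 166, 167, 168, 169, 172,
  174, 175, 176, 177, 178, 179, 180, 181, 182, 183, 184, 185, 186, 187, 188, 189, 190, 191]

/-- Membership in the list. -/
def inSyl (i : ℕ) : Bool := sylList.any (Nat.beq i)

theorem inSyl_iff {i : ℕ} : inSyl i = true ↔ i ∈ sylList := by
  rw [inSyl, List.any_eq_true]
  exact ⟨fun ⟨x, hx, h⟩ => Nat.eq_of_beq_eq_true h ▸ hx, fun h => ⟨i, h, Nat.beq_refl i⟩⟩

theorem syl_chk : sylList.all (fun i => Nat.blt i 192 && inSyl (inv i) && Nat.beq (mul i (inv i)) 0 &&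
    sylList.all (fun j => inSyl (mul i j))) = true := by decide +kernel

theorem syl_facts {i : ℕ} (hi : i ∈ sylList) : i < 192 ∧ inv i ∈ sylList ∧ mul i (inv i) = 0 ∧
    ∀ j ∈ sylList, mul i j ∈ sylList := by
  have h := List.all_eq_true.1 syl_chk i hi
  simp only [Bool.and_eq_true, List.all_eq_true] at h
  exact ⟨by simpa [Nat.blt] using h.1.1.1, inSyl_iff.1 h.1.1.2, Nat.eq_of_beq_eq_true h.1.2,
    fun j hj => inSyl_iff.1 (h.2 j hj)⟩

theorem syl_nodup : sylList.Nodup := by decide +kernel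

theorem syl_len : sylList.length = 64 := rfl

/-- The subgroup of the numbers. -/
noncomputable def sylM : Subgroup ↥Spor.M12 where
  carrier := {x | ∃ i ∈ sylList, Pm i = x}
  one_mem' := ⟨0, by decide, Pm_zero⟩
  mul_mem' := by
    rintro _ _ ⟨i, hi, rfl⟩ ⟨j, hj, rfl⟩
    exact ⟨mul i j, (syl_facts hi).2.2.2 j hj, (Pm_mul (syl_facts hi).1 (syl_facts hj).1).symm⟩
  inv_mem' := by
    rintro _ ⟨i, hi, rfl⟩
    obtain ⟨h1, h2, h3, -⟩ := syl_facts hi
    refine ⟨inv i, h2, eq_inv_of_mul_eq_one_right ?_⟩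
    rw [Pm_mul h1 (syl_facts h2).1, h3, Pm_zero]

theorem card_sylM : Nat.card sylM = 64 := by
  classical
  have e : ((sylM : Subgroup ↥Spor.M12) : Set ↥Spor.M12) = ↑(sylList.toFinset.image Pm) := by
    ext x
    simp [sylM]
  rw [← SetLike.coe_sort_coe, e, Nat.card_coe_set_eq, Set.ncard_coe_finset, Finset.card_image_of_injOn,
    List.toFinset_card_of_nodup syl_nodup, syl_len]
  intro i hi j hj h
  exact Pm_inj (syl_facts (List.mem_toFinset.1 hi)).1 (syl_facts (List.mem_toFinset.1 hj)).1 h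

/-- The powers of the element of order eight. -/
def fPows : List ℕ := [0, 144, 138, 172, 1, 175, 146, 169, 0]

theorem fPows_chk : (List.range 8).all (fun k => Nat.beq (mul (fPows.getD k 0) 144) (fPows.getD (k + 1) 0) &&
    Nat.blt (fPows.getD k 0) 192) = true := by decide +kernel

theorem cent_chk : sylList.all (fun i => !comm i 144 || fPows.any (Nat.beq i)) = true := by decide +kernel

theorem conj_chk : (Nat.beq (conj 16 144) 172 && Nat.beq (conj 4 144) 175 && Nat.beq (conj 3 144) 169 &&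
    Nat.blt (inv 16) 192 && Nat.blt (inv 4) 192 && Nat.blt (inv 3) 192 &&
    Nat.blt (mul 16 144) 192 && Nat.blt (mul 4 144) 192 && Nat.blt (mul 3 144) 192) = true := by decide +kernel

theorem f_pow {k : ℕ} (hk : k ≤ 8) : Pm 144 ^ k = Pm (fPows.getD k 0) := by
  induction k with
  | zero => rw [pow_zero]; exact Pm_zero.symm
  | succ k ih =>
    have h := List.all_eq_true.1 fPows_chk k (List.mem_range.2 (by omega))
    rw [Bool.and_eq_true] at h
    rw [pow_succ, ih (by omega), Pm_mul (by simpa [Nat.blt] using h.2) (by norm_num), Nat.eq_of_beq_eq_true h.1]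

theorem f_order : orderOf (Pm 144) = 8 := by
  haveI : Fact (Nat.Prime 2) := ⟨Nat.prime_two⟩
  have h4 : ¬ Pm 144 ^ 2 ^ 2 = 1 := fun h => by
    rw [show (2 : ℕ) ^ 2 = 4 from rfl, f_pow (k := 4) (by norm_num)] at h
    exact absurd (Pm_inj (i := 1) (j := 0) (by norm_num) (by norm_num) (h.trans Pm_zero.symm)) (by norm_num)
  have h8 : Pm 144 ^ 2 ^ (2 + 1) = 1 := by
    rw [show (2 : ℕ) ^ (2 + 1) = 8 from rfl, f_pow (k := 8) le_rfl]
    exact Pm_zero
  exact (orderOf_eq_prime_pow h4 h8).trans rfl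

/-- A Sylow `2`-subgroup with the element of order eight. -/
theorem exists_sylow_eight : ∃ (P : Sylow 2 ↥Spor.M12) (f : ↥Spor.M12),
    Nat.card (P : Subgroup ↥Spor.M12) = 64 ∧ f ∈ (P : Subgroup ↥Spor.M12) ∧ orderOf f = 8 ∧
      (∀ x ∈ (P : Subgroup ↥Spor.M12), x * f = f * x → x ∈ Subgroup.zpowers f) ∧
      ∀ k ∈ ({3, 5, 7} : Set ℕ), ∃ x ∈ (P : Subgroup ↥Spor.M12), x * f * x⁻¹ = f ^ k := by
  haveI : Fact (Nat.Prime 2) := ⟨Nat.prime_two⟩
  haveI : Finite ↥Spor.M12 := Nat.finite_of_card_ne_zero (by rw [CfsgLib.Golay.card_sporM12]; norm_num)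
  have hcard : Nat.card sylM = 2 ^ (Nat.card ↥Spor.M12).factorization 2 := by
    rw [card_sylM, CfsgLib.Golay.card_sporM12, Nat.factorization_def _ Nat.prime_two]
    have h : padicValNat 2 95040 = 6 := by
      rw [show (95040 : ℕ) = 2 ^ 6 * 1485 by norm_num, padicValNat.mul (by norm_num) (by norm_num),
        padicValNat.prime_pow, padicValNat.eq_zero_of_not_dvd (by norm_num)]
    rw [h]
    norm_num
  have hf : Pm 144 ∈ sylM := ⟨144, by decide, rfl⟩
  refine ⟨Sylow.ofCard sylM hcard, Pm 144, ?_, hf, f_order, ?_, ?_⟩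
  · rw [Sylow.coe_ofCard, card_sylM]
  · rintro x ⟨i, hi, rfl⟩ hx
    have h := List.all_eq_true.1 cent_chk i hi
    obtain ⟨hi', -, -, -⟩ := syl_facts hi
    rw [Pm_mul hi' (by norm_num), Pm_mul (by norm_num) hi'] at hx
    have hlt : ∀ j < 192, ∀ k < 192, mul j k < 192 := fun j hj k hk => by
      simpa [Nat.blt] using all192_get (all192_get mul_lt_chk hj) hk
    have e := Pm_inj (hlt _ hi' _ (by norm_num)) (hlt _ (by norm_num) _ hi') hx
    have hcm : CfsgLib.InvChar.M12C.comm i 144 = true := by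
      unfold CfsgLib.InvChar.M12C.comm
      rw [e]; exact Nat.beq_refl _
    rw [Bool.or_eq_true, hcm] at h
    obtain ⟨j, hj, hij⟩ := List.any_eq_true.1 (h.resolve_left (by simp))
    rw [Nat.eq_of_beq_eq_true hij]
    obtain ⟨k, hk, rfl⟩ := List.getElem_of_mem hj
    rw [show fPows[k] = fPows.getD k 0 from (List.getD_eq_getElem _ _ hk).symm,
      ← f_pow (Nat.lt_succ_iff.1 hk)]
    exact Subgroup.npow_mem_zpowers _ k
  · intro k hk
    have h := conj_chk
    simp only [Bool.and_eq_true] at h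
    obtain ⟨⟨⟨⟨⟨⟨⟨⟨a3, a5⟩, a7⟩, b3⟩, b5⟩, b7⟩, c3⟩, c5⟩, c7⟩ := h
    have main : ∀ c j : ℕ, c ∈ sylList → Nat.beq (conj c 144) j = true → Nat.blt (inv c) 192 = true →
        Nat.blt (mul c 144) 192 = true → k ≤ 8 → fPows.getD k 0 = j →
        ∃ x ∈ sylM, x * Pm 144 * x⁻¹ = Pm 144 ^ k := by
      intro c j hc hj hb hm hk8 hjk
      obtain ⟨h1, h2, h3, -⟩ := syl_facts hc
      refine ⟨Pm c, ⟨c, hc, rfl⟩, ?_⟩
      have hinv : (Pm c)⁻¹ = Pm (inv c) :=
        inv_eq_of_mul_eq_one_right (by rw [Pm_mul h1 (syl_facts h2).1, h3, Pm_zero])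
      rw [hinv, Pm_mul h1 (by norm_num), Pm_mul (by simpa [Nat.blt] using hm) (syl_facts h2).1, f_pow hk8, hjk,
        ← Nat.eq_of_beq_eq_true hj]
      rfl
    simp only [Set.mem_insert_iff, Set.mem_singleton_iff] at hk
    rcases hk with rfl | rfl | rfl
    · exact main 16 172 (by decide) a3 b3 c3 (by norm_num) rfl
    · exact main 4 175 (by decide) a5 b5 c5 (by norm_num) rfl
    · exact main 3 169 (by decide) a7 b7 c7 (by norm_num) rfl

end CfsgLib.Recog.M12Eight
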