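import Mathlib.Data.List.Range
import Mathlib.Tactic.Ring

/-!
# Eight groups of order 64 by coordinates

The number `i + 8a + 16b + 32c` stands for `f^i x^a y^b q^c`, where `f` has order 8, `x` is an involution
with `xfx = f^5`, `y` inverts `f`, centralises `x` and squares to `f^(4e)`, `qfq⁻¹ = fx`, `q` centralises
`x`, squares to `f^(4d)`, and `qyq⁻¹ = f^(2m)xy`.
-/

set_option autoImplicit false

namespace CfsgLib.Recog.M12Eight

/-- Encoding of the exponents. -/
def enc (i a b c : ℕ) : ℕ := i % 8 + 8 * (a % 2) + 16 * b + 32 * c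

/-- Right multiplication by `x`. -/
def rX (n : ℕ) : ℕ := enc n (n / 8 + 1) (n / 16 % 2) (n / 32 % 2)

/-- Right multiplication by `f`. -/
def rF (n : ℕ) : ℕ :=
  let c := n / 32 % 2
  let b := n / 16 % 2
  let j := if b = 0 then 1 else 7
  enc (n + (if n / 8 % 2 = 0 then j else 5 * j)) (n / 8 + c) b c

/-- Right multiplication by `y`. -/
def rY (e m n : ℕ) : ℕ :=
  let a := n / 8
  match n / 32 % 2, n / 16 % 2 with
  | 0, 0 => enc n a 1 0
  | 0, _ => enc (n + 4 * e) a 0 0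
  | _, 0 => enc (n + 2 * m) (a + 1) 1 1
  | _, _ => enc (n + 6 * m + 4 * e) (a + 1) 0 1

/-- Right multiplication by `q`. -/
def rQ (d n : ℕ) : ℕ :=
  if n / 32 % 2 = 0 then enc n (n / 8) (n / 16 % 2) 1
  else enc (n + 4 * d) (n / 8) (n / 16 % 2) 0

/-- `rF` repeated. -/
def rFs : ℕ → ℕ → ℕ
  | 0, u => u
  | k + 1, u => rF (rFs k u)

/-- The product. -/
def mul (e d m u v : ℕ) : ℕ :=
  let u1 := rFs (v % 8) u
  let u2 := if v / 8 % 2 = 0 then u1 else rX u1
  let u3 := if v / 16 % 2 = 0 then u2 else rY e m u2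
  if v / 32 % 2 = 0 then u3 else rQ d u3

/-- The product in the Sylow subgroup of `M₁₂`. -/
def mul0 (u v : ℕ) : ℕ := mul 0 0 0 u v

theorem enc_lt {i a b c : ℕ} (hb : b < 2) (hc : c < 2) : enc i a b c < 64 := by
  unfold enc; omega

theorem rX_lt (n : ℕ) : rX n < 64 := enc_lt (Nat.mod_lt _ two_pos) (Nat.mod_lt _ two_pos)

theorem rF_lt (n : ℕ) : rF n < 64 := enc_lt (Nat.mod_lt _ two_pos) (Nat.mod_lt _ two_pos)

theorem rY_lt (e m n : ℕ) : rY e m n < 64 := by
  simp only [rY]; split <;> exact enc_lt (by omega) (by omega)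

theorem rQ_lt (d n : ℕ) : rQ d n < 64 := by
  unfold rQ; split <;> exact enc_lt (Nat.mod_lt _ two_pos) (by omega)

theorem rFs_lt {u : ℕ} (hu : u < 64) : ∀ k, rFs k u < 64
  | 0 => hu
  | k + 1 => rF_lt _

theorem mul_lt {e d m u v : ℕ} (hu : u < 64) : mul e d m u v < 64 := by
  have h1 := rFs_lt hu (v % 8)
  simp only [mul]
  split_ifs <;> first | exact h1 | exact rX_lt _ | exact rY_lt .. | exact rQ_lt ..

end CfsgLib.Recog.M12Eight
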