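import Cfsg.Agent.Lib.Recog.M12Eight.Isolated
import Cfsg.Agent.Lib.Recog.M12Eight.Shape

/-!
# The Sylow subgroup is that of `M₁₂`, and `f⁴` is conjugate to `x`
-/

set_option autoImplicit false
set_option linter.unusedSectionVars false

namespace CfsgLib.Recog.M12Eight

open Subgroup

universe u

variable {G : Type u} [Group G] [Finite G] {e d m : ℕ} {P : Sylow 2 G} {f x y q : G}

theorem central_four : ∀ e < 2, ∀ d < 2, ∀ m < 2, ∀ n < 64, mul e d m n 4 = mul e d m 4 n := by
  decide +kernel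

theorem four_eight : ∀ e < 2, ∀ d < 2, ∀ m < 2, mul e d m 4 4 = 0 ∧ mul e d m 8 8 = 0 ∧
    mul e d m 12 12 = 0 ∧ mul e d m 8 12 = 4 ∧ mul e d m 12 8 = 4 ∧ cj e d m 8 12 = true := by
  decide +kernel

namespace Coords

theorem orderOf_two {S : Subgroup G} (C : Coords e d m S f x y q) {n : ℕ} (hn : n < 64)
    (h0 : n ≠ 0) (h : mul e d m n n = 0) : orderOf (el f x y q n) = 2 := by
  refine orderOf_eq_prime (by rw [pow_two, C.sq_eq_one_iff hn]; exact h) fun h1 => h0 ?_
  exact (C.eq_one_iff hn).1 h1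

theorem le_centralizer_four (C : Coords e d m (P : Subgroup G) f x y q) (he : e < 2) (hd : d < 2)
    (hm : m < 2) : (P : Subgroup G) ≤ centralizer ({el f x y q 4} : Set G) := by
  intro g hg
  obtain ⟨n, hn, rfl⟩ := C.surj g hg
  exact mem_centralizer_singleton_iff.2
    ((C.comm_iff hn (by norm_num)).2 (central_four e he d hd m hm n hn))

theorem isConj_of_cj {S : Subgroup G} (C : Coords e d m S f x y q) {a b : ℕ}
    (h : cj e d m a b = true) : IsConj (el f x y q a) (el f x y q b) := by
  obtain ⟨k, hk, hk'⟩ := List.any_eq_true.1 h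
  refine isConj_iff.2 ⟨el f x y q k, ?_⟩
  rw [mul_inv_eq_iff_eq_mul, C.toRel.el_mul, C.toRel.el_mul, beq_iff_eq.1 hk']

/-- What an extremal conjugation onto the centre gives. -/
theorem image_of_extremal (C : Coords e d m (P : Subgroup G) f x y q) {t : ℕ} (ht : t < 64)
    (ht4 : t ≠ 4) (h2 : mul e d m t t = 0) (h0 : t ≠ 0) (he : e < 2) (hd : d < 2) (hm : m < 2)
    (h : IsConj (el f x y q t) (el f x y q 4)) :
    ∃ g : G, g * el f x y q t * g⁻¹ = el f x y q 4 ∧
      (∀ a < 64, cm e d m a t = true → ∃ b < 64, g * el f x y q a * g⁻¹ = el f x y q b) ∧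
      ∃ w < 64, w ≠ 4 ∧ w ≠ 0 ∧ mul e d m w w = 0 ∧
        g * el f x y q 4 * g⁻¹ = el f x y q w := by
  obtain ⟨g0, hg0⟩ := isConj_iff.1 h
  obtain ⟨g, hg, himg⟩ := exists_extremal P (C.le_centralizer_four he hd hm) hg0
  have hcomm : ∀ a < 64, cm e d m a t = true →
      el f x y q a * el f x y q t = el f x y q t * el f x y q a := fun a ha hat =>
    (C.comm_iff ha ht).2 (beq_iff_eq.1 hat)
  refine ⟨g, hg, fun a ha hat => ?_, ?_⟩
  · obtain ⟨b, hb, hb'⟩ := C.surj _ (himg _ (C.mem a) (hcomm a ha hat)).1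
    exact ⟨b, hb, hb'.symm⟩
  · obtain ⟨w, hw, hw'⟩ := C.surj _ (himg _ (C.mem 4) ((C.comm_iff (by norm_num) ht).2
      (central_four e he d hd m hm t ht).symm)).1
    have hzz := C.orderOf_two (show 4 < 64 by norm_num) (by norm_num)
      (four_eight e he d hd m hm).1
    have hwo : orderOf (el f x y q w) = 2 := by
      rw [hw', ← MulAut.conj_apply, MulEquiv.orderOf_eq, hzz]
    refine ⟨w, hw, fun hw4 => ht4 ?_, fun hw0 => ?_, ?_, hw'.symm⟩
    · subst hw4
      refine C.inj t ht 4 (by norm_num) ?_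
      have e1 := hg.trans hw'
      exact mul_left_cancel (mul_right_cancel e1)
    · subst hw0
      rw [(C.eq_one_iff (by norm_num)).2 rfl] at hwo
      simp at hwo
    · rw [← C.sq_eq_one_iff hw, ← pow_two, ← hwo, pow_orderOf_eq_one]

theorem killed_false (C : Coords e d m (P : Subgroup G) f x y q) (he : e < 2) (hd : d < 2)
    (hm : m < 2) {ex : Bool} {t : ℕ} (ht : t < 64) (ht4 : t ≠ 4) (h0 : t ≠ 0)
    (h2 : mul e d m t t = 0) (hk : killed e d m ex t = true)
    (hex : ex = true → ¬ IsConj (el f x y q 4) (el f x y q 8) ∧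
      ¬ IsConj (el f x y q 4) (el f x y q 12))
    (h : IsConj (el f x y q t) (el f x y q 4)) : False := by
  obtain ⟨g, hg, himg, w, hw, hw4, hw0, hww, hgw⟩ :=
    C.image_of_extremal ht ht4 h2 h0 he hd hm h
  have hwex : ¬ (ex = true ∧ (w = 8 ∨ w = 12)) := by
    rintro ⟨hex', rfl | rfl⟩
    · exact (hex hex').1 (isConj_iff.2 ⟨g, hgw⟩)
    · exact (hex hex').2 (isConj_iff.2 ⟨g, hgw⟩)
  have hw' := List.all_eq_true.1 hk w (List.mem_range.2 hw)
  have hcond : (isInv e d m w && w != 4 && !(ex && (w == 8 || w == 12))) = true := by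
    simp only [isInv, Bool.and_eq_true, bne_iff_ne, ne_eq, beq_iff_eq, Bool.not_eq_true',
      Bool.and_eq_false_iff, Bool.or_eq_false_iff, beq_eq_false_iff_ne]
    refine ⟨⟨⟨hw0, hww⟩, hw4⟩, ?_⟩
    by_cases hx : ex = true
    · exact Or.inr ⟨fun h => hwex ⟨hx, Or.inl h⟩, fun h => hwex ⟨hx, Or.inr h⟩⟩
    · exact Or.inl (by simpa using hx)
  rw [hcond] at hw'
  simp only [Bool.not_true, Bool.false_or, Bool.or_eq_true, Bool.and_eq_true, decide_eq_true_eq,
    Bool.not_eq_true'] at hw'
  choose! φ hφ hφe using himg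
  have hmul : ∀ a < 64, cm e d m a t = true → ∀ b < 64, cm e d m b t = true →
      g * el f x y q (mul e d m a b) * g⁻¹ = el f x y q (φ a) * el f x y q (φ b) := by
    intro a ha hat b hb hbt
    rw [← hφe a ha hat, ← hφe b hb hbt, ← C.toRel.el_mul]
    group
  have hcmw : ∀ a < 64, cm e d m a t = true → cm e d m (φ a) w = true := by
    intro a ha hat
    refine beq_iff_eq.2 ((C.comm_iff (hφ a ha hat) hw).1 ?_)
    rw [← hφe a ha hat, ← hgw]
    have hc := (C.comm_iff ha (show 4 < 64 by norm_num)).2 (central_four e he d hd m hm a ha)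
    calc g * el f x y q a * g⁻¹ * (g * el f x y q 4 * g⁻¹) =
        g * (el f x y q a * el f x y q 4) * g⁻¹ := by group
      _ = _ := by rw [hc]; group
  have hroot : ∀ a ∈ roots e d m t 4, φ a ∈ roots e d m w w ∧ a < 64 ∧ cm e d m a t = true ∧
      mul e d m a a = 4 := by
    intro a ha
    simp only [roots, List.mem_filter, List.mem_range, Bool.and_eq_true, beq_iff_eq] at ha ⊢
    obtain ⟨ha, haa, hat⟩ := ha
    refine ⟨⟨hφ a ha hat, ?_, hcmw a ha hat⟩, ha, hat, haa⟩
    rw [← C.mul_eq_iff (hφ a ha hat) hw, ← hmul a ha hat a ha hat, haa, hgw]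
  rcases hw' with ⟨hp, hnp⟩ | hlen
  · simp only [pairOf, List.any_eq_true, List.mem_range, Bool.and_eq_true, beq_iff_eq] at hp
    obtain ⟨a, ha, b, hb, ⟨hbb, hbt⟩, hconj⟩ := hp
    obtain ⟨haw, ha64, hat, -⟩ := hroot a ha
    refine Bool.false_ne_true (hnp.symm.trans ?_)
    simp only [pairOf, List.any_eq_true, List.mem_range, Bool.and_eq_true, beq_iff_eq]
    refine ⟨φ a, haw, φ b, hφ b hb hbt, ⟨?_, hcmw b hb hbt⟩, ?_⟩
    · rw [← C.sq_eq_one_iff (hφ b hb hbt), ← hmul b hb hbt b hb hbt, hbb,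
        (C.eq_one_iff (show 0 < 64 by norm_num)).2 rfl]
      group
    · apply C.inj _ (mul_lt (mul_lt (hφ b hb hbt))) _ (mul_lt (hφ a ha64 hat))
      simp only [← C.toRel.el_mul]
      rw [← hφe a ha64 hat, ← hφe b hb hbt]
      have e1 := congrArg (fun n => g * el f x y q n * g⁻¹) hconj
      simp only [← C.toRel.el_mul] at e1
      refine Eq.trans ?_ (e1.trans ?_) <;> group
  · have hnd : (roots e d m t 4).Nodup := List.nodup_range.filter _
    have hndm : ((roots e d m t 4).map φ).Nodup := by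
      refine hnd.map_on fun a ha b hb hab => ?_
      obtain ⟨-, ha', hat, -⟩ := hroot a ha
      obtain ⟨-, hb', hbt, -⟩ := hroot b hb
      refine C.inj a ha' b hb' ?_
      have := congrArg (el f x y q) hab
      rw [← hφe a ha' hat, ← hφe b hb' hbt] at this
      exact mul_left_cancel (mul_right_cancel this)
    have hsub : (roots e d m t 4).map φ ⊆ roots e d m w w := by
      intro c hc
      obtain ⟨a, ha, rfl⟩ := List.mem_map.1 hc
      exact (hroot a ha).1
    have := (hndm.subperm hsub).length_le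
    rw [List.length_map] at this
    omega

end Coords

/-- **The type.** -/
theorem type_zero [IsSimpleGroup G] (hna : ¬ IsMulCommutative G) (he : e < 2) (hd : d < 2)
    (hm : m < 2) (C : Coords e d m (P : Subgroup G) f x y q) :
    e = 0 ∧ d = 0 ∧ m = 0 ∧ IsConj (el f x y q 4) (el f x y q 8) := by
  obtain ⟨h44, h88, h12, h812, h128, hcj⟩ := four_eight e he d hd m hm
  have h8c : IsConj (el f x y q 8) (el f x y q 12) := C.isConj_of_cj hcj
  suffices hA : IsConj (el f x y q 4) (el f x y q 8) by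
    rcases killed_eight e he d hd m hm with ⟨rfl, rfl, rfl⟩ | hk
    · exact ⟨rfl, rfl, rfl, hA⟩
    · simp only [Bool.and_eq_true] at hk
      exact (C.killed_false he hd hm (show 8 < 64 by norm_num) (by norm_num) (by norm_num) h88
        hk.1 (by simp) hA.symm).elim
  by_contra h8
  have h12' : ¬ IsConj (el f x y q 4) (el f x y q 12) := fun h => h8 (h.trans h8c.symm)
  have hout : ∀ t < 64, t ≠ 4 → t ≠ 0 → mul e d m t t = 0 →
      IsConj (el f x y q t) (el f x y q 4) → t ≠ 8 ∧ t ≠ 12 ∧ small e d m t = true := by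
    intro t ht ht4 ht0 htt hconj
    have ht8 : t ≠ 8 := by rintro rfl; exact h8 hconj.symm
    have ht12 : t ≠ 12 := by rintro rfl; exact h12' hconj.symm
    have hcond : (isInv e d m t && t != 4 && t != 8 && t != 12) = true := by
      simp [isInv, ht0, htt, ht4, ht8, ht12]
    have := List.all_eq_true.1 (outerOk_all e he d hd m hm) t (List.mem_range.2 ht)
    rw [hcond] at this
    simp only [Bool.not_true, Bool.false_or, Bool.or_eq_true] at this
    exact ⟨ht8, ht12, this.resolve_left fun hk =>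
      C.killed_false he hd hm ht ht4 ht0 htt hk (fun _ => ⟨h8, h12'⟩) hconj⟩
  refine not_isolated hna (isolated_of_sylow P (C.orderOf_two (by norm_num) (by norm_num) h44)
    (C.le_centralizer_four he hd hm) fun g0 hg0 => ?_)
  obtain ⟨t, ht, htg⟩ := C.surj _ hg0
  by_contra hne
  have ht4 : t ≠ 4 := fun h => hne (by rw [← htg, h])
  have hto : orderOf (el f x y q t) = 2 := by
    rw [htg, ← MulAut.conj_apply, MulEquiv.orderOf_eq,
      C.orderOf_two (show 4 < 64 by norm_num) (by norm_num) h44]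
  have htt : mul e d m t t = 0 := by
    rw [← C.sq_eq_one_iff ht, ← pow_two, ← hto, pow_orderOf_eq_one]
  have ht0 : t ≠ 0 := fun h => by
    rw [h, (C.eq_one_iff (by norm_num)).2 rfl] at hto
    simp at hto
  have htc : IsConj (el f x y q t) (el f x y q 4) := (isConj_iff.2 ⟨g0, htg.symm⟩).symm
  obtain ⟨ht8, ht12, hts⟩ := hout t ht ht4 ht0 htt htc
  obtain ⟨g, hg, himg, w, hw, hw4, hw0, hww, hgw⟩ := C.image_of_extremal ht ht4 htt ht0 he hd hm htc
  have hwc : IsConj (el f x y q w) (el f x y q 4) := (isConj_iff.2 ⟨g, hgw⟩).symm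
  obtain ⟨-, -, hws⟩ := hout w hw hw4 hw0 hww hwc
  simp only [small, Bool.and_eq_true, List.all_eq_true, List.mem_range, Bool.or_eq_true,
    Bool.not_eq_true', List.contains_iff_mem] at hws
  obtain ⟨⟨⟨⟨⟨hmem, hw4c⟩, hw8c⟩, hw12c⟩, -⟩, -⟩ := hws
  -- the images of `x` and `z x` avoid the class
  have key : ∀ a, (a = 8 ∨ a = 12) → ∃ b, (b = 8 ∨ b = 12) ∧
      g * el f x y q a * g⁻¹ = el f x y q b := by
    intro a ha
    have ha64 : a < 64 := by omega
    have hac : ¬ IsConj (el f x y q a) (el f x y q 4) := by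
      rcases ha with rfl | rfl
      · exact fun h => h8 h.symm
      · exact fun h => h12' h.symm
    have hat : cm e d m a t = true := by
      simp only [small, Bool.and_eq_true] at hts
      rcases ha with rfl | rfl
      · exact hts.1.2
      · exact hts.2
    obtain ⟨b, hb, hb'⟩ := himg a ha64 hat
    have hbc : ¬ IsConj (el f x y q b) (el f x y q 4) := fun h =>
      hac ((isConj_iff.2 ⟨g, hb'⟩).trans h)
    have hbw : cm e d m b w = true := by
      refine beq_iff_eq.2 ((C.comm_iff hb hw).1 ?_)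
      rw [← hb', ← hgw]
      have hc := (C.comm_iff ha64 (show 4 < 64 by norm_num)).2 (central_four e he d hd m hm a ha64)
      calc g * el f x y q a * g⁻¹ * (g * el f x y q 4 * g⁻¹) =
          g * (el f x y q a * el f x y q 4) * g⁻¹ := by group
        _ = _ := by rw [hc]; group
    have hb2 : orderOf (el f x y q b) = 2 := by
      rw [← hb', ← MulAut.conj_apply, MulEquiv.orderOf_eq]
      rcases ha with rfl | rfl
      · exact C.orderOf_two (by norm_num) (by norm_num) h88
      · exact C.orderOf_two (by norm_num) (by norm_num) h12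
    refine ⟨b, ?_, hb'⟩
    have hb0 : b ≠ 0 := fun h => by
      rw [h, (C.eq_one_iff (by norm_num)).2 rfl] at hb2
      simp at hb2
    have := (hmem b hb).resolve_left (by simp [hbw])
    simp only [List.mem_cons, List.not_mem_nil, or_false] at this
    rcases this with rfl | rfl | rfl | rfl | rfl | rfl | rfl | rfl
    · exact absurd rfl hb0
    · exact absurd (IsConj.refl _) hbc
    · exact Or.inl rfl
    · exact Or.inr rfl
    · exact absurd hwc hbc
    · exact absurd ((C.isConj_of_cj hw4c).symm.trans hwc) hbc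
    · exact absurd ((C.isConj_of_cj hw8c).symm.trans hwc) hbc
    · exact absurd ((C.isConj_of_cj hw12c).symm.trans hwc) hbc
  obtain ⟨a, ha, hga⟩ := key 8 (Or.inl rfl)
  obtain ⟨b, hb, hgb⟩ := key 12 (Or.inr rfl)
  have hab : a ≠ b := fun h => by
    subst h
    have := C.inj 8 (by norm_num) 12 (by norm_num)
      (mul_left_cancel (mul_right_cancel (hga.trans hgb.symm)))
    omega
  have e4 : g * el f x y q 4 * g⁻¹ = el f x y q 4 := by
    conv_lhs => rw [← h812, ← C.toRel.el_mul]
    calc g * (el f x y q 8 * el f x y q 12) * g⁻¹ =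
        g * el f x y q 8 * g⁻¹ * (g * el f x y q 12 * g⁻¹) := by group
      _ = el f x y q 4 := by
        rw [hga, hgb, C.toRel.el_mul]
        rcases ha with rfl | rfl <;> rcases hb with rfl | rfl
        · exact absurd rfl hab
        · rw [h812]
        · rw [h128]
        · exact absurd rfl hab
  exact hw4 (C.inj w hw 4 (by norm_num) (hgw.symm.trans e4))

end CfsgLib.Recog.M12Eight
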